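import Mathlib
import Cfsg.Agent.OddHalf.D4.Spor.Sheet

/-!
# ODD half, D4, sporadic components: the fact sheet is invariant under isomorphisms
-/

set_option autoImplicit false

namespace Cfsg.Agent.OddHalf.D4.Spor

open Subgroup

variable {X Y : Type*} [Group X] [Group Y]

theorem isPGroup_map_iff (e : X ≃* Y) {P : Subgroup X} : IsPGroup 2 ↥(P.map e.toMonoidHom) ↔ IsPGroup 2 ↥P := by
  constructor
  · intro h
    have h1 := h.map e.symm.toMonoidHom
    have h2 : (P.map e.toMonoidHom).map e.symm.toMonoidHom = P := by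
      rw [Subgroup.map_map]
      have : e.symm.toMonoidHom.comp e.toMonoidHom = MonoidHom.id X := by ext x; simp
      rw [this, Subgroup.map_id]
    rwa [h2] at h1
  · intro h; exact h.map _

theorem map_map_symm (e : X ≃* Y) (P : Subgroup Y) : (P.map e.symm.toMonoidHom).map e.toMonoidHom = P := by
  rw [Subgroup.map_map]
  have : e.toMonoidHom.comp e.symm.toMonoidHom = MonoidHom.id Y := by ext x; simp
  rw [this, Subgroup.map_id]

theorem map_symm_map (e : X ≃* Y) (P : Subgroup X) : (P.map e.toMonoidHom).map e.symm.toMonoidHom = P := by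
  rw [Subgroup.map_map]
  have : e.symm.toMonoidHom.comp e.toMonoidHom = MonoidHom.id X := by ext x; simp
  rw [this, Subgroup.map_id]

theorem mem_map_symm (e : X ≃* Y) (P : Subgroup Y) (x : X) : x ∈ P.map e.symm.toMonoidHom ↔ e x ∈ P := by
  constructor
  · rintro ⟨y, hy, rfl⟩
    have : e (e.symm.toMonoidHom y) = y := e.apply_symm_apply y
    rw [this]; exact hy
  · intro h
    exact ⟨e x, h, e.symm_apply_apply x⟩

/-- the image of a Sylow subgroup -/
theorem exists_sylow_map (e : X ≃* Y) (S : Sylow 2 X) :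
    ∃ T : Sylow 2 Y, ∀ x : X, e x ∈ T ↔ x ∈ S := by
  refine ⟨⟨(S : Subgroup X).map e.toMonoidHom, S.isPGroup'.map _, ?_⟩, ?_⟩
  · intro Q hQ hle
    have h1 : (S : Subgroup X) ≤ Q.map e.symm.toMonoidHom := by
      intro x hx
      rw [mem_map_symm]
      exact hle ⟨x, hx, rfl⟩
    have h2 := S.is_maximal' (hQ.map e.symm.toMonoidHom) h1
    rw [← h2, map_map_symm]
  · intro x
    constructor
    · rintro ⟨z, hz, hzx⟩
      have : z = x := e.injective hzx
      rw [← this]; exact hz
    · intro hx
      exact ⟨x, hx, rfl⟩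

theorem Cen.map (e : X ≃* Y) {w : X} (h : Cen w) : Cen (e w) := by
  obtain ⟨S, hS⟩ := h
  obtain ⟨T, hT⟩ := exists_sylow_map e S
  refine ⟨T, fun t ht => ?_⟩
  obtain ⟨x, rfl⟩ := e.surjective t
  rw [← map_mul, hS x ((hT x).mp ht), map_mul]

theorem cen_iff (e : X ≃* Y) {w : X} : Cen (e w) ↔ Cen w := by
  constructor
  · intro h
    have := Cen.map e.symm h
    rwa [e.symm_apply_apply] at this
  · exact Cen.map e

theorem Inn.map (e : X ≃* Y) {α : MulAut X} (h : Inn α) : Inn (MulAut.congr e α) := by
  obtain ⟨k, rfl⟩ := h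
  refine ⟨e k, ?_⟩
  ext y
  simp [MulAut.congr, MulAut.conj_apply]

theorem congr_apply (e : X ≃* Y) (α : MulAut Y) (x : X) : e ((MulAut.congr e.symm α) x) = α (e x) := by
  simp [MulAut.congr]

theorem inn_iff (e : X ≃* Y) {α : MulAut Y} : Inn (MulAut.congr e.symm α) ↔ Inn α := by
  constructor
  · intro h
    have := Inn.map e h
    have h2 : MulAut.congr e (MulAut.congr e.symm α) = α := by ext y; simp [MulAut.congr]
    rwa [h2] at this
  · exact Inn.map e.symm

theorem perfect_map (f : X →* Y) {P : Subgroup X} (h : ⁅P, P⁆ = P) : ⁅P.map f, P.map f⁆ = P.map f := by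
  rw [← Subgroup.map_commutator, h]

theorem BadB.map_symm (e : X ≃* Y) {B D : Subgroup Y} (h : BadB B D) :
    BadB (B.map e.symm.toMonoidHom) (D.map e.symm.toMonoidHom) where
  four := by
    have : Nat.card ↥(B.map e.symm.toMonoidHom) = Nat.card ↥B :=
      (Nat.card_congr (B.equivMapOfInjective e.symm.toMonoidHom e.symm.injective).toEquiv).symm
    rw [this]; exact h.four
  non := by
    intro b hb hbb hb1 hc
    rw [mem_map_symm] at hb
    refine h.non (e b) hb (by rw [← map_mul, hbb, map_one]) ?_ (Cen.map e hc)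
    intro h1
    apply hb1
    apply e.injective
    rw [h1, map_one]
  cent := by
    intro b hb hbb hb1 c hc
    rw [mem_map_symm] at hb ⊢
    refine h.cent (e b) hb (by rw [← map_mul, hbb, map_one]) ?_ (e c) (by rw [← map_mul, hc, map_mul])
    intro h1
    apply hb1
    apply e.injective
    rw [h1, map_one]
  norm := by
    intro d hd n hn
    rw [mem_map_symm] at hd hn ⊢
    rw [map_mul, map_mul, map_inv]
    exact h.norm _ hd _ hn
  noSyl := by
    intro S hS
    obtain ⟨T, hT⟩ := exists_sylow_map e S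
    apply h.noSyl T
    intro y hy
    obtain ⟨x, rfl⟩ := e.surjective y
    exact (mem_map_symm e D x).mp (hS ((hT x).mp hy))
  four_group := by
    intro hinn
    obtain ⟨a, ha, b, hb, haa, ha1, hbb, hb1, hne, hab⟩ := h.four_group (fun α => (inn_iff e).mp (hinn _))
    have key : ∀ c : Y, c ≠ 1 → e.symm c ≠ 1 := by
      intro c hc h1
      apply hc
      rw [← e.apply_symm_apply c, h1, map_one]
    refine ⟨e.symm a, ⟨a, ha, rfl⟩, e.symm b, ⟨b, hb, rfl⟩, by rw [← map_mul, haa, map_one], key a ha1,
      by rw [← map_mul, hbb, map_one], key b hb1, fun h1 => hne (e.symm.injective h1), by rw [← map_mul, hab, map_mul]⟩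

theorem SwapIn.map (e : X ≃* Y) {V L : Subgroup X} (h : SwapIn V L) :
    SwapIn (V.map e.toMonoidHom) (L.map e.toMonoidHom) := by
  obtain ⟨v, hv, hv1, hvL, v', hv', c, hc, hcc⟩ := h
  refine ⟨e v, ⟨v, hv, rfl⟩, ?_, ⟨v, hvL, rfl⟩, e v', ⟨v', hv', rfl⟩, e c, ?_, ?_⟩
  · intro h1
    apply hv1
    apply e.injective
    rw [h1, map_one]
  · rw [← map_mul, hc, map_mul]
  · rw [← map_mul, ← map_inv, ← map_mul, ← map_inv, ← map_mul, hcc]

theorem Sig.map (e : X ≃* Y) {V L : Subgroup X} (h : Sig V L) :
    Sig (V.map e.toMonoidHom) (L.map e.toMonoidHom) := by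
  let f : ↥L ≃* ↥(L.map e.toMonoidHom) := L.equivMapOfInjective e.toMonoidHom e.injective
  have hf : ∀ l : ↥L, ((f l : ↥(L.map e.toMonoidHom)) : Y) = e (l : X) := fun l =>
    L.coe_equivMapOfInjective_apply _ e.injective l
  constructor
  · rintro _ ⟨v, hv, rfl⟩ hvv hv1
    have h1 : v * v = 1 := by
      apply e.injective
      rw [map_mul, map_one]; exact hvv
    have h2 : v ≠ 1 := by
      rintro rfl
      exact hv1 (map_one _)
    obtain ⟨k, l, hl1, hk, hl⟩ := h.conj v hv h1 h2
    refine ⟨e k, f l, ?_, ?_, Cen.map f hl⟩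
    · rw [hf]
      intro h3
      apply hl1
      apply e.injective
      rw [h3, map_one]
    · rw [hf]
      show e k * e v * (e k)⁻¹ = e v * e l
      rw [← map_mul, ← map_inv, ← map_mul, hk, map_mul]
  · intro l hll hl1 hl
    obtain ⟨l', rfl⟩ := f.surjective l
    rw [hf]
    apply Cen.map
    apply h.cen l'
    · apply f.injective
      rw [map_mul, map_one]; exact hll
    · rintro rfl
      exact hl1 (map_one _)
    · exact (cen_iff f).mp hl

theorem VFacts.map (e : X ≃* Y) {V L : Subgroup X} (h : VFacts V L) :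
    VFacts (V.map e.toMonoidHom) (L.map e.toMonoidHom) where
  comm := by
    rintro _ ⟨a, ha, rfl⟩ _ ⟨b, hb, rfl⟩
    rw [← map_mul, h.comm a ha b hb, map_mul]
  perf := perfect_map _ h.perf
  cent := by
    rintro _ ⟨a, ha, rfl⟩ _ ⟨b, hb, rfl⟩
    rw [← map_mul, h.cent a ha b hb, map_mul]
  max := by
    intro P hP hPV
    have h1 := h.max (P.map e.symm.toMonoidHom) (perfect_map _ hP) (by
      rintro _ ⟨l, hl, rfl⟩ v hv
      apply e.injective
      have h2 := hPV l hl (e v) ⟨v, hv, rfl⟩
      rw [map_mul, map_mul]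
      have h3 : e (e.symm.toMonoidHom l) = l := e.apply_symm_apply l
      rw [h3]; exact h2)
    have h2 := Subgroup.map_mono (f := e.toMonoidHom) h1
    rwa [map_map_symm] at h2
  kill := h.kill.imp (SwapIn.map e) (Sig.map e)

/-- **The fact sheet is invariant under isomorphisms.** -/
theorem Sheet.of_equiv (e : X ≃* Y) (h : Sheet X) : Sheet Y where
  out := by
    intro h1
    apply h.out
    have h2 : ((MulAut.conj : X →* MulAut X).range.map ((MulAut.congr e : MulAut X ≃* MulAut Y) : MulAut X →* MulAut Y))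
        = (MulAut.conj : Y →* MulAut Y).range := by
      ext α
      constructor
      · rintro ⟨_, ⟨k, rfl⟩, rfl⟩
        refine ⟨e k, ?_⟩
        ext y
        simp [MulAut.congr, MulAut.conj_apply]
      · rintro ⟨k, rfl⟩
        refine ⟨MulAut.conj (e.symm k), ⟨e.symm k, rfl⟩, ?_⟩
        ext y
        simp [MulAut.congr, MulAut.conj_apply]
    rw [← h2, index_map_equiv] at h1
    exact h1
  schreier := by
    intro P hP α hα
    have h1 := h.schreier (P.map ((MulAut.congr e.symm : MulAut Y ≃* MulAut X)).toMonoidHom) (perfect_map _ hP)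
    obtain ⟨k, hk⟩ := h1 ⟨α, hα, rfl⟩
    have h2 : Inn α := by
      rw [← inn_iff e]
      exact ⟨k, hk.symm⟩
    obtain ⟨y, hy⟩ := h2
    exact ⟨y, hy.symm⟩
  sylAut := by
    intro S α hα hS
    obtain ⟨T, hT⟩ := exists_sylow_map e.symm S
    rw [← inn_iff e]
    apply h.sylAut T
    · have := hα.map ((MulAut.congr e.symm : MulAut Y ≃* MulAut X)).toMonoidHom
      rw [MonoidHom.map_zpowers] at this
      exact this
    · intro x hx
      have hx' : e x ∈ S := by
        have h3 : e.symm (e x) ∈ T := by rwa [e.symm_apply_apply]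
        exact (hT (e x)).mp h3
      apply e.injective
      rw [congr_apply]
      exact hS _ hx'
  z1 := by
    intro S a ha haa ha1 hac b hb hbb hb1 hbc
    obtain ⟨T, hT⟩ := exists_sylow_map e.symm S
    have key : ∀ c ∈ S, c * c = 1 → c ≠ 1 → (∀ s ∈ S, s * c = c * s) →
        e.symm c ∈ T ∧ e.symm c * e.symm c = 1 ∧ e.symm c ≠ 1 ∧ ∀ s ∈ T, s * e.symm c = e.symm c * s := by
      intro c hc hcc hc1 hcc'
      refine ⟨(hT c).mpr hc, ?_, ?_, ?_⟩
      · rw [← map_mul, hcc, map_one]
      · intro h1
        apply hc1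
        rw [← e.apply_symm_apply c, h1, map_one]
      · intro s hs
        obtain ⟨y, rfl⟩ := e.symm.surjective s
        rw [← map_mul, hcc' y ((hT y).mp hs), map_mul]
    obtain ⟨a1, a2, a3, a4⟩ := key a ha haa ha1 hac
    obtain ⟨b1, b2, b3, b4⟩ := key b hb hbb hb1 hbc
    exact e.symm.injective (h.z1 T _ a1 a2 a3 a4 _ b1 b2 b3 b4)
  bal := by
    intro a haa ha1 I hI hn ho
    have h1 := h.bal (e.symm a) (by rw [← map_mul, haa, map_one]) (by
      intro h1
      apply ha1
      rw [← e.apply_symm_apply a, h1, map_one]) (I.map e.symm.toMonoidHom) (by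
      rintro _ ⟨i, hi, rfl⟩
      show e.symm i * e.symm a = e.symm a * e.symm i
      rw [← map_mul, hI i hi, map_mul]) (by
      rintro c hc _ ⟨i, hi, rfl⟩
      rw [mem_map_symm]
      have h2 : e c * a = a * e c := by
        have := congrArg e hc
        rw [map_mul, map_mul, e.apply_symm_apply] at this
        exact this
      have h3 := hn (e c) h2 i hi
      rw [map_mul, map_mul, map_inv]
      have h4 : e (e.symm.toMonoidHom i) = i := e.apply_symm_apply i
      rw [h4]; exact h3) (by
      have : Nat.card ↥(I.map e.symm.toMonoidHom) = Nat.card ↥I :=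
        (Nat.card_congr (I.equivMapOfInjective e.symm.toMonoidHom e.symm.injective).toEquiv).symm
      rw [this]; exact ho)
    have h2 := congrArg (Subgroup.map e.toMonoidHom) h1
    rwa [map_map_symm, Subgroup.map_bot] at h2
  out2 := by
    intro α ho hα w hww hw1 hwc hαw hC N hwN hN hnorm hcard
    refine h.out2 (MulAut.congr e.symm α) ((inn_iff e).not.mpr ho) (by rw [← map_mul, hα, map_one]) (e.symm w)
      (by rw [← map_mul, hww, map_one]) ?_ ?_ ?_ ?_ (N.map e.symm.toMonoidHom) ⟨w, hwN, rfl⟩ ?_ ?_ ?_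
    · intro h1
      apply hw1
      rw [← e.apply_symm_apply w, h1, map_one]
    · intro h1
      apply hwc
      have := Cen.map e h1
      rwa [e.apply_symm_apply] at this
    · apply e.injective
      rw [congr_apply, e.apply_symm_apply, hαw]
    · intro c hc
      have h2 : e c * w = w * e c := by
        have := congrArg e hc
        rw [map_mul, map_mul, e.apply_symm_apply] at this
        exact this
      rcases hC (e c) h2 with h3 | h3
      · left
        apply e.injective
        rw [congr_apply, h3]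
      · right
        apply e.injective
        rw [congr_apply, h3, map_mul, e.apply_symm_apply]
    · rintro _ ⟨n, hn, rfl⟩
      apply e.injective
      rw [congr_apply]
      have h4 : e (e.symm.toMonoidHom n) = n := e.apply_symm_apply n
      rw [h4]; exact hN n hn
    · rintro c hc _ ⟨n, hn, rfl⟩
      rw [mem_map_symm]
      have h4 : e (e.symm.toMonoidHom n) = n := e.apply_symm_apply n
      rw [map_mul, map_mul, map_inv, h4]
      apply hnorm _ _ n hn
      rw [← congr_apply, hc]
    · have : Nat.card ↥(N.map e.symm.toMonoidHom) = Nat.card ↥N :=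
        (Nat.card_congr (N.equivMapOfInjective e.symm.toMonoidHom e.symm.injective).toEquiv).symm
      rw [this]; exact hcard
  tab := by
    intro B D hB V hVB hV hmax h4
    have hcV : Nat.card ↥(V.map e.symm.toMonoidHom) = Nat.card ↥V :=
      (Nat.card_congr (V.equivMapOfInjective e.symm.toMonoidHom e.symm.injective).toEquiv).symm
    obtain ⟨L, hL⟩ := h.tab (B.map e.symm.toMonoidHom) (D.map e.symm.toMonoidHom) (hB.map_symm e)
      (V.map e.symm.toMonoidHom) (Subgroup.map_mono hVB) (hV.map _) (by
        intro P hP hVP hPB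
        have h1 := hmax (P.map e.toMonoidHom) (hP.map _) (by
          intro v hv
          exact ⟨e.symm v, hVP ⟨v, hv, rfl⟩, e.apply_symm_apply v⟩) (by
          rintro _ ⟨p, hp, rfl⟩
          exact (mem_map_symm e B p).mp (hPB hp))
        rw [← h1]
        exact (map_symm_map e P).symm) (by rw [hcV]; exact h4)
    refine ⟨L.map e.toMonoidHom, ?_⟩
    have h2 := hL.map e
    rwa [map_map_symm] at h2

end Cfsg.Agent.OddHalf.D4.Spor
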