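import Cfsg.Agent.OddHalf.D4.Spor.HeOf
import Cfsg.Agent.OddHalf.D4.Spor.Transport
import Cfsg.Agent.OddHalf.UT5.KBasic
import Cfsg.Agent.KFacts.TwoSix.Sheet
import Cfsg.Agent.KFacts.He.Classes
import Cfsg.Agent.KFacts.He.Cent
import Cfsg.Agent.KFacts.He.TwoA
import Cfsg.Agent.KFacts.He.TwoAAut

/-!
# ODD half, D4: the fact sheet of the Held group, from the Schreier property (helper40)
-/

set_option autoImplicit false

namespace Cfsg.Agent.OddHalf.D4.Spor.HeSheet

open Subgroup Cfsg.Agent.OddHalf.D8 Cfsg.Agent.OddHalf.D4.Spor Cfsg.Agent.OddHalf.D4.Spor.HeOf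
  Cfsg.Agent.SporadicRecognition.HeldModel

/-- no non-trivial normal subgroup of odd order in `2^{1+6}:L3(2)` -/
theorem bal_of_sheet {G : Type*} [Group G] {z : G} {P R E E' : Subgroup G}
    (h : KFacts.TwoSix.SheetDef.Sheet z P R E E') (hP : ∀ x : G, x * z = z * x → x ∈ P) :
    ∀ I : Subgroup G, (∀ i ∈ I, i * z = z * i) →
      (∀ c : G, c * z = z * c → ∀ i ∈ I, c * i * c⁻¹ ∈ I) → Odd (Nat.card ↥I) → I = ⊥ := by
  intro I h1 h2 h3
  have hcop : Nat.Coprime (Nat.card I) (Nat.card R) := by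
    rw [h.cardR]
    exact Nat.Coprime.pow_right 7 h3.coprime_two_right
  have hRI : ∀ x : G, x ∈ R → x ∈ I → x = 1 := fun x hx hxI =>
    (Subgroup.disjoint_def.1 (Subgroup.disjoint_of_coprime_natCard hcop)) hxI hx
  rw [eq_bot_iff]
  intro x hx
  have hxP : x ∈ P := hP x (h1 x hx)
  have hc : ∀ r ∈ R, x * r = r * x := by
    intro r hr
    have a1 : x * r * x⁻¹ * r⁻¹ ∈ R := mul_mem (h.norR x hxP r hr) (inv_mem hr)
    have a2 : x * r * x⁻¹ * r⁻¹ ∈ I := by
      have := mul_mem hx (h2 r (h.cz r (h.RP hr)) x⁻¹ (inv_mem hx))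
      convert this using 1
      group
    calc x * r = (x * r * x⁻¹ * r⁻¹) * r * x := by group
      _ = r * x := by rw [hRI _ a1 a2, one_mul]
  rw [mem_bot]
  rcases h.cR x hxP hc with e | e
  · exact e
  · exact hRI x (by rw [e]; exact h.h1.ER h.h1.zE) hx

theorem bal_of_hyp {G : Type*} [Group G] {z : G} {ι : CC →* G} (h : Hyp z ι) :
    ∀ I : Subgroup G, (∀ i ∈ I, i * z = z * i) →
      (∀ c : G, c * z = z * c → ∀ i ∈ I, c * i * c⁻¹ ∈ I) → Odd (Nat.card ↥I) → I = ⊥ := by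
  have h1 := KFacts.TwoSix.Sheet.sheet_of h.inj
  rw [h.map_zz] at h1
  exact bal_of_sheet h1 fun x hx => (UT5.KBasic.mem_range h).2 hx

open Cfsg.Agent.KFacts.He.Lv Cfsg.Agent.KFacts.He.TwoACent in
/-- the centralizer of the generator `a` -/
theorem twoA : TwoA (gn .a) KFacts.He.TwoACent.V KFacts.He.TwoACent.L where
  vv := gn_mul_self .a
  v1 := a_ne_one
  vV := a_mem_V
  cardV := card_V
  VL := V_le_L
  comm := fun l hl x hx => mem_V.1 hx l hl
  perf := perf
  cen := fun x hx => mem_V.2 fun l hl => (hx l hl).symm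
  norm := fun c hc l hl => norm hc hl
  two := fun c d hc hd => two hc hd
  simp := fun N hN hn => KFacts.He.TwoA.normal_cases hN hn
  swap := ⟨v, v_mem_V, s, s_comm_a, s_conj_v⟩

/-- the sheet of the Held group, from the Schreier property -/
theorem sheet_of_sch (hs : Schreier.Basic.Sch Cfsg.Spor.He) : Spor.Sheet Cfsg.Spor.He := by
  have := KFacts.He.Cent.simpleHe
  have := KFacts.He.Hyp.finHe
  refine sheet_of (UT5.KBasic.basic KFacts.He.Hyp.hyp hs) twoA (bal_of_hyp KFacts.He.Hyp.hyp)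
    (fun w h1 h2 => KFacts.He.Classes.two_classes_a h1 h2) ?_ ?_
  · obtain ⟨g, hg⟩ := KFacts.He.Classes.z_d
    exact ⟨g, by rw [hg]; exact KFacts.He.TwoACent.gn_mem_L (by simp)⟩
  · intro α hα
    obtain ⟨k, -, hk⟩ := KFacts.He.TwoAAut.aut_eq (α := α) hα
    exact ⟨k, MulEquiv.ext fun x => by rw [hk, MulAut.conj_apply]⟩

end Cfsg.Agent.OddHalf.D4.Spor.HeSheet
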