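import Cfsg.Agent.KFacts.LargeSheet
import Cfsg.Agent.OddHalf.D4.Spor.Transport

/-!
# ODD half, D4, sporadic components: the sheet of a group with a large extraspecial subgroup (helper667)

`K` with `KFacts.LargeSheet.Data Q z L π` (every automorphism of `K` is inner, the centre of a Sylow 2-subgroup is
conjugate to `⟨z⟩`, `C_K(Q) = ⟨z⟩`):

* `of_data`: the sheet from `O(C(w)) = 1` and the impossibility of `BadB` (or `tab`);
* `Quasi`: `C(t)/⟨t⟩` simple, `z ∈ C(t)`; `Quasi.odd_eq_bot`, `Quasi.not_bad`: the two facts for the conjugates of `t`;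
* `of_two_classes`: the sheet of a group of Monster type.
-/

set_option autoImplicit false

namespace Cfsg.Agent.OddHalf.D4.Spor.LargeBase

open Subgroup Cfsg.Agent.Co2Type.Quad Cfsg.Agent.LargeExtra.Base Cfsg.Agent.KFacts

variable {K : Type*} [Group K]

theorem conj_mul_self {k w : K} (h : w * w = 1) : k * w * k⁻¹ * (k * w * k⁻¹) = 1 := by
  calc k * w * k⁻¹ * (k * w * k⁻¹) = k * (w * w) * k⁻¹ := by group
    _ = 1 := by rw [h, mul_one, mul_inv_cancel]

theorem conj_ne_one {k w : K} (h : w ≠ 1) : k * w * k⁻¹ ≠ 1 := fun h1 => h (by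
  calc w = k⁻¹ * (k * w * k⁻¹) * k := by group
    _ = 1 := by rw [h1]; group)

/-- conjugates of 2-central elements -/
theorem cen_conj {w : K} (k : K) (h : Cen w) : Cen (k * w * k⁻¹) := by
  have := Cen.map (MulAut.conj k : K ≃* K) h
  exact this

theorem cen_of_conj {w k : K} (h : Cen (k * w * k⁻¹)) : Cen w := by
  have := cen_conj k⁻¹ h
  have h1 : k⁻¹ * (k * w * k⁻¹) * k⁻¹⁻¹ = w := by group
  rwa [h1] at this

/-- `I ≤ C(a)` normalized by `C(a)`: the property is invariant under conjugation. -/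
theorem conj_normal {a k : K} {I : Subgroup K} (h1 : ∀ i ∈ I, i * (k * a * k⁻¹) = k * a * k⁻¹ * i)
    (h2 : ∀ c : K, c * (k * a * k⁻¹) = k * a * k⁻¹ * c → ∀ i ∈ I, c * i * c⁻¹ ∈ I) :
    (∀ i ∈ I.map (MulAut.conj k⁻¹ : K ≃* K).toMonoidHom, i * a = a * i) ∧
    (∀ c : K, c * a = a * c → ∀ i ∈ I.map (MulAut.conj k⁻¹ : K ≃* K).toMonoidHom,
      c * i * c⁻¹ ∈ I.map (MulAut.conj k⁻¹ : K ≃* K).toMonoidHom) := by
  constructor
  · rintro _ ⟨i, hi, rfl⟩
    show k⁻¹ * i * k⁻¹⁻¹ * a = a * (k⁻¹ * i * k⁻¹⁻¹)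
    calc k⁻¹ * i * k⁻¹⁻¹ * a = k⁻¹ * (i * (k * a * k⁻¹)) * k := by group
      _ = k⁻¹ * (k * a * k⁻¹ * i) * k := by rw [h1 i hi]
      _ = a * (k⁻¹ * i * k⁻¹⁻¹) := by group
  · rintro c hc _ ⟨i, hi, rfl⟩
    refine ⟨k * c * k⁻¹ * i * (k * c * k⁻¹)⁻¹, h2 _ ?_ i hi, ?_⟩
    · calc k * c * k⁻¹ * (k * a * k⁻¹) = k * (c * a) * k⁻¹ := by group
        _ = k * (a * c) * k⁻¹ := by rw [hc]
        _ = k * a * k⁻¹ * (k * c * k⁻¹) := by group
    · show k⁻¹ * (k * c * k⁻¹ * i * (k * c * k⁻¹)⁻¹) * k⁻¹⁻¹ = c * (k⁻¹ * i * k⁻¹⁻¹) * c⁻¹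
      group

/-- `O(C(a)) = 1` for `a = k z k⁻¹` -/
theorem odd_eq_bot_of_conj {a : K}
    (h : ∀ I : Subgroup K, (∀ i ∈ I, i * a = a * i) → (∀ c : K, c * a = a * c → ∀ i ∈ I, c * i * c⁻¹ ∈ I) →
      Odd (Nat.card ↥I) → I = ⊥) (k : K) (I : Subgroup K) (h1 : ∀ i ∈ I, i * (k * a * k⁻¹) = k * a * k⁻¹ * i)
    (h2 : ∀ c : K, c * (k * a * k⁻¹) = k * a * k⁻¹ * c → ∀ i ∈ I, c * i * c⁻¹ ∈ I)
    (ho : Odd (Nat.card ↥I)) : I = ⊥ := by
  obtain ⟨h3, h4⟩ := conj_normal h1 h2
  have h5 : Nat.card ↥(I.map (MulAut.conj k⁻¹ : K ≃* K).toMonoidHom) = Nat.card ↥I :=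
    (Nat.card_congr (I.equivMapOfInjective (MulAut.conj k⁻¹ : K ≃* K).toMonoidHom
      (MulAut.conj k⁻¹ : K ≃* K).injective).toEquiv).symm
  have h6 := h _ h3 h4 (by rw [h5]; exact ho)
  exact (Subgroup.map_eq_bot_iff_of_injective I (MulAut.conj k⁻¹ : K ≃* K).injective).1 h6

/-- `Bad` is invariant under conjugation. -/
theorem bad_conj {a k : K} {N : Subgroup K} (h : Bad (k * a * k⁻¹) N) :
    Bad a (N.map (MulAut.conj k⁻¹ : K ≃* K).toMonoidHom) := by
  obtain ⟨h3, h4⟩ := conj_normal h.le h.norm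
  refine ⟨?_, ?_, ⟨_, h.mem, ?_⟩, h3, h4, ?_, ?_⟩
  · calc a * a = k⁻¹ * (k * a * k⁻¹ * (k * a * k⁻¹)) * k := by group
      _ = 1 := by rw [h.sq]; group
  · rintro rfl
    exact h.ne (by group)
  · show k⁻¹ * (k * a * k⁻¹) * k⁻¹⁻¹ = a
    group
  · have h5 : Nat.card ↥(N.map (MulAut.conj k⁻¹ : K ≃* K).toMonoidHom) = Nat.card ↥N :=
      (Nat.card_congr (N.equivMapOfInjective (MulAut.conj k⁻¹ : K ≃* K).toMonoidHom
        (MulAut.conj k⁻¹ : K ≃* K).injective).toEquiv).symm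
    rw [h5]; exact h.four
  · rintro _ ⟨b, hb, rfl⟩ hbb hb1 hc
    have h5 : (MulAut.conj k⁻¹ : K ≃* K).toMonoidHom b = k⁻¹ * b * k⁻¹⁻¹ := rfl
    rw [h5] at hbb hb1 hc
    have h6 : k * (k⁻¹ * b * k⁻¹⁻¹) * k⁻¹ = b := by group
    refine h.non b hb ?_ ?_ ?_
    · rw [← h6]; exact conj_mul_self hbb
    · rw [← h6]; exact conj_ne_one hb1
    · rw [← h6]; exact cen_conj k hc

section data

variable {Q : Subgroup K} {z : K} {L : Type*} [Group L] {π : Subgroup.centralizer ({z} : Set K) →* L}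

theorem cen_z [Finite K] (D : LargeSheet.Data Q z L π) : Cen z := by
  obtain ⟨S, -, -, h⟩ := D.exists_sylow
  exact ⟨S, h⟩

/-- an involution in the centre of a Sylow 2-subgroup -/
theorem z1 [Finite K] (D : LargeSheet.Data Q z L π) (S : Sylow 2 K) (a : K) (_haS : a ∈ S) (_haa : a * a = 1)
    (ha1 : a ≠ 1) (ha : ∀ s ∈ S, s * a = a * s) (b : K) (_hbS : b ∈ S) (_hbb : b * b = 1) (hb1 : b ≠ 1)
    (hb : ∀ s ∈ S, s * b = b * s) : a = b := by
  have : Fact (Nat.Prime 2) := ⟨Nat.prime_two⟩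
  obtain ⟨T, hzT, hQT, hT⟩ := D.exists_sylow
  obtain ⟨g, hg⟩ := MulAction.exists_smul_eq K S T
  have key : ∀ c : K, (∀ s ∈ S, s * c = c * s) → c ≠ 1 → g * c * g⁻¹ = z := by
    intro c hc hc1
    rcases D.sylow_center hzT hQT (y := g * c * g⁻¹) (by
      intro y hy
      rw [← hg, Sylow.smul_def] at hy
      obtain ⟨s, hs, rfl⟩ := hy
      show g * s * g⁻¹ * (g * c * g⁻¹) = g * c * g⁻¹ * (g * s * g⁻¹)
      calc g * s * g⁻¹ * (g * c * g⁻¹) = g * (s * c) * g⁻¹ := by group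
        _ = g * (c * s) * g⁻¹ := by rw [hc s hs]
        _ = g * c * g⁻¹ * (g * s * g⁻¹) := by group) with h | h
    · exact absurd h (conj_ne_one hc1)
    · exact h
  have h1 := key a ha ha1
  have h2 := key b hb hb1
  rw [← h2] at h1
  exact mul_left_cancel (mul_right_cancel h1)

/-- `O(C(z)) = 1` -/
theorem odd_eq_bot_z [Finite K] (D : LargeSheet.Data Q z L π) (I : Subgroup K) (h1 : ∀ i ∈ I, i * z = z * i)
    (h2 : ∀ c : K, c * z = z * c → ∀ i ∈ I, c * i * c⁻¹ ∈ I) (ho : Odd (Nat.card ↥I)) : I = ⊥ := by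
  have hpow : ∀ i ∈ I, i * i = 1 → i = 1 := by
    intro i hi hii
    have h3 : orderOf i ∣ 2 := orderOf_dvd_of_pow_eq_one (by rw [pow_two]; exact hii)
    have h4 : orderOf i ∣ Nat.card ↥I := by
      have := orderOf_dvd_natCard (⟨i, hi⟩ : ↥I)
      rwa [Subgroup.orderOf_mk] at this
    have h5 : orderOf i ∣ 1 := by
      have := Nat.dvd_gcd h3 h4
      rwa [Nat.Coprime.gcd_eq_one (Nat.coprime_two_left.2 ho)] at this
    exact orderOf_eq_one_iff.1 (Nat.dvd_one.1 h5)
  -- `I ∩ Q = 1`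
  have hIQ : ∀ i ∈ I, i ∈ Q → i = 1 := by
    intro i hi hiQ
    have h4 : (i * i) * (i * i) = 1 := by
      rcases D.large.sq i hiQ with h | h
      · rw [h, one_mul]
      · rw [h, D.large.z_sq]
    have h5 := hpow _ (I.mul_mem hi hi) h4
    exact hpow i hi h5
  rw [eq_bot_iff]
  intro i hi
  rw [Subgroup.mem_bot]
  have h3 : ∀ x ∈ Q, i * x = x * i := by
    intro x hx
    have hc : i * x * i⁻¹ * x⁻¹ = 1 := by
      apply hIQ
      · have h4 := h2 x (D.large.comm_z x hx) i⁻¹ (I.inv_mem hi)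
        have h5 : i * x * i⁻¹ * x⁻¹ = i * (x * i⁻¹ * x⁻¹) := by group
        rw [h5]
        exact I.mul_mem hi h4
      · exact Q.mul_mem (D.large.conj_mem i (h1 i hi) x hx) (Q.inv_mem hx)
    calc i * x = (i * x * i⁻¹ * x⁻¹) * x * i := by group
      _ = x * i := by rw [hc, one_mul]
  rcases LargeE.cent_eq D.large (h1 i hi) h3 with h | h
  · exact h
  · exact hpow i hi (by rw [h, D.large.z_sq])

/-- **The sheet** of a group with a large extraspecial subgroup: two facts about the other involutions are left. -/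
theorem of_data [Finite K] [IsSimpleGroup L] (D : LargeSheet.Data Q z L π)
    (bal : ∀ a : K, a * a = 1 → a ≠ 1 → (¬ ∃ k : K, k * z * k⁻¹ = a) → ∀ I : Subgroup K,
      (∀ i ∈ I, i * a = a * i) → (∀ c : K, c * a = a * c → ∀ i ∈ I, c * i * c⁻¹ ∈ I) →
      Odd (Nat.card ↥I) → I = ⊥)
    (tab : ∀ B D : Subgroup K, BadB B D → ∀ V : Subgroup K, V ≤ B → IsPGroup 2 ↥V →
      (∀ P : Subgroup K, IsPGroup 2 ↥P → V ≤ P → P ≤ B → P = V) → 4 ∣ Nat.card ↥V →
      ∃ L : Subgroup K, VFacts V L) : Sheet K where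
  out := out_of_inn fun α => D.inner α
  schreier := schreier_of_inn fun α => D.inner α
  sylAut := sylAut_of_inn fun α => D.inner α
  z1 := fun S a haS haa ha1 ha b hbS hbb hb1 hb => z1 D S a haS haa ha1 ha b hbS hbb hb1 hb
  bal := fun a haa ha1 I h1 h2 ho => by
    by_cases h : ∃ k : K, k * z * k⁻¹ = a
    · obtain ⟨k, rfl⟩ := h
      exact odd_eq_bot_of_conj (odd_eq_bot_z D) k I h1 h2 ho
    · exact bal a haa ha1 h I h1 h2 ho
  out2 := out2_of_inn fun α => D.inner α
  tab := tab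

/-- a 2-central involution is conjugate to `z` -/
theorem exists_conj_of_cen [Finite K] (D : LargeSheet.Data Q z L π) {a : K} (_haa : a * a = 1) (ha1 : a ≠ 1)
    (h : Cen a) : ∃ k : K, k * z * k⁻¹ = a := by
  have : Fact (Nat.Prime 2) := ⟨Nat.prime_two⟩
  obtain ⟨S, hS⟩ := h
  obtain ⟨T, hzT, hQT, hT⟩ := D.exists_sylow
  obtain ⟨g, hg⟩ := MulAction.exists_smul_eq K S T
  rcases D.sylow_center hzT hQT (y := g * a * g⁻¹) (by
    intro y hy
    rw [← hg, Sylow.smul_def] at hy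
    obtain ⟨s, hs, rfl⟩ := hy
    show g * s * g⁻¹ * (g * a * g⁻¹) = g * a * g⁻¹ * (g * s * g⁻¹)
    calc g * s * g⁻¹ * (g * a * g⁻¹) = g * (s * a) * g⁻¹ := by group
      _ = g * (a * s) * g⁻¹ := by rw [hS s hs]
      _ = g * a * g⁻¹ * (g * s * g⁻¹) := by group) with h | h
  · exact absurd h (conj_ne_one ha1)
  · exact ⟨g⁻¹, by rw [← h]; group⟩

end data

/-- `C(t)/⟨t⟩` is simple and contains the image of a 2-central involution `z ∈ C(t)`, `z ≠ t`. -/
structure Quasi (z t : K) : Prop where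
  tt : t * t = 1
  t1 : t ≠ 1
  zz : z * z = 1
  z1 : z ≠ 1
  tz : t ≠ z
  comm : z * t = t * z
  /-- a subgroup of `C(t)` containing `t` and normalized by `C(t)` is `⟨t⟩` or `C(t)` -/
  simple : ∀ N : Subgroup K, t ∈ N → (∀ n ∈ N, n * t = t * n) →
    (∀ c : K, c * t = t * c → ∀ n ∈ N, c * n * c⁻¹ ∈ N) →
    (∀ n ∈ N, n = 1 ∨ n = t) ∨ ∀ c : K, c * t = t * c → c ∈ N

theorem Quasi.not_bad {z t : K} (h : Quasi z t) (hz : Cen z) (N : Subgroup K) : ¬ Bad t N := by
  intro hN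
  rcases h.simple N hN.mem hN.le hN.norm with h1 | h1
  · have h2 : (N : Set K) ⊆ {1, t} := fun n hn => h1 n hn
    have h3 := Set.ncard_le_ncard h2 (Set.toFinite _)
    have h4 : ({1, t} : Set K).ncard ≤ 2 := Set.ncard_insert_le _ _ |>.trans (by rw [Set.ncard_singleton])
    have h5 : (N : Set K).ncard = Nat.card ↥N := rfl
    have h6 : 0 < Nat.card ↥N := by
      have : Finite ↥N := (Set.toFinite {1, t}).subset h2 |>.to_subtype
      exact Nat.card_pos
    have h7 := Nat.le_of_dvd h6 hN.four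
    omega
  · exact hN.non z (h1 z h.comm) h.zz h.z1 hz

theorem Quasi.odd_eq_bot [Finite K] {z t : K} (h : Quasi z t) (I : Subgroup K) (h1 : ∀ i ∈ I, i * t = t * i)
    (h2 : ∀ c : K, c * t = t * c → ∀ i ∈ I, c * i * c⁻¹ ∈ I) (ho : Odd (Nat.card ↥I)) : I = ⊥ := by
  have hti : t⁻¹ = t := inv_eq_of_mul_eq_one_left h.tt
  have hpow : ∀ i ∈ I, i * i = 1 → i = 1 := by
    intro i hi hii
    have h3 : orderOf i ∣ 2 := orderOf_dvd_of_pow_eq_one (by rw [pow_two]; exact hii)
    have h4 : orderOf i ∣ Nat.card ↥I := by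
      have := orderOf_dvd_natCard (⟨i, hi⟩ : ↥I)
      rwa [Subgroup.orderOf_mk] at this
    have h5 : orderOf i ∣ 1 := by
      have := Nat.dvd_gcd h3 h4
      rwa [Nat.Coprime.gcd_eq_one (Nat.coprime_two_left.2 ho)] at this
    exact orderOf_eq_one_iff.1 (Nat.dvd_one.1 h5)
  -- the subgroup `I⟨t⟩`
  let N : Subgroup K :=
    { carrier := {x | x ∈ I ∨ x * t ∈ I}
      one_mem' := Or.inl I.one_mem
      mul_mem' := by
        rintro a b ha hb
        rcases ha with ha | ha <;> rcases hb with hb | hb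
        · exact Or.inl (I.mul_mem ha hb)
        · exact Or.inr (by rw [mul_assoc]; exact I.mul_mem ha hb)
        · refine Or.inr ?_
          have : a * b * t = a * t * b := by rw [mul_assoc, h1 b hb, mul_assoc]
          rw [this]; exact I.mul_mem ha hb
        · refine Or.inl ?_
          have h3 := h1 _ hb
          have h4 : b * t = t * b := by
            apply mul_right_cancel (b := t)
            rw [h3, mul_assoc]
          have : a * b = a * t * (b * t) := by
            calc a * b = a * (t * t) * b := by rw [h.tt, mul_one]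
              _ = a * t * (t * b) := by group
              _ = a * t * (b * t) := by rw [h4]
          rw [this]; exact I.mul_mem ha hb
      inv_mem' := by
        rintro a ha
        rcases ha with ha | ha
        · exact Or.inl (I.inv_mem ha)
        · refine Or.inr ?_
          have h3 := h1 _ ha
          have h4 : a * t = t * a := by
            apply mul_right_cancel (b := t)
            rw [h3, mul_assoc]
          have : a⁻¹ * t = (a * t)⁻¹ := by
            rw [h4, mul_inv_rev, hti]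
          rw [this]; exact I.inv_mem ha }
  have hcomm : ∀ n ∈ N, n * t = t * n := by
    rintro n (hn | hn)
    · exact h1 n hn
    · have h3 := h1 _ hn
      apply mul_right_cancel (b := t)
      rw [h3, mul_assoc]
  rcases h.simple N (Or.inr (by rw [h.tt]; exact I.one_mem)) hcomm (by
    rintro c hc n (hn | hn)
    · exact Or.inl (h2 c hc n hn)
    · refine Or.inr ?_
      have h3 : c⁻¹ * t = t * c⁻¹ := by
        apply mul_left_cancel (a := c); apply mul_right_cancel (b := c)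
        calc c * (c⁻¹ * t) * c = t * c := by group
          _ = c * t := hc.symm
          _ = c * (t * c⁻¹) * c := by group
      have : c * n * c⁻¹ * t = c * (n * t) * c⁻¹ := by
        calc c * n * c⁻¹ * t = c * n * (c⁻¹ * t) := by group
          _ = c * n * (t * c⁻¹) := by rw [h3]
          _ = c * (n * t) * c⁻¹ := by group
      rw [this]; exact h2 c hc _ hn) with h3 | h3
  · rw [eq_bot_iff]
    intro i hi
    rw [Subgroup.mem_bot]
    rcases h3 i (Or.inl hi) with h4 | h4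
    · exact h4
    · exact hpow i hi (by rw [h4, h.tt])
  · exfalso
    rcases h3 z h.comm with h4 | h4
    · exact h.z1 (hpow z h4 h.zz)
    · have h5 : z * t * (z * t) = 1 := by
        calc z * t * (z * t) = z * (t * z) * t := by group
          _ = z * (z * t) * t := by rw [h.comm]
          _ = (z * z) * (t * t) := by group
          _ = 1 := by rw [h.zz, h.tt, mul_one]
      have h6 := hpow _ h4 h5
      apply h.tz
      have h7 := eq_inv_of_mul_eq_one_right h6
      rw [h7]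
      exact inv_eq_of_mul_eq_one_left h.zz

/-- **The sheet of a group of Monster type**: two classes of involutions, `C(t)/⟨t⟩` simple. -/
theorem of_two_classes [Finite K] {Q : Subgroup K} {z t : K} {L : Type*} [Group L] [IsSimpleGroup L]
    {π : Subgroup.centralizer ({z} : Set K) →* L} (D : LargeSheet.Data Q z L π) (h : Quasi z t)
    (cl : ∀ u : K, u * u = 1 → u ≠ 1 → (∃ k : K, k * z * k⁻¹ = u) ∨ ∃ k : K, k * t * k⁻¹ = u) : Sheet K := by
  refine of_data D ?_ (tab_of_not_bad ?_)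
  · intro a haa ha1 hne I h1 h2 ho
    rcases cl a haa ha1 with h3 | ⟨k, rfl⟩
    · exact absurd h3 hne
    · exact odd_eq_bot_of_conj h.odd_eq_bot k I h1 h2 ho
  · intro w N hN
    rcases cl w hN.sq hN.ne with ⟨k, rfl⟩ | ⟨k, rfl⟩
    · exact hN.non _ hN.mem hN.sq hN.ne (cen_conj k (cen_z D))
    · exact h.not_bad (cen_z D) _ (bad_conj hN)

end Cfsg.Agent.OddHalf.D4.Spor.LargeBase
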