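import Cfsg.Agent.OddHalf.D4.Spor.Sheet
import Cfsg.Agent.OddHalf.D8.Sheet
import Cfsg.Agent.Lib.Cores
import Cfsg.Prelude.Def_Local

/-!
# ODD half, D4, sporadic components: the fact sheet from the sheet of D8 (helper283)

`of_basic` : the D8 sheet `Sheet.Basic z P`, one class of involutions and `O(C(z)) = 1` give `Spor.Sheet`.
`of_basic_tab` : the same without the assumption on the classes, with `bal`, `out2`, `tab` as hypotheses.
`of_sheetE` : `SheetE z P R` with `|C(z) : P|` a power of two gives `O(C(z)) = 1`.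
-/

set_option autoImplicit false

namespace Cfsg.Agent.OddHalf.D4.Spor

open Subgroup Cfsg.Agent.OddHalf.D8

variable {X : Type*} [Group X]

theorem mem_smul_sylow {S : Sylow 2 X} {g s : X} : g * s * g⁻¹ ∈ g • S ↔ s ∈ S := by
  have : (g * s * g⁻¹ ∈ ((MulAut.conj g • S : Sylow 2 X) : Subgroup X)) ↔ s ∈ S := by
    rw [Sylow.pointwise_smul_def, mem_pointwise_smul_iff_inv_smul_mem, ← map_inv, MulAut.smul_def,
      MulAut.conj_apply]
    have : g⁻¹ * (g * s * g⁻¹) * g⁻¹⁻¹ = s := by group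
    rw [this]
    rfl
  exact this

/-- the elements of `g • S` are the `g s g⁻¹` -/
theorem mem_smul_sylow' {S : Sylow 2 X} {g x : X} : x ∈ g • S ↔ g⁻¹ * x * g ∈ S := by
  have h := mem_smul_sylow (S := S) (g := g) (s := g⁻¹ * x * g)
  have e : g * (g⁻¹ * x * g) * g⁻¹ = x := by group
  rwa [e] at h

theorem cen_conj {z w g : X} (hw : g * z * g⁻¹ = w) (h : Cen z) : Cen w := by
  obtain ⟨S, hS⟩ := h
  refine ⟨g • S, fun s hs => ?_⟩
  have := hS _ (mem_smul_sylow'.1 hs)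
  rw [← hw]
  calc s * (g * z * g⁻¹) = g * (g⁻¹ * s * g * z) * g⁻¹ := by group
    _ = g * (z * (g⁻¹ * s * g)) * g⁻¹ := by rw [this]
    _ = g * z * g⁻¹ * s := by group

/-- a 2-element is conjugate to an element of a subgroup of odd index -/
theorem exists_conj_mem_of_index [Finite X] {D : Subgroup X} (h : ¬ 2 ∣ D.index) {y : X}
    (hy : IsPGroup 2 ↥(zpowers y)) : ∃ g : X, g * y * g⁻¹ ∈ D := by
  have : Fact (Nat.Prime 2) := ⟨Nat.prime_two⟩
  obtain ⟨q, hq⟩ := hy.nonempty_fixed_point_of_prime_not_dvd_card (X ⧸ D) h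
  obtain ⟨g, rfl⟩ := QuotientGroup.mk_surjective q
  have h1 : (⟨y, mem_zpowers y⟩ : zpowers y) • (g : X ⧸ D) = g := hq _
  have h2 : ((y * g : X) : X ⧸ D) = g := h1
  rw [eq_comm, QuotientGroup.eq, ← mul_assoc] at h2
  refine ⟨g⁻¹, ?_⟩
  rwa [inv_inv]

theorem isPGroup_zpowers_of_sq {y : X} (h : y * y = 1) : IsPGroup 2 ↥(zpowers y) := by
  rintro ⟨a, ha⟩
  obtain ⟨i, rfl⟩ := mem_zpowers_iff.1 ha
  refine ⟨1, Subtype.ext ?_⟩
  show (y ^ i) ^ (2 ^ 1) = 1
  rw [pow_one, pow_two, ← zpow_add, ← two_mul, zpow_mul]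
  have : y ^ (2 : ℤ) = 1 := by
    rw [show (2 : ℤ) = 1 + 1 by norm_num, zpow_add, zpow_one, h]
  rw [this, one_zpow]

/-- an element whose centralizer has odd index is 2-central -/
theorem cen_of_index [Finite X] {z : X} (h : ¬ 2 ∣ (centralizer ({z} : Set X)).index) : Cen z := by
  have : Fact (Nat.Prime 2) := ⟨Nat.prime_two⟩
  obtain ⟨S⟩ : Nonempty (Sylow 2 X) := inferInstance
  obtain ⟨q, hq⟩ := S.isPGroup'.nonempty_fixed_point_of_prime_not_dvd_card
    (X ⧸ centralizer ({z} : Set X)) h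
  obtain ⟨g, rfl⟩ := QuotientGroup.mk_surjective q
  have hS : ∀ s ∈ S, (g⁻¹ * s * g) * z = z * (g⁻¹ * s * g) := by
    intro s hs
    have h1 : (⟨s, hs⟩ : S) • (g : X ⧸ centralizer ({z} : Set X)) = g := hq _
    have h2 : ((s * g : X) : X ⧸ centralizer ({z} : Set X)) = g := h1
    rw [eq_comm, QuotientGroup.eq, ← mul_assoc] at h2
    exact mem_centralizer_singleton_iff.1 h2
  refine cen_conj (z := g * z * g⁻¹) (g := g⁻¹) (by group) ⟨S, fun s hs => ?_⟩
  have := hS s hs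
  calc s * (g * z * g⁻¹) = g * (g⁻¹ * s * g * z) * g⁻¹ := by group
    _ = g * (z * (g⁻¹ * s * g)) * g⁻¹ := by rw [this]
    _ = g * z * g⁻¹ * s := by group

/-- `z1` from the centre of one Sylow subgroup -/
theorem z1_of_one [Finite X] {z : X}
    (h : ∃ S : Sylow 2 X, ∀ y ∈ S, (∀ x ∈ S, x * y = y * x) → y = 1 ∨ y = z) (S : Sylow 2 X)
    (a : X) (ha : a ∈ S) (ha1 : a ≠ 1) (hac : ∀ s ∈ S, s * a = a * s) (b : X) (hb : b ∈ S)
    (hb1 : b ≠ 1) (hbc : ∀ s ∈ S, s * b = b * s) : a = b := by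
  obtain ⟨S₀, h3⟩ := h
  obtain ⟨g, rfl⟩ := MulAction.exists_smul_eq X S₀ S
  have key : ∀ a ∈ g • S₀, a ≠ 1 → (∀ s ∈ g • S₀, s * a = a * s) → g⁻¹ * a * g = z := by
    intro a ha ha1 hac
    rcases h3 (g⁻¹ * a * g) (mem_smul_sylow'.1 ha) (fun x hx => by
      have := hac (g * x * g⁻¹) (mem_smul_sylow.2 hx)
      calc x * (g⁻¹ * a * g) = g⁻¹ * (g * x * g⁻¹ * a) * g := by group
        _ = g⁻¹ * (a * (g * x * g⁻¹)) * g := by rw [this]
        _ = g⁻¹ * a * g * x := by group) with h1 | h1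
    · exfalso
      apply ha1
      calc a = g * (g⁻¹ * a * g) * g⁻¹ := by group
        _ = 1 := by rw [h1]; group
    · exact h1
  have e1 := key a ha ha1 hac
  have e2 := key b hb hb1 hbc
  calc a = g * (g⁻¹ * a * g) * g⁻¹ := by group
    _ = g * (g⁻¹ * b * g) * g⁻¹ := by rw [e1, e2]
    _ = b := by group

/-- `sylAut` from one Sylow subgroup -/
theorem sylAut_of_one [Finite X] {S₀ : Sylow 2 X}
    (h : ∀ α : MulAut X, IsPGroup 2 ↥(zpowers α) → (∀ x ∈ S₀, α x = x) → Inn α) (S : Sylow 2 X)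
    (α : MulAut X) (hα : IsPGroup 2 ↥(zpowers α)) (hS : ∀ x ∈ S, α x = x) : Inn α := by
  obtain ⟨g, rfl⟩ := MulAction.exists_smul_eq X S₀ S
  let β : MulAut X := (MulAut.conj g)⁻¹ * α * MulAut.conj g
  have hβ : IsPGroup 2 ↥(zpowers β) := by
    have e : zpowers β = (zpowers α).map (MulAut.conj (MulAut.conj g)⁻¹).toMonoidHom := by
      rw [MonoidHom.map_zpowers]
      congr 1
    rw [e]
    exact hα.map _
  obtain ⟨k, hk⟩ := h β hβ (fun x hx => by
    show (MulAut.conj g)⁻¹ (α (MulAut.conj g x)) = x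
    rw [MulAut.conj_apply, hS _ (mem_smul_sylow.2 hx), ← map_inv, MulAut.conj_apply]
    group)
  refine ⟨g * k * g⁻¹, ?_⟩
  have : α = MulAut.conj g * β * (MulAut.conj g)⁻¹ := by
    show α = MulAut.conj g * ((MulAut.conj g)⁻¹ * α * MulAut.conj g) * (MulAut.conj g)⁻¹
    group
  rw [this, hk, ← map_mul, ← map_inv, ← map_mul]

section

variable [Finite X] {z : X} {P : Subgroup X}

omit [Finite X] in
theorem cen_z (h : Sheet.Basic z P) : Cen z := by
  obtain ⟨S, -, hS, -⟩ := h.syl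
  exact ⟨S, hS⟩

theorem z1_of_basic (h : Sheet.Basic z P) (S : Sylow 2 X) (a : X) (ha : a ∈ S) (ha1 : a ≠ 1)
    (hac : ∀ s ∈ S, s * a = a * s) (b : X) (hb : b ∈ S) (hb1 : b ≠ 1)
    (hbc : ∀ s ∈ S, s * b = b * s) : a = b := by
  obtain ⟨S₀, -, -, h3⟩ := h.syl
  exact z1_of_one ⟨S₀, h3⟩ S a ha ha1 hac b hb hb1 hbc

theorem sylAut_of_basic (h : Sheet.Basic z P) (S : Sylow 2 X) (α : MulAut X)
    (hα : IsPGroup 2 ↥(zpowers α)) (hS : ∀ x ∈ S, α x = x) : Inn α := by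
  obtain ⟨S₀, -, h2, -⟩ := h.syl
  exact sylAut_of_one (S₀ := S₀) (h.sylAut S₀ h2) S α hα hS

omit [Finite X] in
theorem schreier_of_basic (h : Sheet.Basic z P) :
    ∀ P : Subgroup (MulAut X), ⁅P, P⁆ = P → P ≤ (MulAut.conj : X →* MulAut X).range := by
  obtain ⟨n, hn⟩ := h.schreier
  exact schreier_of_iterate (n := n) hn

/-- the sheet of D4 from the basic sheet of D8, and the facts on the involutions -/
theorem Sheet.of_basic_tab (h : Sheet.Basic z P)
    (bal : ∀ a : X, a * a = 1 → a ≠ 1 → ∀ I : Subgroup X, (∀ i ∈ I, i * a = a * i) →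
      (∀ c : X, c * a = a * c → ∀ i ∈ I, c * i * c⁻¹ ∈ I) → Odd (Nat.card ↥I) → I = ⊥)
    (out2 : ∀ α : MulAut X, ¬ Inn α → α * α = 1 → ∀ w : X, w * w = 1 → w ≠ 1 → ¬ Cen w → α w = w →
      (∀ c : X, c * w = w * c → α c = c ∨ α c = w * c) →
      ∀ N : Subgroup X, w ∈ N → (∀ n ∈ N, α n = n) → (∀ c : X, α c = c → ∀ n ∈ N, c * n * c⁻¹ ∈ N) →
      Nat.card ↥N % 4 = 2 → False)
    (tab : ∀ B D : Subgroup X, BadB B D → ∀ V : Subgroup X, V ≤ B → IsPGroup 2 ↥V →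
      (∀ P : Subgroup X, IsPGroup 2 ↥P → V ≤ P → P ≤ B → P = V) → 4 ∣ Nat.card ↥V →
      ∃ L : Subgroup X, VFacts V L) : Spor.Sheet X where
  out := h.out
  schreier := schreier_of_basic h
  sylAut := sylAut_of_basic h
  z1 := fun S a ha _ ha1 hac b hb _ hb1 hbc => z1_of_basic h S a ha ha1 hac b hb hb1 hbc
  bal := bal
  out2 := out2
  tab := tab

omit [Finite X] in
/-- `bal` from the case of one involution -/
theorem bal_of_one
    (hbal : ∀ I : Subgroup X, (∀ i ∈ I, i * z = z * i) →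
      (∀ c : X, c * z = z * c → ∀ i ∈ I, c * i * c⁻¹ ∈ I) → Odd (Nat.card ↥I) → I = ⊥) {a g : X}
    (hg : g * z * g⁻¹ = a) : ∀ I : Subgroup X, (∀ i ∈ I, i * a = a * i) →
      (∀ c : X, c * a = a * c → ∀ i ∈ I, c * i * c⁻¹ ∈ I) → Odd (Nat.card ↥I) → I = ⊥ := by
  intro I h1 h2 h3
  have hcomm : ∀ c : X, c * z = z * c → (g * c * g⁻¹) * a = a * (g * c * g⁻¹) := by
    intro c hc
    rw [← hg]
    calc g * c * g⁻¹ * (g * z * g⁻¹) = g * (c * z) * g⁻¹ := by group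
      _ = g * (z * c) * g⁻¹ := by rw [hc]
      _ = _ := by group
  have h4 := hbal (I.map (MulAut.conj g⁻¹).toMonoidHom) ?_ ?_ ?_
  · rw [map_eq_bot_iff_of_injective _ (MulAut.conj g⁻¹).injective] at h4
    exact h4
  · rintro _ ⟨i, hi, rfl⟩
    show (g⁻¹ * i * g⁻¹⁻¹) * z = z * (g⁻¹ * i * g⁻¹⁻¹)
    have := h1 i hi
    rw [← hg] at this
    calc g⁻¹ * i * g⁻¹⁻¹ * z = g⁻¹ * (i * (g * z * g⁻¹)) * g := by group
      _ = g⁻¹ * (g * z * g⁻¹ * i) * g := by rw [this]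
      _ = _ := by group
  · rintro c hc _ ⟨i, hi, rfl⟩
    refine ⟨(g * c * g⁻¹) * i * (g * c * g⁻¹)⁻¹, h2 _ (hcomm c hc) i hi, ?_⟩
    show g⁻¹ * ((g * c * g⁻¹) * i * (g * c * g⁻¹)⁻¹) * g⁻¹⁻¹ = c * (g⁻¹ * i * g⁻¹⁻¹) * c⁻¹
    group
  · rwa [Nat.card_congr (I.equivMapOfInjective _ (MulAut.conj g⁻¹).injective).symm.toEquiv]

omit [Finite X] in
/-- `bal` from `O(C(a)) = 1` in the form of the prelude -/
theorem bal_of_core {a : X} (h : Cfsg.centralizerPPrimeCore 2 a = ⊥) : ∀ I : Subgroup X,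
    (∀ i ∈ I, i * a = a * i) → (∀ c : X, c * a = a * c → ∀ i ∈ I, c * i * c⁻¹ ∈ I) →
    Odd (Nat.card ↥I) → I = ⊥ := by
  intro I h1 h2 h3
  have hle : I ≤ centralizer ({a} : Set X) := fun i hi => mem_centralizer_singleton_iff.2 (h1 i hi)
  have h4 : (I.subgroupOf (centralizer ({a} : Set X))).Normal := by
    refine ⟨fun n hn g => ?_⟩
    rw [mem_subgroupOf] at hn ⊢
    exact h2 g (mem_centralizer_singleton_iff.1 g.2) n hn
  have h5 : (Nat.card ↥(I.subgroupOf (centralizer ({a} : Set X)))).Coprime 2 := by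
    rw [Nat.card_congr (subgroupOfEquivOfLe hle).toEquiv]
    exact h3.coprime_two_right
  have h6 := map_mono (f := (centralizer ({a} : Set X)).subtype) (Lib.Cores.le_pPrimeCore h4 h5)
  rw [map_subgroupOf_eq_of_le hle] at h6
  rw [eq_bot_iff]
  exact h6.trans h.le

/-- the sheet of D4 from the basic sheet of D8, for a group with one class of involutions -/
theorem Sheet.of_basic (h : Sheet.Basic z P)
    (hcl : ∀ w : X, w * w = 1 → w ≠ 1 → ∃ g : X, g * z * g⁻¹ = w)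
    (hbal : ∀ I : Subgroup X, (∀ i ∈ I, i * z = z * i) →
      (∀ c : X, c * z = z * c → ∀ i ∈ I, c * i * c⁻¹ ∈ I) → Odd (Nat.card ↥I) → I = ⊥) :
    Spor.Sheet X := by
  have hall : ∀ w : X, w * w = 1 → w ≠ 1 → Cen w := fun w h1 h2 => by
    obtain ⟨g, hg⟩ := hcl w h1 h2
    exact cen_conj hg (cen_z h)
  refine Sheet.of_basic_tab h (fun a h1 h2 => ?_) (out2_of_all_cen hall)
    (tab_of_not_bad (not_bad_of_all_cen hall))
  obtain ⟨g, hg⟩ := hcl a h1 h2
  exact bal_of_one hbal hg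

omit [Finite X] in
/-- `O(C(z)) = 1` from the sheet of type (E), if the elements of odd order of `C(z)` lie in `P` -/
theorem bal_of_sheetE {R : Subgroup X} (h : Sheet.SheetE z P R)
    (hodd : ∀ x : X, x * z = z * x → Odd (orderOf x) → x ∈ P) :
    ∀ I : Subgroup X, (∀ i ∈ I, i * z = z * i) →
      (∀ c : X, c * z = z * c → ∀ i ∈ I, c * i * c⁻¹ ∈ I) → Odd (Nat.card ↥I) → I = ⊥ := by
  intro I h1 h2 h3
  have hRI : ∀ x : X, x ∈ R → x ∈ I → x = 1 := by
    intro x hx hxI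
    obtain ⟨n, hn⟩ := h.R2 ⟨x, hx⟩
    have e1 : orderOf x ∣ 2 ^ n := by
      apply orderOf_dvd_of_pow_eq_one
      have := congrArg Subtype.val hn
      simpa using this
    have e2 : orderOf x ∣ Nat.card I := by
      have := orderOf_dvd_natCard (⟨x, hxI⟩ : I)
      rwa [Subgroup.orderOf_mk] at this
    have e3 : Nat.Coprime (2 ^ n) (Nat.card I) := Nat.Coprime.pow_left n h3.coprime_two_left
    exact orderOf_eq_one_iff.1 (Nat.eq_one_of_dvd_coprimes e3 e1 e2)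
  rw [eq_bot_iff]
  intro x hx
  have hxz := h1 x hx
  have hxo : Odd (orderOf x) := by
    have : orderOf x ∣ Nat.card I := by
      have := orderOf_dvd_natCard (⟨x, hx⟩ : I)
      rwa [Subgroup.orderOf_mk] at this
    exact Odd.of_dvd_nat h3 this
  have hxP := hodd x hxz hxo
  have hxR : x ∈ R := by
    refine h.cR x hxP fun r hr => ?_
    have a1 : x * r * x⁻¹ * r⁻¹ ∈ R := mul_mem (h.Rn x hxP r hr) (inv_mem hr)
    have a2 : x * r * x⁻¹ * r⁻¹ ∈ I := by
      have := h2 r (h.cen r (h.RP hr)) x⁻¹ (inv_mem hx)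
      have := mul_mem hx this
      convert this using 1
      group
    have a3 := hRI _ a1 a2
    calc x * r = (x * r * x⁻¹ * r⁻¹) * r * x := by group
      _ = r * x := by rw [a3, one_mul]
  rw [mem_bot]
  exact hRI x hxR hx

/-- the sheet of D4 from the sheet of type (E), for a group with one class of involutions and `P = C(z)` -/
theorem Sheet.of_sheetE {R : Subgroup X} (h : Sheet.SheetE z (centralizer ({z} : Set X)) R)
    (hcl : ∀ w : X, w * w = 1 → w ≠ 1 → ∃ g : X, g * z * g⁻¹ = w) : Spor.Sheet X :=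
  Sheet.of_basic h.basic hcl
    (bal_of_sheetE h fun _ hx _ => mem_centralizer_singleton_iff.2 hx)

end

end Cfsg.Agent.OddHalf.D4.Spor
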