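import Cfsg.Agent.OddHalf.D4.EvenCyc
import Cfsg.Agent.OddHalf.D9.Co1.Facts
import Cfsg.Agent.KFacts.MulCo.CoZero
import Cfsg.Agent.KFacts.MulM24
import Cfsg.Agent.ConwayFacts.AutCo1

/-!
# D4, `K = 2.Co1`: the facts (P1) and (P2)

* `eq_of_le`: `k ∈ Co0 ∖ ⟨-1⟩` with `k² = ±1`, every element commuting with `k` commutes with `l`: then `l ∈ ⟨k, -1⟩`.
* `pairFree_co0`, `sqDiff_co0`; `pairFree`, `sqDiff`: the same for every finite perfect `K` with a homomorphism onto
  `Co1` whose kernel is a non-trivial central 2-group.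
-/

set_option autoImplicit false
set_option Elab.async false
open Cfsg
open scoped Pointwise

namespace Cfsg.Agent.OddHalf.D4.Spor.TwoCo1

open Cfsg.Agent.SporadicA.GolayBase Cfsg.Agent.SporadicA.GolayPerm
open Cfsg.Agent.SporadicStructure.M24El
open Cfsg.Agent.SporadicA.Co0Mono Cfsg.Agent.SporadicA.Co1Simple
open Cfsg.Agent.SporadicStructure.Co0Base (e8 e8_coe co0_ext_e8)
open Cfsg.Agent.Co2Type.Mono
open Cfsg.Agent.CoOneType.InvMain (b0 b0m isCode_b0m b0m_xor cd_all conj_sign_of_sq_one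
  conj_b0_of_sq_neg)
open Cfsg.Agent.CoOneType.SignFacts (sup mem_sup notMem_sup wt sup_mem wt_cases wt_add_allOne
  sign_allOne_comm mem_N_of_conj_dodecad)
open Cfsg.Agent.CoOneType.ClosingFacts (mem_center_iff)
open Cfsg.Agent.CoOneType.CentOctad (C0 mem_C0)
open Cfsg.Agent.KFacts.Co1.OctGen (sign_inj)
open Cfsg.Agent.KFacts.Co1.RHat (sign_smul_e8_of_mem sign_smul_e8_of_notMem centralizer_Rh Rh Rh_le_C0)
open Cfsg.Agent.KFacts.Co1
open Cfsg.Agent.J4.M24InvolData (P2)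
open Cfsg.Agent.J4.M24Invol (ok_P2)
open Cfsg.Agent.OddHalf.D9.Co1.Facts
open Cfsg.Agent.OddHalf.D4.EvenCyc (PairFree SqDiff)

/-- Every element commuting with `k` commutes with `l`. -/
def Le (k l : Co0) : Prop := ∀ x : Co0, x * k = k * x → x * l = l * x

theorem Le.mul {k l m : Co0} (h1 : Le k l) (h2 : Le k m) : Le k (l * m) := by
  intro x hx
  rw [← mul_assoc, h1 x hx, mul_assoc, h2 x hx, mul_assoc]

theorem Le.refl (k : Co0) : Le k k := fun _ h => h

theorem Le.zeta (k : Co0) : Le k ζ := fun x _ => ζ_cen x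

theorem Le.conj {k l : Co0} (h : Le k l) (g : Co0) : Le (g * k * g⁻¹) (g * l * g⁻¹) := by
  intro x hx
  have h1 : (g⁻¹ * x * g) * k = k * (g⁻¹ * x * g) := by
    have e1 : (g⁻¹ * x * g) * k = g⁻¹ * (x * (g * k * g⁻¹)) * g := by group
    have e2 : k * (g⁻¹ * x * g) = g⁻¹ * ((g * k * g⁻¹) * x) * g := by group
    rw [e1, e2, hx]
  have h2 := h _ h1
  have e1 : x * (g * l * g⁻¹) = g * ((g⁻¹ * x * g) * l) * g⁻¹ := by group
  have e2 : (g * l * g⁻¹) * x = g * (l * (g⁻¹ * x * g)) * g⁻¹ := by group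
  rw [e1, e2, h2]

/-! ### The lines -/

theorem neg_e8 (i : GolayPt) : ζ • e8 i = -e8 i :=
  sign_smul_e8_of_mem (by rw [mem_sup]; rfl)

/-- If `l` fixes `8 e_i` and `x` commutes with `l` then `l` fixes `x (8 e_i)`. -/
theorem fix_move {k l x : Co0} (hl : Le k l) (hx : x * k = k * x) {i j : GolayPt}
    (hij : x • e8 i = e8 j ∨ x • e8 i = -e8 j) (h : l • e8 i = e8 i) : l • e8 j = e8 j := by
  have h1 : l • (x • e8 i) = x • e8 i := by rw [← mul_smul, ← hl x hx, mul_smul, h]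
  rcases hij with h2 | h2
  · rwa [h2] at h1
  · rw [h2, SporadicA.Co0Mono.smul_neg, neg_inj] at h1
    exact h1

theorem ne_neg (i : GolayPt) : e8 i ≠ -e8 i := e8_ne_neg i i

/-- A sign change commuting with `l` has the same value on `i` and on the image of `i`. -/
theorem mem_iff {c : golayCode} {l : Co0} (h : signCo0 c * l = l * signCo0 c) {i p : GolayPt}
    (hp : l • e8 i = e8 p ∨ l • e8 i = -e8 p) : i ∈ sup c ↔ p ∈ sup c := by
  have key : signCo0 c • (l • e8 i) = l • (signCo0 c • e8 i) := by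
    rw [← mul_smul, h, mul_smul]
  have hpp : ∀ {v : leechLattice}, (v = e8 p ∨ v = -e8 p) → (p ∈ sup c → signCo0 c • v = -v) ∧
      (p ∉ sup c → signCo0 c • v = v) := by
    rintro v (rfl | rfl)
    · exact ⟨fun h => sign_smul_e8_of_mem h, fun h => sign_smul_e8_of_notMem h⟩
    · refine ⟨fun h => ?_, fun h => ?_⟩
      · rw [SporadicA.Co0Mono.smul_neg, sign_smul_e8_of_mem h]
      · rw [SporadicA.Co0Mono.smul_neg, sign_smul_e8_of_notMem h]
  have hne : l • e8 i ≠ -(l • e8 i) := by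
    rcases hp with h1 | h1
    · rw [h1]; exact ne_neg p
    · rw [h1, neg_neg]; exact (ne_neg p).symm
  constructor
  · intro hi
    by_contra hpc
    rw [sign_smul_e8_of_mem hi, SporadicA.Co0Mono.smul_neg, (hpp hp).2 hpc] at key
    exact hne key
  · intro hpc
    by_contra hi
    rw [sign_smul_e8_of_notMem hi, (hpp hp).1 hpc] at key
    exact hne key.symm

theorem exists_line {l : Co0} (hl : l ∈ N) (i : GolayPt) :
    ∃ p, l • e8 i = e8 p ∨ l • e8 i = -e8 p := by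
  obtain ⟨c, σ, rfl⟩ := exists_sign_perm hl
  refine ⟨(σ : Equiv.Perm GolayPt) i, ?_⟩
  rw [mul_smul, perm_smul_e8]
  exact sgn_smul_e8 c _

/-- Transport along a chain of points. -/
theorem reach {k : Co0} {T1 T2 y1 y2 : ℕ} (hT1 : ok T1 = true) (hT2 : ok T2 = true)
    (c1 : mo y1 T1 * k = k * mo y1 T1) (c2 : mo y2 T2 * k = k * mo y2 T2) (L : ℕ → ℕ) (n : ℕ)
    (hL : ∀ i < n, L i < 24)
    (h : ∀ i < n, i = 0 ∨ ∃ j < i, papp T1 (L j) = L i ∨ papp T2 (L j) = L i) (i : ℕ) (hi : i < n) :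
    ∃ x : Co0, x * k = k * x ∧ (x • e8 (pt (L 0)) = e8 (pt (L i)) ∨
      x • e8 (pt (L 0)) = -e8 (pt (L i))) := by
  have step : ∀ (T y : ℕ), ok T = true → mo y T * k = k * mo y T → ∀ a b : ℕ, a < 24 →
      papp T a = b → (∃ x : Co0, x * k = k * x ∧ (x • e8 (pt (L 0)) = e8 (pt a) ∨
        x • e8 (pt (L 0)) = -e8 (pt a))) → ∃ x : Co0, x * k = k * x ∧
        (x • e8 (pt (L 0)) = e8 (pt b) ∨ x • e8 (pt (L 0)) = -e8 (pt b)) := by
    rintro T y hT hc a b ha hab ⟨x, hx, hx'⟩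
    refine ⟨mo y T * x, ?_, ?_⟩
    · rw [mul_assoc, hx, ← mul_assoc, hc, mul_assoc]
    · have e1 : mo y T • e8 (pt a) = e8 (pt b) ∨ mo y T • e8 (pt a) = -e8 (pt b) := by
        have e2 : (el T : Equiv.Perm GolayPt) (pt a) = pt b := by
          have := el_smul_pt hT (pt a)
          rw [idx_pt ha, hab] at this
          exact this
        unfold mo
        rw [mul_smul, perm_smul_e8, e2]
        exact sgn_smul_e8 _ _
      rw [mul_smul]
      rcases hx' with h1 | h1 <;> rcases e1 with h2 | h2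
      · left; rw [h1, h2]
      · right; rw [h1, h2]
      · right; rw [h1, SporadicA.Co0Mono.smul_neg, h2]
      · left; rw [h1, SporadicA.Co0Mono.smul_neg, h2, neg_neg]
  induction i using Nat.strong_induction_on with
  | _ i ih =>
    rcases h i hi with h0 | ⟨j, hj, h1 | h1⟩
    · subst h0
      exact ⟨1, by rw [one_mul, mul_one], Or.inl (one_smul _ _)⟩
    · exact step T1 y1 hT1 c1 _ _ (hL j (by omega)) h1 (ih j hj (by omega))
    · exact step T2 y2 hT2 c2 _ _ (hL j (by omega)) h1 (ih j hj (by omega))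

theorem eq_of_mul {l : Co0} (h : ζ * l = 1) : l = ζ := by
  have : l = ζ * (ζ * l) := by rw [← mul_assoc, ζ_sq, one_mul]
  rw [this, h, mul_one]

/-! ### The type `b0` -/

def Ta : ℕ := 925779681360896407837875482911621460
def ya : ℕ := 10846245
def Tb : ℕ := 755844597211611784603002331293956589
def yb : ℕ := 15335473

def La : ℕ → ℕ := fun i =>
  [0, 20, 13, 7, 4, 1, 19, 17, 15, 10, 12, 8, 11, 21, 2, 5, 6, 9, 16, 14, 18, 22, 3, 23].getD i 0

theorem okA : (ok Ta && isCode ya && ok Tb && isCode yb &&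
    Nat.beq (ya ^^^ pimg Ta b0m) (b0m ^^^ pimg P2 ya) && Nat.beq (pcomp Ta P2) (pcomp P2 Ta) &&
    Nat.beq (yb ^^^ pimg Tb b0m) (b0m ^^^ pimg P2 yb) &&
    Nat.beq (pcomp Tb P2) (pcomp P2 Tb)) = true := by decide +kernel

theorem chainA : ∀ i < 24, i = 0 ∨ ∃ j < i, papp Ta (La j) = La i ∨ papp Tb (La j) = La i := by
  decide +kernel

theorem ltA : ∀ i < 24, La i < 24 := by decide +kernel

theorem surjA : ∀ i < 24, ∃ j < 24, La j = i := by decide +kernel

theorem mo_comm {y T : ℕ} (hy : isCode y = true) (hT : ok T = true)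
    (h1 : y ^^^ pimg T b0m = b0m ^^^ pimg P2 y) (h2 : pcomp T P2 = pcomp P2 T) :
    mo y T * b0 = b0 * mo y T := by
  have hb0 : b0 = mo b0m P2 := rfl
  rw [hb0, mo_mul hy isCode_b0m hT ok_P2, mo_mul isCode_b0m hy ok_P2 hT, h1, h2]

theorem reachA (i : GolayPt) : ∃ x : Co0, x * b0 = b0 * x ∧ (x • e8 (pt 0) = e8 i ∨
    x • e8 (pt 0) = -e8 i) := by
  have h := okA
  simp only [Bool.and_eq_true, Nat.beq_eq] at h
  obtain ⟨⟨⟨⟨⟨⟨⟨h1, h2⟩, h3⟩, h4⟩, h5⟩, h6⟩, h7⟩, h8⟩ := h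
  obtain ⟨j, hj, hji⟩ := surjA (idx i) (idx_lt i)
  have := reach h1 h3 (mo_comm h2 h1 h5 h6) (mo_comm h4 h3 h7 h8) La 24 ltA chainA j hj
  rwa [hji, pt_idx] at this

theorem eq_one_of_fix {l : Co0} (hl : Le b0 l) (h : l • e8 (pt 0) = e8 (pt 0)) : l = 1 := by
  apply co0_ext_e8
  intro i
  obtain ⟨x, hx, hx'⟩ := reachA i
  rw [one_smul]
  exact fix_move hl hx hx' h

theorem eq_of_fix {l : Co0} (hl : Le b0 l) (h : l • e8 (pt 0) = e8 (pt 0) ∨
    l • e8 (pt 0) = -e8 (pt 0)) : l = 1 ∨ l = ζ := by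
  rcases h with h | h
  · exact Or.inl (eq_one_of_fix hl h)
  · right
    apply eq_of_mul
    apply eq_one_of_fix ((Le.zeta _).mul hl)
    rw [mul_smul, h, SporadicA.Co0Mono.smul_neg, neg_e8, neg_neg]

/-- The words fixed by `P2` separating the point `0` from all points except `9`. -/
theorem sepA : ∀ p < 24, p = 0 ∨ p = 9 ∨ ∃ c ∈ [786999, 10558, 3195897],
    Nat.testBit c p ≠ Nat.testBit c 0 := by decide +kernel

theorem okS : ∀ c ∈ [786999, 10558, 3195897, 13553934], (isCode c && Nat.beq (pimg P2 c) c) = true := by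
  decide +kernel

theorem b0_sq : b0 * b0 = ζ := by
  have hb0 : b0 = mo b0m P2 := rfl
  have h : pcomp P2 P2 = idP := by decide +kernel
  rw [hb0, mo_mul isCode_b0m isCode_b0m ok_P2 ok_P2, b0m_xor, ζ_eq, h]

theorem sign_comm_b0 {c : ℕ} (h : (isCode c && Nat.beq (pimg P2 c) c) = true) :
    signCo0 (cd c) * b0 = b0 * signCo0 (cd c) := by
  rw [Bool.and_eq_true, Nat.beq_eq] at h
  have hb0 : b0 = signCo0 (cd b0m) * permCo0 (el P2) := rfl
  rw [hb0, mul_assoc, perm_mul_sign, wordPerm_cd ok_P2 h.1, h.2, ← mul_assoc, ← mul_assoc,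
    ← signCo0_add, ← signCo0_add, add_comm]

theorem eq_of_le_b0 {l : Co0} (hl : Le b0 l) : l = 1 ∨ l = ζ ∨ l = b0 ∨ l = ζ * b0 := by
  have hN : l ∈ N := by
    have h1 := okS 13553934 (by decide)
    have h2 := hl _ (sign_comm_b0 h1)
    have hw : wt (cd 13553934) = 12 := by
      rw [wt_cd (by rw [Bool.and_eq_true] at h1; exact h1.1)]
      decide +kernel
    exact mem_N_of_conj_dodecad _ _ hw hw l h2.symm
  obtain ⟨p, hp⟩ := exists_line hN (pt 0)
  have hcase : idx p = 0 ∨ idx p = 9 := by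
    rcases sepA (idx p) (idx_lt p) with h | h | ⟨c, hc, hne⟩
    · exact Or.inl h
    · exact Or.inr h
    · exfalso
      have h1 := okS c (by
        simp only [List.mem_cons, List.not_mem_nil, or_false] at hc ⊢
        tauto)
      have h2 := mem_iff (hl _ (sign_comm_b0 h1)) hp
      have hcode : isCode c = true := by rw [Bool.and_eq_true] at h1; exact h1.1
      rw [sup_cd hcode, mem_fin, mem_fin, idx_pt (by norm_num)] at h2
      apply hne
      cases h3 : Nat.testBit c (idx p) <;> cases h4 : Nat.testBit c 0 <;> simp_all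
  rcases hcase with h | h
  · have hp0 : p = pt 0 := by rw [← pt_idx p, h]
    rw [hp0] at hp
    rcases eq_of_fix hl hp with h1 | h1
    · exact Or.inl h1
    · exact Or.inr (Or.inl h1)
  · have hp0 : p = pt 9 := by rw [← pt_idx p, h]
    rw [hp0] at hp
    have hb : b0 • e8 (pt 9) = e8 (pt 0) ∨ b0 • e8 (pt 9) = -e8 (pt 0) := by
      have e2 : (el P2 : Equiv.Perm GolayPt) (pt 9) = pt 0 := by
        have := el_smul_pt ok_P2 (pt 9)
        rw [idx_pt (by norm_num), show papp P2 9 = 0 by decide +kernel] at this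
        exact this
      show (signCo0 (cd b0m) * permCo0 (el P2)) • e8 (pt 9) = _ ∨
        (signCo0 (cd b0m) * permCo0 (el P2)) • e8 (pt 9) = _
      rw [mul_smul, perm_smul_e8, e2]
      exact sgn_smul_e8 _ _
    have h1 : (b0 * l) • e8 (pt 0) = e8 (pt 0) ∨ (b0 * l) • e8 (pt 0) = -e8 (pt 0) := by
      rw [mul_smul]
      rcases hp with h1 | h1 <;> rcases hb with h2 | h2
      · left; rw [h1, h2]
      · right; rw [h1, h2]
      · right; rw [h1, SporadicA.Co0Mono.smul_neg, h2]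
      · left; rw [h1, SporadicA.Co0Mono.smul_neg, h2, neg_neg]
    have h2 : ζ * b0 * (b0 * l) = l := by
      rw [mul_assoc, ← mul_assoc b0, b0_sq, ← mul_assoc, ζ_sq, one_mul]
    rcases eq_of_fix ((Le.refl b0).mul hl) h1 with h3 | h3
    · right; right; right
      rw [← h2, h3, mul_one]
    · right; right; left
      rw [← h2, h3, mul_assoc, ζ_cen b0, ← mul_assoc, ζ_sq, one_mul]

/-! ### The dodecads -/

def Tc : ℕ := 716907860877162889305629767858113620
def Td : ℕ := 65274482755396194121657056141324853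

def Lc : ℕ → ℕ := fun i => [1, 2, 17, 19, 12, 3, 8, 18, 15, 23, 14, 22].getD i 0
def Ld : ℕ → ℕ := fun i => [0, 20, 21, 4, 9, 7, 5, 16, 10, 13, 6, 11].getD i 0

def dm : ℕ := 13553934

theorem okC : (ok Tc && ok Td && isCode dm && Nat.beq (pimg Tc dm) dm &&
    Nat.beq (pimg Td dm) dm && Nat.beq (popcount dm) 12) = true := by decide +kernel

theorem chainC : ∀ i < 12, i = 0 ∨ ∃ j < i, papp Tc (Lc j) = Lc i ∨ papp Td (Lc j) = Lc i := by
  decide +kernel

theorem chainD : ∀ i < 12, i = 0 ∨ ∃ j < i, papp Tc (Ld j) = Ld i ∨ papp Td (Ld j) = Ld i := by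
  decide +kernel

theorem ltC : ∀ i < 12, Lc i < 24 := by decide +kernel
theorem ltD : ∀ i < 12, Ld i < 24 := by decide +kernel

theorem surjCD : ∀ i < 24, (∃ j < 12, Lc j = i) ∨ (∃ j < 12, Ld j = i) := by decide +kernel

theorem mo_comm_d {T : ℕ} (hT : ok T = true) (h1 : isCode dm = true) (h2 : pimg T dm = dm) :
    mo 0 T * signCo0 (cd dm) = signCo0 (cd dm) * mo 0 T := by
  unfold mo
  rw [cd_zero, signCo0_zero, one_mul, perm_mul_sign, wordPerm_cd hT h1, h2]

theorem eq_one_of_fix_d {l : Co0} (hl : Le (signCo0 (cd dm)) l) (h1 : l • e8 (pt 1) = e8 (pt 1))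
    (h0 : l • e8 (pt 0) = e8 (pt 0)) : l = 1 := by
  have h := okC
  simp only [Bool.and_eq_true, Nat.beq_eq] at h
  obtain ⟨⟨⟨⟨⟨hc, hd⟩, hm⟩, h2⟩, h3⟩, -⟩ := h
  apply co0_ext_e8
  intro i
  rw [one_smul]
  rcases surjCD (idx i) (idx_lt i) with ⟨j, hj, hji⟩ | ⟨j, hj, hji⟩
  · obtain ⟨x, hx, hx'⟩ := reach hc hd (mo_comm_d hc hm h2) (mo_comm_d hd hm h3) Lc 12 ltC chainC j hj
    rw [hji, pt_idx] at hx'
    exact fix_move hl hx hx' h1
  · obtain ⟨x, hx, hx'⟩ := reach hc hd (mo_comm_d hc hm h2) (mo_comm_d hd hm h3) Ld 12 ltD chainD j hj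
    rw [hji, pt_idx] at hx'
    exact fix_move hl hx hx' h0

/-- Two points are separated by a code word. -/
theorem sepD : ∀ p < 24, (p = 0 ∨ ∃ k < 12, Nat.testBit (basisMask k) p ≠ Nat.testBit (basisMask k) 0) ∧
    (p = 1 ∨ ∃ k < 12, Nat.testBit (basisMask k) p ≠ Nat.testBit (basisMask k) 1) := by
  decide +kernel

theorem okB : ∀ k < 12, isCode (basisMask k) = true := by decide +kernel

theorem eq_of_sep {l : Co0} (hN : l ∈ N) (hs : ∀ c : golayCode, signCo0 c * l = l * signCo0 c) {a : ℕ}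
    (ha : a < 24) (h : ∀ p < 24, p = a ∨ ∃ k < 12, Nat.testBit (basisMask k) p ≠
      Nat.testBit (basisMask k) a) : l • e8 (pt a) = e8 (pt a) ∨ l • e8 (pt a) = -e8 (pt a) := by
  obtain ⟨p, hp⟩ := exists_line hN (pt a)
  have hpa : p = pt a := by
    rcases h (idx p) (idx_lt p) with h1 | ⟨k, hk, hne⟩
    · rw [← h1, pt_idx]
    · exfalso
      have h2 := mem_iff (hs (cd (basisMask k))) hp
      rw [sup_cd (okB k hk), mem_fin, mem_fin, idx_pt ha] at h2
      apply hne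
      cases h3 : Nat.testBit (basisMask k) (idx p) <;> cases h4 : Nat.testBit (basisMask k) a <;> simp_all
  rwa [hpa] at hp

theorem eq_of_le_dm {l : Co0} (hl : Le (signCo0 (cd dm)) l) :
    l = 1 ∨ l = ζ ∨ l = signCo0 (cd dm) ∨ l = ζ * signCo0 (cd dm) := by
  have h := okC
  simp only [Bool.and_eq_true, Nat.beq_eq] at h
  obtain ⟨⟨⟨⟨⟨-, -⟩, hm⟩, -⟩, -⟩, h12⟩ := h
  have hw : wt (cd dm) = 12 := by rw [wt_cd hm, h12]
  have hs : ∀ c : golayCode, signCo0 c * l = l * signCo0 c := fun c => hl _ (by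
    rw [← signCo0_add, ← signCo0_add, add_comm])
  have hN : l ∈ N := mem_N_of_conj_dodecad _ _ hw hw l (hs _).symm
  have h0 := eq_of_sep hN hs (a := 0) (by norm_num) (fun p hp => (sepD p hp).1)
  have h1 := eq_of_sep hN hs (a := 1) (by norm_num) (fun p hp => (sepD p hp).2)
  set s := signCo0 (cd dm) with hsdef
  have s1 : s • e8 (pt 1) = -e8 (pt 1) := sign_smul_e8_of_mem (by
    rw [sup_cd hm, mem_fin, idx_pt (by norm_num)]; decide +kernel)
  have s0 : s • e8 (pt 0) = e8 (pt 0) := sign_smul_e8_of_notMem (by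
    rw [sup_cd hm, mem_fin, idx_pt (by norm_num)]; decide +kernel)
  have hss : s * s = 1 := signCo0_mul_self _
  rcases h1 with h1 | h1 <;> rcases h0 with h0 | h0
  · exact Or.inl (eq_one_of_fix_d hl h1 h0)
  · -- `ζ s l`
    right; right; right
    have h2 : ζ * s * l = 1 := by
      apply eq_one_of_fix_d (((Le.zeta _).mul (Le.refl _)).mul hl)
      · rw [mul_smul, mul_smul, h1, s1, SporadicA.Co0Mono.smul_neg, neg_e8, neg_neg]
      · rw [mul_smul, mul_smul, h0, SporadicA.Co0Mono.smul_neg, s0, SporadicA.Co0Mono.smul_neg, neg_e8, neg_neg]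
    have h3 : ζ * s * (ζ * s) = 1 := by
      rw [mul_assoc, ← mul_assoc s ζ, ζ_cen, mul_assoc ζ s, hss, mul_one, ζ_sq]
    have h4 : l = ζ * s * (ζ * s * l) := by rw [← mul_assoc, h3, one_mul]
    rw [h4, h2, mul_one]
  · right; right; left
    have h2 : s * l = 1 := by
      apply eq_one_of_fix_d ((Le.refl _).mul hl)
      · rw [mul_smul, h1, SporadicA.Co0Mono.smul_neg, s1, neg_neg]
      · rw [mul_smul, h0, s0]
    have h4 : l = s * (s * l) := by rw [← mul_assoc, hss, one_mul]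
    rw [h4, h2, mul_one]
  · right; left
    apply eq_of_mul
    apply eq_one_of_fix_d ((Le.zeta _).mul hl)
    · rw [mul_smul, h1, SporadicA.Co0Mono.smul_neg, neg_e8, neg_neg]
    · rw [mul_smul, h0, SporadicA.Co0Mono.smul_neg, neg_e8, neg_neg]

/-! ### All -/

theorem back {k l g s : Co0} (hg : g * k * g⁻¹ = s)
    (h : g * l * g⁻¹ = 1 ∨ g * l * g⁻¹ = ζ ∨ g * l * g⁻¹ = s ∨ g * l * g⁻¹ = ζ * s) :
    l = 1 ∨ l = ζ ∨ l = k ∨ l = ζ * k := by
  have e : l = g⁻¹ * (g * l * g⁻¹) * g := by group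
  rcases h with h | h | h | h
  · left; rw [e, h]; group
  · right; left
    rw [e, h, ζ_cen]
    group
  · right; right; left
    rw [e, h, ← hg]
    group
  · right; right; right
    rw [e, h, ← hg, ← mul_assoc g⁻¹, ζ_cen]
    group

/-- **The centraliser of the centraliser** of an element `k ≠ ±1` of `Co0` with `k² = ±1` is `⟨k, -1⟩`. -/
theorem eq_of_le {k l : Co0} (h1 : k ≠ 1) (hz : k ≠ ζ) (h2 : k * k = 1 ∨ k * k = ζ) (hl : Le k l) :
    l = 1 ∨ l = ζ ∨ l = k ∨ l = ζ * k := by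
  have octad : ∀ k : Co0, P k → Le k l → l = 1 ∨ l = ζ ∨ l = k ∨ l = ζ * k := by
    rintro k ⟨g, c, hc, hg⟩ hl
    have h3 := hl.conj g
    rw [hg] at h3
    apply back hg
    have h4 := centralizer_Rh hc (g := g * l * g⁻¹) (fun r hr => (h3 r (mem_C0.1 (Rh_le_C0 hc hr))).symm)
    rcases h4 with h4 | h4 | h4 | h4
    · exact Or.inl h4
    · exact Or.inr (Or.inl h4)
    · exact Or.inr (Or.inr (Or.inl h4))
    · right; right; right
      rw [h4, add_comm, signCo0_add]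
  rcases h2 with h2 | h2
  · rcases cases k h2 h1 hz with h | h | ⟨g, c, hc, hg⟩
    · exact octad k h hl
    · have h3 : Le (ζ * k) l := by
        intro x hx
        apply hl
        have h4 : ζ * (x * k) = ζ * (k * x) := by
          rw [← mul_assoc, ← ζ_cen x, mul_assoc, hx, mul_assoc]
        exact mul_left_cancel h4
      rcases octad _ h h3 with h4 | h4 | h4 | h4
      · exact Or.inl h4
      · exact Or.inr (Or.inl h4)
      · exact Or.inr (Or.inr (Or.inr h4))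
      · right; right; left
        rw [h4, ← mul_assoc, ζ_sq, one_mul]
    · have h := okC
      simp only [Bool.and_eq_true, Nat.beq_eq] at h
      obtain ⟨⟨⟨⟨⟨-, -⟩, hm⟩, -⟩, -⟩, h12⟩ := h
      have hw : wt (cd dm) = 12 := by rw [wt_cd hm, h12]
      obtain ⟨g', hg'⟩ := conj_dodecad hc hw
      have h3 : g' * g * k * (g' * g)⁻¹ = signCo0 (cd dm) := by
        rw [← hg', ← hg]; group
      have h4 := hl.conj (g' * g)
      rw [h3] at h4
      exact back h3 (eq_of_le_dm h4)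
  · obtain ⟨g, hg⟩ := conj_b0_of_sq_neg k h2
    have h3 := hl.conj g
    rw [hg] at h3
    exact back hg (eq_of_le_b0 h3)

/-! ### The automorphisms -/

theorem conj_cases {k : Co0} {α : MulAut Co0} (hk : ∀ g, α g = k * g * k⁻¹) (h : α * α = 1) (h1 : α ≠ 1) :
    k ≠ 1 ∧ k ≠ ζ ∧ (k * k = 1 ∨ k * k = ζ) := by
  refine ⟨?_, ?_, ?_⟩
  · rintro rfl
    apply h1
    ext g
    rw [hk, one_mul, inv_one, mul_one]
    rfl
  · rintro rfl
    apply h1
    ext g
    rw [hk, ← ζ_cen, mul_inv_cancel_right]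
    rfl
  · rw [← mem_center_iff, Subgroup.mem_center_iff]
    intro g
    have h2 : (α * α) g = g := by rw [h]; rfl
    rw [MulAut.mul_apply, hk, hk] at h2
    have h3 : g = k * k * g * (k * k)⁻¹ := by
      conv_lhs => rw [← h2]
      group
    conv_lhs => rw [h3]
    group

theorem pairFree_co0 : PairFree Co0 := by
  intro α β hα hβ hαβ hα1 hβ1 hne h1 _
  obtain ⟨k, hk⟩ := Cfsg.Agent.ConwayFacts.AutCo1.inner_Co0 α
  obtain ⟨l, hl⟩ := Cfsg.Agent.ConwayFacts.AutCo1.inner_Co0 β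
  obtain ⟨hk1, hkz, hkk⟩ := conj_cases hk hα hα1
  obtain ⟨hl1, hlz, -⟩ := conj_cases hl hβ hβ1
  have hle : Le k l := by
    intro x hx
    have h2 := h1 x (by rw [hk, ← hx, mul_inv_cancel_right])
    rw [hl, mul_inv_eq_iff_eq_mul] at h2
    exact h2.symm
  rcases eq_of_le hk1 hkz hkk hle with h | h | h | h
  · exact hl1 h
  · exact hlz h
  · apply hne
    ext g
    rw [hk, hl, h]
  · apply hne
    ext g
    rw [hk, hl, h]
    have e : ζ * k * g * (ζ * k)⁻¹ = ζ * (k * g * k⁻¹) * ζ⁻¹ := by group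
    rw [e, ← ζ_cen, mul_inv_cancel_right]

/-- A noncentral involution which is a product `k (k^x)⁻¹`. -/
def Sd (k : Co0) : Prop := ∃ x : Co0, (k * x * k⁻¹)⁻¹ * x ∉ Subgroup.center Co0 ∧
  ((k * x * k⁻¹)⁻¹ * x) * ((k * x * k⁻¹)⁻¹ * x) = 1

theorem Sd.of_conj {k l g : Co0} (hg : g * k * g⁻¹ = l) (h : Sd l) : Sd k := by
  obtain ⟨x, hx, hx2⟩ := h
  have e : (k * (g⁻¹ * x * g) * k⁻¹)⁻¹ * (g⁻¹ * x * g) = g⁻¹ * ((l * x * l⁻¹)⁻¹ * x) * g := by
    rw [← hg]; group
  refine ⟨g⁻¹ * x * g, ?_, ?_⟩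
  · rw [e]
    intro hc
    apply hx
    have h1 := (mem_center_iff _).1 hc
    rw [mem_center_iff]
    have e2 : (l * x * l⁻¹)⁻¹ * x = g * (g⁻¹ * ((l * x * l⁻¹)⁻¹ * x) * g) * g⁻¹ := by group
    rcases h1 with h1 | h1
    · left; rw [e2, h1]; group
    · right; rw [e2, h1, ζ_cen]; group
  · rw [e]
    have e2 : g⁻¹ * ((l * x * l⁻¹)⁻¹ * x) * g * (g⁻¹ * ((l * x * l⁻¹)⁻¹ * x) * g) =
      g⁻¹ * (((l * x * l⁻¹)⁻¹ * x) * ((l * x * l⁻¹)⁻¹ * x)) * g := by group
    rw [e2, hx2]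
    group

theorem Sd.neg {k : Co0} (h : Sd k) : Sd (ζ * k) := by
  obtain ⟨x, hx, hx2⟩ := h
  have e : ζ * k * x * (ζ * k)⁻¹ = k * x * k⁻¹ := by
    have e1 : ζ * k * x * (ζ * k)⁻¹ = ζ * (k * x * k⁻¹) * ζ⁻¹ := by group
    rw [e1, ← ζ_cen, mul_inv_cancel_right]
  refine ⟨x, ?_, ?_⟩
  · rw [e]; exact hx
  · rw [e]; exact hx2

/-- `k` commutes with a conjugate `≠ ± k` with the same square. -/
theorem Sd.of_comm {k l g : Co0} (hg : g⁻¹ * k * g = l) (hkl : k * l = l * k) (h1 : k ≠ l) (h2 : k ≠ ζ * l)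
    (hsq : k * k = l * l) : Sd k := by
  have e : (k * g * k⁻¹)⁻¹ * g = k * l⁻¹ := by
    rw [← hg]; group
  have hkl' : l⁻¹ * k = k * l⁻¹ := by
    rw [inv_mul_eq_iff_eq_mul, ← mul_assoc, ← hkl, mul_inv_cancel_right]
  refine ⟨g, ?_, ?_⟩
  · rw [e, mem_center_iff]
    rintro (h | h)
    · exact h1 (mul_inv_eq_one.1 h)
    · exact h2 (mul_inv_eq_iff_eq_mul.1 h)
  · rw [e, mul_assoc, ← mul_assoc l⁻¹, hkl', mul_assoc, ← mul_assoc, hsq]
    group

theorem sd_sign {c d : golayCode} {x : Co0} (hx : x⁻¹ * signCo0 c * x = signCo0 d) (h1 : c ≠ d)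
    (h2 : c ≠ allOne + d) : Sd (signCo0 c) := by
  refine Sd.of_comm hx ?_ (fun h => h1 (sign_inj h)) (fun h => h2 (sign_inj (by rw [h, signCo0_add]))) ?_
  · rw [← signCo0_add, ← signCo0_add, add_comm]
  · rw [signCo0_mul_self, signCo0_mul_self]

theorem ne_cd {m n : ℕ} (hm : isCode m = true) (hn : isCode n = true) (h : m ≠ n)
    (h' : m ≠ 16777215 ^^^ n) : cd m ≠ cd n ∧ cd m ≠ allOne + cd n := by
  refine ⟨fun h1 => h (cd_inj hm hn h1), fun h1 => h' ?_⟩
  rw [← cd_all, ← cd_xor (by decide +kernel) hn] at h1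
  exact cd_inj hm (isCode_xor (by decide +kernel) hn) h1

theorem okE : (isCode 13062145 && isCode 4845570 && Nat.beq (popcount 13062145) 8 &&
    Nat.beq (popcount 4845570) 8 && isCode 8245261 && isCode 15953934 &&
    Nat.beq (popcount 8245261) 12 && Nat.beq (popcount 15953934) 12) = true := by decide +kernel

theorem inv_conj {g s t : Co0} (h : g * s * g⁻¹ = t) : g⁻¹ * t * g = s := by
  rw [← h]; group

theorem sd_octad : ∀ k : Co0, P k → Sd k := by
  rintro k ⟨g, c, hc, hg⟩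
  have h := okE
  simp only [Bool.and_eq_true, Nat.beq_eq] at h
  obtain ⟨⟨⟨⟨⟨⟨⟨h1, h2⟩, h3⟩, h4⟩, -⟩, -⟩, -⟩, -⟩ := h
  have hw1 : wt (cd 13062145) = 8 := by rw [wt_cd h1, h3]
  have hw2 : wt (cd 4845570) = 8 := by rw [wt_cd h2, h4]
  obtain ⟨x, hx⟩ := conj_octad hw2 hw1
  obtain ⟨y, hy⟩ := conj_octad hc hw1
  obtain ⟨n1, n2⟩ := ne_cd h1 h2 (by norm_num) (by decide +kernel)
  have h5 := (sd_sign (inv_conj hx) n1 n2).of_conj hy
  exact h5.of_conj hg

theorem sd_dodecad : ∀ k : Co0, D k → Sd k := by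
  rintro k ⟨g, c, hc, hg⟩
  have h := okE
  simp only [Bool.and_eq_true, Nat.beq_eq] at h
  obtain ⟨⟨⟨⟨⟨⟨⟨-, -⟩, -⟩, -⟩, h1⟩, h2⟩, h3⟩, h4⟩ := h
  have hw1 : wt (cd 8245261) = 12 := by rw [wt_cd h1, h3]
  have hw2 : wt (cd 15953934) = 12 := by rw [wt_cd h2, h4]
  obtain ⟨x, hx⟩ := conj_dodecad hw2 hw1
  obtain ⟨y, hy⟩ := conj_dodecad hc hw1
  obtain ⟨n1, n2⟩ := ne_cd h1 h2 (by norm_num) (by decide +kernel)
  have h5 := (sd_sign (inv_conj hx) n1 n2).of_conj hy
  exact h5.of_conj hg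

theorem sd_b0 : Sd b0 := by
  have h := okO
  rw [Bool.and_eq_true, Bool.and_eq_true, Nat.beq_eq, Nat.beq_eq] at h
  obtain ⟨⟨hm, hp⟩, h8⟩ := h
  set t := signCo0 (cd 11538486) with ht
  have htb : t * b0 = b0 * t := sign_comm_b0 (by rw [Bool.and_eq_true, Nat.beq_eq]; exact ⟨hm, hp⟩)
  have htt : t * t = 1 := signCo0_mul_self _
  have hw : wt (cd 11538486) = 8 := by rw [wt_cd hm, h8]
  have hsq : (b0 * t) * (b0 * t) = ζ := by
    rw [mul_assoc, ← mul_assoc t, htb, mul_assoc, htt, mul_one, b0_sq]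
  obtain ⟨g, hg⟩ := conj_b0_of_sq_neg (b0 * t) hsq
  refine Sd.of_comm (l := b0 * t) (g := g) (inv_conj hg) ?_ ?_ ?_ ?_
  · rw [mul_assoc, htb]
  · intro h
    exact sign_ne_one (c := cd 11538486) (by omega) (left_eq_mul.1 h)
  · intro h
    apply sign_ne_ζ (c := cd 11538486) (by omega)
    have h1 : b0 * t = b0 * ζ := by
      calc b0 * t = ζ * (b0 * t) * t := by rw [← h]
        _ = ζ * b0 * (t * t) := by group
        _ = b0 * ζ := by rw [htt, mul_one, ζ_cen]
    exact mul_left_cancel h1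
  · rw [hsq, b0_sq]

theorem sqDiff_co0 : SqDiff Co0 := by
  intro α hα hα1
  obtain ⟨k, hk⟩ := Cfsg.Agent.ConwayFacts.AutCo1.inner_Co0 α
  obtain ⟨hk1, hkz, hkk⟩ := conj_cases hk hα hα1
  have key : Sd k := by
    rcases hkk with h | h
    · rcases cases k h hk1 hkz with h | h | h
      · exact sd_octad k h
      · have h3 := (sd_octad _ h).neg
        rwa [← mul_assoc, ζ_sq, one_mul] at h3
      · exact sd_dodecad k h
    · obtain ⟨g, hg⟩ := conj_b0_of_sq_neg k h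
      exact sd_b0.of_conj hg
  obtain ⟨x, hx, hx2⟩ := key
  refine ⟨x, ?_, ?_⟩
  · rw [hk]; exact hx
  · rw [hk]; exact hx2

/-! ### Abstract `2.Co1` -/

theorem noDouble_m24 : Cfsg.Agent.KFacts.MulDef.NoDouble M24 := fun _ _ _ π c h =>
  Cfsg.Agent.KFacts.MulM24.not_cov π c ⟨⟨h.ne, h.sq, h.cen, h.surj, h.ker⟩, h.perf⟩

variable {K : Type*} [Group K] [Finite K]

theorem facts_of_surj (hK : commutator K = ⊤) {f : K →* Cfsg.Spor.Co1} (hf : Function.Surjective f)
    (hk : f.ker ≤ Subgroup.center K) (h2 : IsPGroup 2 f.ker) (hne : f.ker ≠ ⊥) :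
    PairFree K ∧ SqDiff K := by
  obtain ⟨θ, -⟩ := Cfsg.Agent.KFacts.MulCo.CoZero.exists_equiv_co0 noDouble_m24 hK hf hk h2 hne
  exact ⟨pairFree_co0.map θ.symm, sqDiff_co0.map θ.symm⟩

/-- **(P1), (P2) for `2.Co1`.** -/
theorem facts_of_quot (hK : commutator K = ⊤) (h2 : Nat.card (Subgroup.center K) = 2)
    (hX : Spor.IsoCo1 (K ⧸ Subgroup.center K)) : PairFree K ∧ SqDiff K := by
  obtain ⟨e⟩ := hX
  let f : K →* Spor.Co1 := e.toMonoidHom.comp (QuotientGroup.mk' (Subgroup.center K))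
  have hf : Function.Surjective f := e.surjective.comp (QuotientGroup.mk'_surjective _)
  have hker : f.ker = Subgroup.center K := by
    ext x
    rw [MonoidHom.mem_ker, ← QuotientGroup.eq_one_iff (N := Subgroup.center K) x]
    show e (QuotientGroup.mk' (Subgroup.center K) x) = 1 ↔ _
    exact map_eq_one_iff e e.injective
  refine facts_of_surj hK hf hker.le ?_ ?_
  · rw [hker]
    exact IsPGroup.of_card (n := 1) (by rw [h2, pow_one])
  · rw [hker]
    intro h
    rw [h, Subgroup.card_bot] at h2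
    omega

theorem pairFree (hK : commutator K = ⊤) (h2 : Nat.card (Subgroup.center K) = 2)
    (hX : Spor.IsoCo1 (K ⧸ Subgroup.center K)) : PairFree K := (facts_of_quot hK h2 hX).1

theorem sqDiff (hK : commutator K = ⊤) (h2 : Nat.card (Subgroup.center K) = 2)
    (hX : Spor.IsoCo1 (K ⧸ Subgroup.center K)) : SqDiff K := (facts_of_quot hK h2 hX).2

end Cfsg.Agent.OddHalf.D4.Spor.TwoCo1
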