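import Cfsg.Agent.SignalizersComponents.BalEndJ1
import Cfsg.Agent.OddHalf.D4.Spor.Sheet

/-!
# Every automorphism of `J₁` is inner (helper283)

`G = J₁ = T H` (`|T| = 266`, `H = PSL₂(11)`, codes of `SporadicB/J1`). `f i` (`i < 8`) is a Sylow 2-subgroup `E` with
`x₀ = f 3 ∈ H`, `nn` an element of order 7 of `N(E)`. `cent_list` : the centralizer of `x₀` is a list of 120 codes.
An automorphism is, up to an inner one, trivial on `E` and on `nn`; the element `bb` is the only element of `C(x₀)` with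
`b³ = (b nn)⁵ = 1`; `G = ⟨E, nn, bb⟩`.
-/

set_option autoImplicit false
set_option maxRecDepth 100000

namespace Cfsg.Agent.OddHalf.D4.Spor.J1Out

open Subgroup
open Cfsg.Agent.SporadicB.J1.Mat Cfsg.Agent.SporadicB.J1.Main Cfsg.Agent.SporadicB.J1.Data
open Cfsg.Agent.SporadicB.KTab
open Cfsg.Spor (J1)
open Cfsg.Agent.SignalizersComponents.BalEndJ1 (n cn rep_n card_J1)

/-! ### The factorization -/

theorem exists_TH (g : J1) : ∃ i < 266, ∃ k < 660,
    ((g : GL (Fin 7) (ZMod 11)) : Matrix (Fin 7) (Fin 7) (ZMod 11)) = dec (T i) * dec (H k) :=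
  mem_S_of_mem g.2

noncomputable def F (g : J1) : Fin 266 × Fin 660 :=
  (⟨(exists_TH g).choose, (exists_TH g).choose_spec.1⟩,
    ⟨(exists_TH g).choose_spec.2.choose, (exists_TH g).choose_spec.2.choose_spec.1⟩)

theorem F_spec (g : J1) : ((g : GL (Fin 7) (ZMod 11)) : Matrix (Fin 7) (Fin 7) (ZMod 11)) =
    dec (T (F g).1) * dec (H (F g).2) :=
  (exists_TH g).choose_spec.2.choose_spec.2

theorem F_bij : Function.Bijective F := by
  refine Function.Injective.bijective_of_nat_card_le ?_ ?_
  · intro a b hab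
    apply Subtype.ext
    apply Units.ext
    rw [F_spec a, F_spec b, hab]
  · rw [card_J1]
    simp

/-- every code is the code of an element -/
theorem exists_rep {i k : ℕ} (hi : i < 266) (hk : k < 660) : ∃ g : J1, Rep g (mulC (T i) (H k)) := by
  obtain ⟨g, hg⟩ := F_bij.2 (⟨i, hi⟩, ⟨k, hk⟩)
  refine ⟨g, ?_⟩
  have h := F_spec g
  rw [hg] at h
  show ((g : GL (Fin 7) (ZMod 11)) : Matrix (Fin 7) (Fin 7) (ZMod 11)) = dec (mulC (T i) (H k))
  rw [dec_mul]
  exact h

theorem uniq {i k j l : ℕ} (hi : i < 266) (hk : k < 660) (hj : j < 266) (hl : l < 660)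
    (h : dec (T i) * dec (H k) = dec (T j) * dec (H l)) : i = j ∧ k = l := by
  obtain ⟨g, hg⟩ := F_bij.2 (⟨i, hi⟩, ⟨k, hk⟩)
  obtain ⟨g', hg'⟩ := F_bij.2 (⟨j, hj⟩, ⟨l, hl⟩)
  have h1 := F_spec g
  have h2 := F_spec g'
  rw [hg] at h1
  rw [hg'] at h2
  have h3 : g = g' := by
    apply Subtype.ext
    apply Units.ext
    rw [h1, h2]
    exact h
  rw [h3, hg'] at hg
  have h4 := Prod.ext_iff.1 hg
  exact ⟨(Fin.mk.inj_iff.1 h4.1).symm, (Fin.mk.inj_iff.1 h4.2).symm⟩

theorem exists_repH {k : ℕ} (hk : k < 660) : ∃ g : J1, Rep g (H k) := by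
  obtain ⟨g, hg⟩ := exists_rep (i := 0) (by norm_num) hk
  refine ⟨g, ?_⟩
  have hg' : ((g : GL (Fin 7) (ZMod 11)) : Matrix (Fin 7) (Fin 7) (ZMod 11)) = dec (mulC (T 0) (H k)) := hg
  show ((g : GL (Fin 7) (ZMod 11)) : Matrix (Fin 7) (Fin 7) (ZMod 11)) = dec (H k)
  rw [hg', dec_mul, T0, dec_cI, one_mul]

/-! ### The elements -/

def c : J1 := ev [2, 3, 2]

def cc0 : Nat := 63988059576815349381678405351066322021239432067654016543267
def cci0 : Nat := 66170334980848406500993779543982756607652403077886724215187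

theorem rep_c : Rep c cc0 := by
  have h := rep_ev [2, 3, 2]
  rwa [show evC [2, 3, 2] = cc0 by decide +kernel] at h

theorem rep_ci : Rep c⁻¹ cci0 := rep_c.inv (by decide +kernel)

def f (i : Fin 8) : J1 := c * e i * c⁻¹

def cf : Fin 8 → Nat := ![6277101736848182401506974708411517874814724153223283736577, 58847852865027827543498583055667007510058370120034851853059, 34131752835628321592560571778724583727490278371738742587912, 47470612023179205882167714647123370649512693501595759555330, 6277101736848182404569516011413017508779495355114479157258, 58847852865027827545020595830474854249176684925470850557960, 34131752835628321590679667422078410544834266620027249703171, 47470612023179205883665707856723288430166775175360687474697]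

theorem cf_eq : ∀ i : Fin 8, mulC (mulC cc0 (ce i)) cci0 = cf i := by decide +kernel

theorem rep_f (i : Fin 8) : Rep (f i) (cf i) := cf_eq i ▸ (rep_c.mul (rep_e i)).mul rep_ci

def nn : J1 := c * n * c⁻¹

def cnn : Nat := 7653883423789084438670708364409526631939892651156061630855

theorem rep_nn : Rep nn cnn := by
  have h := (rep_c.mul rep_n).mul rep_ci
  rwa [show mulC (mulC cc0 cn) cci0 = cnn by decide +kernel] at h

/-- `x₀ = f 3` is the element 578 of `H` -/
theorem x0_H : H 578 = cf 3 := by decide +kernel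

/-! ### The centralizer of `x₀` -/

def jl : List (Nat × Nat) := [(0, 578), (34, 393), (228, 457), (212, 393), (54, 284), (232, 467), (75, 564), (157, 393), (30, 284), (61, 375), (260, 89), (97, 224), (44, 564), (41, 94), (99, 393), (187, 127), (16, 284), (134, 640), (68, 384), (240, 529), (166, 599), (59, 224), (142, 307), (25, 564), (221, 618), (23, 94), (117, 311), (220, 286), (130, 127), (86, 305), (8, 284), (83, 531), (164, 508), (39, 384), (1, 499), (258, 457), (89, 332), (107, 599), (103, 216), (33, 224), (230, 223), (13, 564), (165, 618), (73, 496), (12, 94), (84, 286), (133, 65), (202, 616), (188, 48), (163, 437), (179, 21), (65, 203), (52, 305), (53, 299), (4, 284), (127, 606), (69, 28), (106, 508), (256, 441), (21, 384), (222, 358), (9, 335), (189, 643), (150, 525), (66, 599), (51, 467), (64, 216), (211, 466), (18, 224), (56, 121), (173, 223), (92, 65), (120, 564), (43, 496), (170, 533), (6, 94), (152, 539), (144, 616), (96, 630), (190, 90), (146, 646), (226, 324),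 (122, 21), (31, 373), (45, 352), (171, 353), (29, 305), (185, 513), (247, 299), (36, 304), (214, 539), (205, 263), (71, 649), (204, 275), (181, 517), (253, 47), (78, 511), (11, 384), (104, 558), (14, 499), (159, 584), (131, 303), (234, 213), (38, 599), (98, 539), (175, 185), (57, 508), (37, 216), (263, 18), (193, 256), (155, 224), (129, 222), (115, 223), (135, 510), (239, 233), (112, 187), (143, 283), (26, 576), (231, 204), (200, 121), (72, 94), (252, 88), (82, 51), (149, 165), (132, 90), (215, 21), (139, 140), (55, 265), (195, 312), (111, 480), (28, 190), (101, 298), (124, 62), (46, 649), (17, 445), (113, 353), (140, 160), (196, 305), (241, 643), (126, 513), (136, 68), (201, 299), (22, 650), (116, 174), (77, 366), (153, 178), (80, 646), (192, 640), (242, 212), (123, 517), (63, 440), (257, 77), (76, 558), (145, 529), (225, 142), (110, 384), (233, 115), (7, 499), (158, 295), (100, 657), (180, 213), (184, 163), (223, 599), (49, 643), (32, 508), (42, 504), (20, 216), (243, 452), (186,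 215), (254, 247), (74, 533), (85, 510), (213, 514), (70, 187), (174, 496), (105, 210), (176, 587), (210, 88), (218, 356), (50, 51), (160, 655), (94, 165), (255, 286), (235, 530), (161, 378), (87, 140), (168, 342), (15, 190), (48, 328), (62, 437), (79, 62), (191, 106), (147, 445), (109, 624), (198, 437), (128, 312), (137, 305), (237, 462), (194, 643), (251, 542), (119, 28), (141, 299), (47, 366), (208, 588), (93, 365), (91, 58), (262, 359), (229, 530), (203, 329), (264, 197), (177, 175), (67, 536), (3, 499), (172, 514), (90, 558), (125, 51), (248, 112), (250, 104), (178, 623), (227, 643), (27, 352), (24, 504), (60, 458), (162, 216), (236, 202), (154, 194), (81, 324), (219, 437), (2, 350), (207, 372), (40, 187), (118, 144), (5, 203), (156, 168), (102, 655), (183, 372), (224, 341), (197, 343), (238, 299), (114, 415), (19, 178), (138, 437), (148, 396), (167, 143), (245, 619), (244, 225), (259, 158), (88, 299), (216, 179), (249, 626), (217, 104), (199, 325), (121, 175), (95, 150), (169,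 428), (182, 352), (58, 261), (151, 13), (35, 350), (246, 590), (10, 289), (265, 204), (206, 622), (108, 182), (209, 459), (261, 144)]

def jj (i : Nat) : Nat := (jl.getD i (0, 0)).1
def ll (i : Nat) : Nat := (jl.getD i (0, 0)).2

def fixL : List (Nat × Nat) := [(0, 0), (16, 35), (52, 30), (53, 56), (158, 26), (174, 71), (176, 1), (191, 45), (238, 56), (249, 36)]

def chL : List Nat := [0, 106, 132, 186, 295, 330, 361, 371, 541, 557, 578, 591]

theorem tab_ok : ((List.range 266).all fun i => Nat.beq (mulC (cf 3) (T i)) (mulC (T (jj i)) (H (ll i))) &&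
    Nat.blt (jj i) 266 && Nat.blt (ll i) 660 && (!(Nat.beq (jj i) i) || fixL.any fun p => Nat.beq p.1 i)) = true := by
  decide +kernel

theorem fix_ok : (fixL.all fun p => Nat.blt p.1 266 && Nat.blt p.2 660 &&
    Nat.beq (mulC (mulC (T p.1) (H p.2)) (cf 3)) (mulC (cf 3) (mulC (T p.1) (H p.2)))) = true := by
  decide +kernel

theorem ch_ok : ((List.range 660).all fun k => diffC (mulC (H k) (cf 3)) (mulC (cf 3) (H k)) ||
    chL.any fun l => Nat.beq l k) = true := by decide +kernel

/-- codes of the elements of `C(x₀)` -/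
def cod (p : Nat × Nat) (k : Nat) : Nat := mulC (mulC (T p.1) (H p.2)) (H k)

theorem exists_left {k l : ℕ} (hk : k < 660) (hl : l < 660) : ∃ m < 660, dec (H k) * dec (H m) = dec (H l) := by
  choose! φ hφ using H_mul k hk
  obtain ⟨g, hg⟩ := exists_repH hk
  have hunit : ∀ A B : Matrix (Fin 7) (Fin 7) (ZMod 11), dec (H k) * A = dec (H k) * B → A = B := by
    intro A B h
    rw [← hg] at h
    have h2 := congrArg (fun M => ((g⁻¹ : J1) : GL (Fin 7) (ZMod 11)).1 * M) h
    simp only [← mul_assoc] at h2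
    have h3 : ((g⁻¹ : J1) : GL (Fin 7) (ZMod 11)).1 * ((g : GL (Fin 7) (ZMod 11)) : Matrix (Fin 7) (Fin 7) (ZMod 11)) = 1 := by
      have : ((g⁻¹ * g : J1) : GL (Fin 7) (ZMod 11)).1 = 1 := by rw [inv_mul_cancel]; rfl
      exact this
    rw [h3, one_mul, one_mul] at h2
    exact h2
  have hinj : Function.Injective (fun m : Fin 660 => (⟨φ m, (hφ m m.2).1⟩ : Fin 660)) := by
    intro a b hab
    have h1 : φ a = φ b := Fin.mk.inj_iff.1 hab
    have h2 : dec (H k) * dec (H a) = dec (H k) * dec (H b) := by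
      rw [(hφ a a.2).2, (hφ b b.2).2, h1]
    have h3 := hunit _ _ h2
    have h4 := uniq (i := 0) (j := 0) (by norm_num) a.2 (by norm_num) b.2 (by rw [h3])
    exact Fin.ext h4.2
  obtain ⟨m, hm⟩ := (Finite.surjective_of_injective hinj) ⟨l, hl⟩
  refine ⟨m, m.2, ?_⟩
  rw [(hφ m m.2).2]
  have : φ m = l := Fin.mk.inj_iff.1 hm
  rw [this]

theorem cent_list {g : J1} (hg : g * f 3 = f 3 * g) : ∃ p ∈ fixL, ∃ k ∈ chL, Rep g (cod p k) := by
  obtain ⟨i, hi, k, hk, hgk⟩ := exists_TH g
  have ht := tab_ok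
  rw [List.all_eq_true] at ht
  have hti := ht i (List.mem_range.2 hi)
  simp only [Bool.and_eq_true, Bool.or_eq_true, Nat.beq_eq, Nat.blt_eq] at hti
  obtain ⟨⟨⟨h1, h2⟩, h3⟩, h4⟩ := hti
  -- compare
  have hx : Rep (f 3) (cf 3) := rep_f 3
  have e1 : ((f 3 * g : J1) : GL (Fin 7) (ZMod 11)).1 = dec (T (jj i)) * (dec (H (ll i)) * dec (H k)) := by
    have : ((f 3 * g : J1) : GL (Fin 7) (ZMod 11)).1 =
        ((f 3 : J1) : GL (Fin 7) (ZMod 11)).1 * (g : GL (Fin 7) (ZMod 11)).1 := rfl
    rw [this, hgk, hx, ← mul_assoc, ← dec_mul, h1, dec_mul, mul_assoc]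
  have e2 : ((g * f 3 : J1) : GL (Fin 7) (ZMod 11)).1 = dec (T i) * (dec (H k) * dec (H 578)) := by
    have : ((g * f 3 : J1) : GL (Fin 7) (ZMod 11)).1 =
        (g : GL (Fin 7) (ZMod 11)).1 * ((f 3 : J1) : GL (Fin 7) (ZMod 11)).1 := rfl
    rw [this, hgk, hx, x0_H, mul_assoc]
  obtain ⟨m, hm, hm'⟩ := H_mul (ll i) h3 k hk
  obtain ⟨m', hm2, hm2'⟩ := H_mul k hk 578 (by norm_num)
  rw [hm'] at e1
  rw [hm2'] at e2
  rw [hg, e1] at e2
  have hji := (uniq h2 hm hi hm2 e2).1
  rcases h4 with h4 | h4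
  · exfalso
    rw [Bool.not_eq_true'] at h4
    have : Nat.beq (jj i) i = true := by rw [hji]; exact Nat.beq_refl i
    rw [this] at h4
    exact absurd h4 (by decide)
  · rw [List.any_eq_true] at h4
    obtain ⟨p, hp, hpi⟩ := h4
    have hpi' : p.1 = i := Nat.eq_of_beq_eq_true hpi
    have hfx := fix_ok
    rw [List.all_eq_true] at hfx
    have hfp := hfx p hp
    simp only [Bool.and_eq_true, Nat.beq_eq, Nat.blt_eq] at hfp
    obtain ⟨⟨h5, h6⟩, h7⟩ := hfp
    obtain ⟨ga, hga⟩ := exists_rep h5 h6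
    have hgac : ga * f 3 = f 3 * ga := (hga.mul hx).eq (hx.mul hga) h7
    obtain ⟨l, hl, hl'⟩ := exists_left h6 hk
    obtain ⟨h, hh⟩ := exists_repH hl
    have hgh : g = ga * h := by
      apply Subtype.ext
      apply Units.ext
      have : ((ga * h : J1) : GL (Fin 7) (ZMod 11)).1 =
          (ga : GL (Fin 7) (ZMod 11)).1 * (h : GL (Fin 7) (ZMod 11)).1 := rfl
      rw [this, hga, hh, dec_mul, mul_assoc, hl', hpi', hgk]
    have hhc : h * f 3 = f 3 * h := by
      rw [hgh] at hg
      have h8 : ga * (h * f 3) = ga * (f 3 * h) := by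
        rw [← mul_assoc, hg, ← mul_assoc, ← hgac, mul_assoc]
      exact mul_left_cancel h8
    have hch := ch_ok
    rw [List.all_eq_true] at hch
    have hcl := hch l (List.mem_range.2 hl)
    rw [Bool.or_eq_true] at hcl
    rcases hcl with h9 | h9
    · exact absurd hhc ((hh.mul hx).ne (hx.mul hh) h9)
    · rw [List.any_eq_true] at h9
      obtain ⟨k', hk', h10⟩ := h9
      have h10' : k' = l := Nat.eq_of_beq_eq_true h10
      refine ⟨p, hp, k', hk', ?_⟩
      rw [hgh, h10']
      exact hga.mul hh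

/-! ### `C(E) = E` -/

theorem centE_ok : (fixL.all fun p => chL.all fun k => diffC (mulC (cod p k) (cf 1)) (mulC (cf 1) (cod p k)) ||
    diffC (mulC (cod p k) (cf 4)) (mulC (cf 4) (cod p k)) ||
    (List.finRange 8).any fun i => Nat.beq (cf i) (cod p k)) = true := by decide +kernel

theorem centE {g : J1} (hg : ∀ i, g * f i = f i * g) : ∃ i, g = f i := by
  obtain ⟨p, hp, k, hk, hr⟩ := cent_list (hg 3)
  have h := centE_ok
  rw [List.all_eq_true] at h
  have h1 := h p hp
  rw [List.all_eq_true] at h1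
  have h2 := h1 k hk
  simp only [Bool.or_eq_true] at h2
  rcases h2 with (h2 | h2) | h2
  · exact absurd (hg 1) ((hr.mul (rep_f 1)).ne ((rep_f 1).mul hr) h2)
  · exact absurd (hg 4) ((hr.mul (rep_f 4)).ne ((rep_f 4).mul hr) h2)
  · rw [List.any_eq_true] at h2
    obtain ⟨i, -, hi⟩ := h2
    refine ⟨i, hr.eq (rep_f i) (Nat.eq_of_beq_eq_true hi).symm⟩

/-! ### `E` and `N(E)` -/

def xr : Fin 8 → Fin 8 → Fin 8 := fun i j => ⟨(i.val ^^^ j.val) % 8, Nat.mod_lt _ (by norm_num)⟩

theorem cf_mul : ∀ i j : Fin 8, mulC (cf i) (cf j) = cf (xr i j) := by decide +kernel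

theorem f_mul (i j : Fin 8) : f i * f j = f (xr i j) :=
  ((rep_f i).mul (rep_f j)).eq (rep_f _) (cf_mul i j)

theorem cf_diff : ∀ i j : Fin 8, i ≠ j → diffC (cf i) (cf j) = true := by decide +kernel

theorem f_inj : Function.Injective f := by
  intro i j h
  by_contra hne
  exact (rep_f i).ne (rep_f j) (cf_diff i j hne) h

theorem f_zero : f 0 = 1 := (rep_f 0).eq Rep.one (by decide +kernel)

theorem f_sq (i : Fin 8) : f i * f i = 1 := by
  rw [f_mul, ← f_zero]
  congr 1
  revert i
  decide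

theorem f_inv (i : Fin 8) : (f i)⁻¹ = f i := inv_eq_of_mul_eq_one_right (f_sq i)

theorem f_comm (i j : Fin 8) : f i * f j = f j * f i := by
  rw [f_mul, f_mul]
  congr 1
  revert i j
  decide

def pn : Fin 8 → Fin 8 := ![0, 5, 4, 1, 3, 6, 7, 2]

theorem pn_code : ∀ i : Fin 8, mulC cnn (cf i) = mulC (cf (pn i)) cnn := by decide +kernel

theorem nn_conj (i : Fin 8) : nn * f i * nn⁻¹ = f (pn i) := by
  rw [mul_inv_eq_iff_eq_mul]
  exact (rep_nn.mul (rep_f i)).eq ((rep_f _).mul rep_nn) (pn_code i)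

/-- an element of order 3 of `N(E)` -/
noncomputable def r : J1 := (exists_rep (i := 53) (k := 481) (by norm_num) (by norm_num)).choose

theorem rep_r : Rep r (mulC (T 53) (H 481)) :=
  (exists_rep (i := 53) (k := 481) (by norm_num) (by norm_num)).choose_spec

def pr : Fin 8 → Fin 8 := ![0, 7, 4, 3, 6, 1, 2, 5]

theorem pr_code : ∀ i : Fin 8, mulC (mulC (T 53) (H 481)) (cf i) = mulC (cf (pr i)) (mulC (T 53) (H 481)) := by
  decide +kernel

theorem r_conj (i : Fin 8) : r * f i * r⁻¹ = f (pr i) := by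
  rw [mul_inv_eq_iff_eq_mul]
  exact (rep_r.mul (rep_f i)).eq ((rep_f _).mul rep_r) (pr_code i)

/-- the generator of order 3 -/
noncomputable def bb : J1 := (exists_repH (k := 186) (by norm_num)).choose

theorem rep_bb : Rep bb (H 186) := (exists_repH (k := 186) (by norm_num)).choose_spec

theorem bb_comm : bb * f 3 = f 3 * bb :=
  (rep_bb.mul (rep_f 3)).eq ((rep_f 3).mul rep_bb) (by decide +kernel)

theorem bb_three : bb ^ 3 = 1 := (rep_bb.pow 3).eq Rep.one (by decide +kernel)

theorem bb_five : (bb * nn) ^ 5 = 1 := ((rep_bb.mul rep_nn).pow 5).eq Rep.one (by decide +kernel)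

theorem bb_ok : (fixL.all fun p => chL.all fun k => diffC (powC (cod p k) 3 cI) cI ||
    diffC (powC (mulC (cod p k) cnn) 5 cI) cI || Nat.beq (cod p k) (H 186)) = true := by decide +kernel

theorem bb_unique {g : J1} (hg : g * f 3 = f 3 * g) (h3 : g ^ 3 = 1) (h5 : (g * nn) ^ 5 = 1) : g = bb := by
  obtain ⟨p, hp, k, hk, hr⟩ := cent_list hg
  have h := bb_ok
  rw [List.all_eq_true] at h
  have h1 := h p hp
  rw [List.all_eq_true] at h1
  have h2 := h1 k hk
  simp only [Bool.or_eq_true] at h2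
  rcases h2 with (h2 | h2) | h2
  · exact absurd h3 ((hr.pow 3).ne Rep.one h2)
  · exact absurd h5 (((hr.mul rep_nn).pow 5).ne Rep.one h2)
  · exact hr.eq rep_bb (Nat.eq_of_beq_eq_true h2)

/-! ### Generation -/

theorem cnni : Nat.beq (mulC cnn 9548228132843210365210554729412479892078343928808861103975) cI = true := by decide +kernel

theorem rep_nni : Rep nn⁻¹ 9548228132843210365210554729412479892078343928808861103975 := rep_nn.inv (Nat.eq_of_beq_eq_true cnni)

theorem rep_bbi : Rep bb⁻¹ 1658881329279253952845044643823682673992817971832375449939 := rep_bb.inv (by decide +kernel)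

noncomputable def gs : Nat → J1
  | 0 => f 1
  | 1 => f 2
  | 2 => f 4
  | 3 => nn
  | 4 => nn⁻¹
  | 5 => bb
  | _ => bb⁻¹

def gc : Nat → Nat
  | 0 => cf 1
  | 1 => cf 2
  | 2 => cf 4
  | 3 => cnn
  | 4 => 9548228132843210365210554729412479892078343928808861103975
  | 5 => H 186
  | _ => 1658881329279253952845044643823682673992817971832375449939

theorem rep_gs : ∀ k : Nat, Rep (gs k) (gc k)
  | 0 => rep_f 1
  | 1 => rep_f 2
  | 2 => rep_f 4
  | 3 => rep_nn
  | 4 => rep_nni
  | 5 => rep_bb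
  | (_ + 6) => rep_bbi

noncomputable def evG : List Nat → J1
  | [] => 1
  | k :: w => gs k * evG w

def evGC : List Nat → Nat
  | [] => cI
  | k :: w => mulC (gc k) (evGC w)

theorem rep_evG : ∀ w : List Nat, Rep (evG w) (evGC w)
  | [] => Rep.one
  | k :: w => (rep_gs k).mul (rep_evG w)

theorem X_eq : evG [4, 1, 6, 4, 5, 0, 3] = X := (rep_evG _).eq repX (by decide +kernel)

theorem Y_eq : evG [4, 5, 4, 2, 6, 3, 6, 3] = Y := (rep_evG _).eq repY (by decide +kernel)

/-- an automorphism fixing the generators is trivial -/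
theorem eq_one_of_fix (α : MulAut J1) (hf : ∀ i, α (f i) = f i) (hn : α nn = nn) (hb : α bb = bb) :
    α = 1 := by
  have hg : ∀ k : Nat, α (gs k) = gs k := by
    intro k
    match k with
    | 0 => exact hf 1
    | 1 => exact hf 2
    | 2 => exact hf 4
    | 3 => exact hn
    | 4 => show α nn⁻¹ = nn⁻¹; rw [map_inv, hn]
    | 5 => exact hb
    | (_ + 6) => show α bb⁻¹ = bb⁻¹; rw [map_inv, hb]
  have hw : ∀ w : List Nat, α (evG w) = evG w := by
    intro w
    induction w with
    | nil => exact map_one α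
    | cons k w ih =>
      show α (gs k * evG w) = gs k * evG w
      rw [map_mul, hg, ih]
  have hX : α X = X := by rw [← X_eq]; exact hw _
  have hY : α Y = Y := by rw [← Y_eq]; exact hw _
  have hle : J1 ≤ (α.toMonoidHom.eqLocus (MonoidHom.id J1)).map J1.subtype := by
    show Subgroup.closure _ ≤ _
    rw [Subgroup.closure_le]
    rintro x (rfl | rfl)
    · exact ⟨X, hX, rfl⟩
    · exact ⟨Y, hY, rfl⟩
  ext1 g
  obtain ⟨y, hy, hyg⟩ := hle g.2
  have : y = g := Subtype.ext hyg
  rw [← this]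
  exact hy

/-! ### The Sylow subgroup -/

def EE : Subgroup J1 where
  carrier := Set.range f
  mul_mem' := by
    rintro _ _ ⟨i, rfl⟩ ⟨j, rfl⟩
    exact ⟨_, (f_mul i j).symm⟩
  one_mem' := ⟨0, f_zero⟩
  inv_mem' := by
    rintro _ ⟨i, rfl⟩
    exact ⟨i, (f_inv i).symm⟩

theorem mem_EE {x : J1} : x ∈ EE ↔ ∃ i, f i = x := Iff.rfl

theorem card_EE : Nat.card EE = 8 := by
  have h : Nat.card (Set.range f) = 8 := by
    rw [Nat.card_congr (Equiv.ofInjective f f_inj).symm]
    simp
  exact h

theorem card_pow : (8 : ℕ) = 2 ^ (Nat.card J1).factorization 2 := by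
  rw [card_J1, show (175560 : ℕ) = 2 ^ 3 * 21945 by norm_num,
    Nat.factorization_mul (by norm_num) (by norm_num), Nat.Prime.factorization_pow Nat.prime_two]
  rw [Finsupp.add_apply, Finsupp.single_eq_same,
    Nat.factorization_eq_zero_of_not_dvd (by norm_num : ¬ 2 ∣ 21945)]
  norm_num

theorem exists_conj_EE (α : MulAut J1) : ∃ g : J1, ∀ i, ∃ j, g * α (f i) * g⁻¹ = f j := by
  have : Fact (Nat.Prime 2) := ⟨Nat.prime_two⟩
  let P : Sylow 2 J1 := Sylow.ofCard EE (by rw [card_EE]; exact card_pow)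
  let Q : Sylow 2 J1 := Sylow.ofCard (EE.map α.toMonoidHom) (by
    rw [Nat.card_congr (EE.equivMapOfInjective _ α.injective).symm.toEquiv, card_EE]; exact card_pow)
  obtain ⟨g, hg⟩ := MulAction.exists_smul_eq J1 Q P
  refine ⟨g, fun i => ?_⟩
  have h1 : g * α (f i) * g⁻¹ ∈ (P : Subgroup J1) := by
    rw [← hg]
    have h2 : α (f i) ∈ (Q : Subgroup J1) := ⟨f i, ⟨i, rfl⟩, rfl⟩
    exact smul_mem_pointwise_smul _ (MulAut.conj g) _ h2
  obtain ⟨j, hj⟩ : g * α (f i) * g⁻¹ ∈ EE := h1
  exact ⟨j, hj.symm⟩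

/-- a 2-element normalizing `E` centralizes `E` -/
theorem comm_of_norm {g : J1} {τ : Fin 8 → Fin 8} (hg : ∀ i, g * f i * g⁻¹ = f (τ i)) (h4 : g ^ 4 = 1) (i : Fin 8) :
    τ i = i := by
  have hp : Fact (Nat.Prime 2) := ⟨Nat.prime_two⟩
  let P : Sylow 2 J1 := Sylow.ofCard EE (by rw [card_EE]; exact card_pow)
  have hz : IsPGroup 2 (zpowers g) := by
    have h1 : orderOf g ∣ 2 ^ 2 := orderOf_dvd_of_pow_eq_one (by rw [show 2 ^ 2 = 4 by norm_num, h4])
    obtain ⟨k, -, hk⟩ := (Nat.dvd_prime_pow Nat.prime_two).1 h1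
    exact IsPGroup.of_card (n := k) (by rw [Nat.card_zpowers, hk])
  have hτ : Function.Injective τ := by
    intro a b hab
    apply f_inj
    have h1 := hg a
    rw [hab, ← hg b] at h1
    simpa using h1
  have hn : g ∈ normalizer ((P : Subgroup J1) : Set J1) := by
    rw [mem_normalizer_iff]
    intro x
    constructor
    · rintro ⟨i, rfl⟩
      exact ⟨τ i, (hg i).symm⟩
    · rintro ⟨j, hj⟩
      obtain ⟨i, hi⟩ := (Finite.injective_iff_surjective.1 hτ) j
      refine ⟨i, ?_⟩
      rw [← hi, ← hg i] at hj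
      simpa using hj
  have h1 : g ∈ zpowers g ⊓ normalizer ((P : Subgroup J1) : Set J1) := ⟨mem_zpowers g, hn⟩
  have h2 : zpowers g ⊓ normalizer ((P : Subgroup J1) : Set J1) = zpowers g ⊓ (P : Subgroup J1) :=
    hz.inf_normalizer_sylow P
  rw [h2] at h1
  obtain ⟨j, hj⟩ : g ∈ EE := h1.2
  apply f_inj
  rw [← hg i, ← hj, mul_inv_eq_iff_eq_mul]
  exact f_comm j i

/-! ### Linear maps -/

def lin (a b c : Fin 8) : Fin 8 → Fin 8 := ![0, a, b, xr a b, c, xr a c, xr b c, xr a (xr b c)]

def injB (σ : Fin 8 → Fin 8) : Bool :=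
  (List.finRange 8).all fun i => (List.finRange 8).all fun j => !(σ i == σ j) || i == j

def invF (σ : Fin 8 → Fin 8) (j : Fin 8) : Fin 8 :=
  ((List.finRange 8).find? (fun i => σ i == j)).getD 0

def it (p : Fin 8 → Fin 8) : Nat → Fin 8 → Fin 8
  | 0, i => i
  | k + 1, i => p (it p k i)

def W (k l : Nat) (i : Fin 8) : Fin 8 := it pn k (it pr l i)

def tau (σ : Fin 8 → Fin 8) (k l : Nat) (i : Fin 8) : Fin 8 := σ (pn (invF σ (W k l i)))

def good (σ : Fin 8 → Fin 8) : Bool :=
  !(injB σ) || ((List.range 7).any fun k => (List.range 3).any fun l => (List.finRange 8).all fun i => σ i == W k l i) ||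
    ((List.range 7).any fun k => (List.range 3).any fun l =>
      ((List.finRange 8).all fun i => tau σ k l (tau σ k l i) == i) && (List.finRange 8).any fun i => !(tau σ k l i == i))

theorem good_ok : ((List.finRange 8).all fun a => (List.finRange 8).all fun b => (List.finRange 8).all fun c =>
    good (lin a b c)) = true := by decide +kernel

theorem good_lin (a b c : Fin 8) : good (lin a b c) = true := by
  have h := good_ok
  rw [List.all_eq_true] at h
  have h1 := h a (List.mem_finRange a)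
  rw [List.all_eq_true] at h1
  have h2 := h1 b (List.mem_finRange b)
  rw [List.all_eq_true] at h2
  exact h2 c (List.mem_finRange c)

theorem eq_lin {σ : Fin 8 → Fin 8} (h0 : σ 0 = 0) (h : ∀ i j, σ (xr i j) = xr (σ i) (σ j)) :
    σ = lin (σ 1) (σ 2) (σ 4) := by
  have h3 : σ 3 = xr (σ 1) (σ 2) := by rw [← h]; rfl
  have h5 : σ 5 = xr (σ 1) (σ 4) := by rw [← h]; rfl
  have h6 : σ 6 = xr (σ 2) (σ 4) := by rw [← h]; rfl
  have h7 : σ 7 = xr (σ 1) (xr (σ 2) (σ 4)) := by rw [← h, ← h]; rfl
  funext i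
  fin_cases i
  · exact h0
  · rfl
  · rfl
  · exact h3
  · rfl
  · exact h5
  · exact h6
  · exact h7

theorem it_conj {g : J1} {p : Fin 8 → Fin 8} (hg : ∀ i, g * f i * g⁻¹ = f (p i)) (k : Nat) (i : Fin 8) :
    g ^ k * f i * (g ^ k)⁻¹ = f (it p k i) := by
  induction k with
  | zero => simp [it]
  | succ k ih =>
    rw [pow_succ']
    show _ = f (p (it p k i))
    rw [← hg, ← ih]
    group

theorem W_conj (k l : Nat) (i : Fin 8) : (nn ^ k * r ^ l) * f i * (nn ^ k * r ^ l)⁻¹ = f (W k l i) := by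
  show _ = f (it pn k (it pr l i))
  rw [← it_conj nn_conj, ← it_conj r_conj]
  group

/-- an automorphism normalizing `E` acts on `E` as an element of `N(E)` -/
theorem exists_W (β : MulAut J1) {σ : Fin 8 → Fin 8} (hσ : ∀ i, β (f i) = f (σ i)) :
    ∃ k l : Nat, ∀ i, σ i = W k l i := by
  have hinj : Function.Injective σ := by
    intro a b hab
    apply f_inj
    apply β.injective
    rw [hσ, hσ, hab]
  have hsurj := Finite.injective_iff_surjective.1 hinj
  have h0 : σ 0 = 0 := by
    apply f_inj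
    rw [← hσ, f_zero, map_one]
  have hadd : ∀ i j, σ (xr i j) = xr (σ i) (σ j) := by
    intro i j
    apply f_inj
    rw [← hσ, ← f_mul, ← f_mul, map_mul, hσ, hσ]
  have hinv : ∀ j, σ (invF σ j) = j := by
    intro j
    obtain ⟨i, hi⟩ := hsurj j
    unfold invF
    rcases hfd : (List.finRange 8).find? (fun i => σ i == j) with _ | s
    · rw [List.find?_eq_none] at hfd
      exact absurd (by rw [hi]; exact beq_self_eq_true j) (hfd i (List.mem_finRange i))
    · have := List.find?_some hfd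
      exact beq_iff_eq.1 this
  have hg := good_lin (σ 1) (σ 2) (σ 4)
  rw [← eq_lin h0 hadd] at hg
  unfold good at hg
  simp only [Bool.or_eq_true] at hg
  rcases hg with (hg | hg) | hg
  · exfalso
    have : injB σ = true := by
      unfold injB
      rw [List.all_eq_true]
      intro i _
      rw [List.all_eq_true]
      intro j _
      by_cases hij : i = j
      · simp [hij]
      · have : σ i ≠ σ j := fun h => hij (hinj h)
        simp [this]
    rw [this] at hg
    exact absurd hg (by decide)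
  · rw [List.any_eq_true] at hg
    obtain ⟨k, -, hg⟩ := hg
    rw [List.any_eq_true] at hg
    obtain ⟨l, -, hg⟩ := hg
    rw [List.all_eq_true] at hg
    exact ⟨k, l, fun i => beq_iff_eq.1 (hg i (List.mem_finRange i))⟩
  · exfalso
    rw [List.any_eq_true] at hg
    obtain ⟨k, -, hg⟩ := hg
    rw [List.any_eq_true] at hg
    obtain ⟨l, -, hg⟩ := hg
    rw [Bool.and_eq_true, List.all_eq_true, List.any_eq_true] at hg
    obtain ⟨hg1, i, -, hg2⟩ := hg
    have hg1' : ∀ i, tau σ k l (tau σ k l i) = i := fun i => beq_iff_eq.1 (hg1 i (List.mem_finRange i))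
    let g : J1 := β nn * (nn ^ k * r ^ l)
    have hgc : ∀ i, g * f i * g⁻¹ = f (tau σ k l i) := by
      intro i
      have e1 : g * f i * g⁻¹ = β nn * ((nn ^ k * r ^ l) * f i * (nn ^ k * r ^ l)⁻¹) * (β nn)⁻¹ := by
        show β nn * (nn ^ k * r ^ l) * f i * (β nn * (nn ^ k * r ^ l))⁻¹ = _
        group
      rw [e1, W_conj]
      have e2 : f (W k l i) = β (f (invF σ (W k l i))) := by rw [hσ, hinv]
      rw [e2, ← map_inv, ← map_mul, ← map_mul, nn_conj, hσ]
      rfl
    have hgg : ∀ i, (g * g) * f i = f i * (g * g) := by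
      intro i
      have h1 : (g * g) * f i * (g * g)⁻¹ = f i := by
        calc (g * g) * f i * (g * g)⁻¹ = g * (g * f i * g⁻¹) * g⁻¹ := by group
          _ = f i := by rw [hgc, hgc, hg1']
      rwa [mul_inv_eq_iff_eq_mul] at h1
    obtain ⟨j, hj⟩ := centE hgg
    have h4 : g ^ 4 = 1 := by
      have : g ^ 4 = (g * g) * (g * g) := by
        rw [show (4 : ℕ) = 2 + 2 from rfl, pow_add, pow_two]
      rw [this, hj, f_sq]
    have := comm_of_norm hgc h4 i
    rw [this] at hg2
    simp at hg2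

theorem nn_ok : ((List.finRange 8).all fun j => (List.finRange 8).any fun i =>
    Nat.beq (mulC (mulC (cf i) cnn) (cf i)) (mulC cnn (cf j))) = true := by decide +kernel

/-- **Every automorphism of `J₁` is inner.** -/
theorem inn (α : MulAut J1) : ∃ k : J1, α = MulAut.conj k := by
  obtain ⟨g, hg⟩ := exists_conj_EE α
  choose σ hσ using hg
  let β : MulAut J1 := MulAut.conj g * α
  have hβ : ∀ i, β (f i) = f (σ i) := hσ
  obtain ⟨k, l, hW⟩ := exists_W β hβ
  let w : J1 := nn ^ k * r ^ l
  let γ : MulAut J1 := (MulAut.conj w)⁻¹ * β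
  have hγ : ∀ i, γ (f i) = f i := by
    intro i
    show (MulAut.conj w)⁻¹ (β (f i)) = f i
    rw [hβ, hW, ← W_conj, ← map_inv, MulAut.conj_apply]
    show w⁻¹ * (w * f i * w⁻¹) * w⁻¹⁻¹ = f i
    group
  have hγn : ∀ i, (nn⁻¹ * γ nn) * f i = f i * (nn⁻¹ * γ nn) := by
    intro i
    have h1 : γ nn * f i * (γ nn)⁻¹ = nn * f i * nn⁻¹ := by
      have : γ (nn * f i * nn⁻¹) = γ nn * f i * (γ nn)⁻¹ := by
        rw [map_mul, map_mul, map_inv, hγ]
      rw [← this, nn_conj, hγ]
    calc (nn⁻¹ * γ nn) * f i = nn⁻¹ * (γ nn * f i * (γ nn)⁻¹) * γ nn := by group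
      _ = nn⁻¹ * (nn * f i * nn⁻¹) * γ nn := by rw [h1]
      _ = f i * (nn⁻¹ * γ nn) := by group
  obtain ⟨j, hj⟩ := centE hγn
  have hj' : γ nn = nn * f j := by rw [← hj]; group
  have hnn := nn_ok
  rw [List.all_eq_true] at hnn
  have hn1 := hnn j (List.mem_finRange j)
  rw [List.any_eq_true] at hn1
  obtain ⟨i, -, hi⟩ := hn1
  have hi' : f i * nn * f i = nn * f j :=
    (((rep_f i).mul rep_nn).mul (rep_f i)).eq (rep_nn.mul (rep_f j)) (Nat.eq_of_beq_eq_true hi)
  let δ : MulAut J1 := (MulAut.conj (f i))⁻¹ * γ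
  have hδ : ∀ y, δ y = f i * γ y * f i := by
    intro y
    show (MulAut.conj (f i))⁻¹ (γ y) = _
    rw [← map_inv, MulAut.conj_apply, inv_inv, f_inv]
  have hδf : ∀ m, δ (f m) = f m := by
    intro m
    rw [hδ, hγ, mul_assoc, f_comm m i, ← mul_assoc, f_sq, one_mul]
  have hδn : δ nn = nn := by
    rw [hδ, hj', ← hi']
    calc f i * (f i * nn * f i) * f i = (f i * f i) * nn * (f i * f i) := by group
      _ = nn := by rw [f_sq, one_mul, mul_one]
  have hδb : δ bb = bb := by
    apply bb_unique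
    · rw [← hδf 3, ← map_mul, bb_comm, map_mul]
    · rw [← map_pow, bb_three, map_one]
    · have : δ bb * nn = δ (bb * nn) := by rw [map_mul, hδn]
      rw [this, ← map_pow, bb_five, map_one]
  have h1 := eq_one_of_fix δ hδf hδn hδb
  refine ⟨g⁻¹ * w * f i, ?_⟩
  have h2 : γ = MulAut.conj (f i) := by
    have : (MulAut.conj (f i))⁻¹ * γ = 1 := h1
    exact (inv_mul_eq_one.1 this).symm
  have h3 : β = MulAut.conj w * MulAut.conj (f i) := by
    have : (MulAut.conj w)⁻¹ * β = MulAut.conj (f i) := h2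
    rw [← this]; group
  have h4 : α = (MulAut.conj g)⁻¹ * (MulAut.conj w * MulAut.conj (f i)) := by
    rw [← h3]
    show α = (MulAut.conj g)⁻¹ * (MulAut.conj g * α)
    group
  rw [h4, mul_assoc g⁻¹ w (f i), MulAut.conj.map_mul g⁻¹ (w * f i), MulAut.conj.map_mul w (f i), map_inv]

end Cfsg.Agent.OddHalf.D4.Spor.J1Out
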