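import Cfsg.Agent.OddHalf.D4.Spor.OfBasic
import Cfsg.Agent.OddHalf.D4.Spor.Transport
import Cfsg.Agent.KFacts.HN.Sheet
import Cfsg.Agent.KFacts.HN.Hs
import Cfsg.Agent.KFacts.HN.OutTwo

/-!
# ODD half, D4, sporadic components: the sheet of the Harada-Norton group
-/

set_option autoImplicit false

namespace Cfsg.Agent.OddHalf.D4.Spor.HN

open Subgroup Cfsg.Agent.KFacts.HN Cfsg.Agent.HN.XWords Cfsg.Agent.HN.XStruct

theorem basic : Cfsg.Agent.OddHalf.D8.Sheet.Basic W0 MM := by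
  have := finite_HN
  exact sheetE.basic

theorem cen_W0 : Cen W0 := cen_z basic

/-- an involution is 2-central or conjugate to `Q 0` -/
theorem inv_cases {w : Cfsg.Spor.HN} (hw : w * w = 1) (hw1 : w ≠ 1) :
    (∃ g : Cfsg.Spor.HN, g * W0 * g⁻¹ = w) ∨ ∃ g : Cfsg.Spor.HN, g * Q 0 * g⁻¹ = w := by
  have h2 : orderOf w = 2 := orderOf_eq_prime (by rw [pow_two, hw]) hw1
  rcases Classes.inv_class h2 with h | h
  · right
    rw [← Q0_eq] at h
    exact isConj_iff.1 h.symm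
  · left
    exact isConj_iff.1 h.symm

theorem isConj_of_not_cen {w : Cfsg.Spor.HN} (hw : w * w = 1) (hw1 : w ≠ 1) (h : ¬ Cen w) : IsConj (Q 0) w := by
  rcases inv_cases hw hw1 with ⟨g, hg⟩ | ⟨g, hg⟩
  · exact absurd (cen_conj hg cen_W0) h
  · exact isConj_iff.2 ⟨g, hg⟩

/-- elements of odd order of `C(W0)` lie in `M` -/
theorem odd_mem {x : Cfsg.Spor.HN} (hx : x * W0 = W0 * x) (ho : Odd (orderOf x)) : x ∈ MM := by
  have hxP : x ∈ PP := mem_PP.2 hx
  have h2 : x ^ 2 ∈ MM := by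
    by_cases h : x ∈ MM
    · exact MM.pow_mem h 2
    · have := hidx (PP.inv_mem hxP) hxP (fun h1 => h (by simpa using MM.inv_mem h1)) h
      rwa [inv_inv, ← pow_two] at this
  obtain ⟨k, hk⟩ := ho
  have h3 : x = (x ^ 2) ^ (k + 1) := by
    rw [← pow_mul, show 2 * (k + 1) = orderOf x + 1 by omega, pow_succ, pow_orderOf_eq_one, one_mul]
  rw [h3]
  exact MM.pow_mem h2 _

theorem bal_W0 (I : Subgroup Cfsg.Spor.HN) (h1 : ∀ i ∈ I, i * W0 = W0 * i)
    (h2 : ∀ c : Cfsg.Spor.HN, c * W0 = W0 * c → ∀ i ∈ I, c * i * c⁻¹ ∈ I) (h3 : Odd (Nat.card ↥I)) : I = ⊥ :=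
  bal_of_sheetE sheetE (fun _ => odd_mem) I h1 h2 h3

/-- a subgroup of odd order contains no involution -/
theorem eq_one_of_odd {I : Subgroup Cfsg.Spor.HN} (h : Odd (Nat.card ↥I)) {x : Cfsg.Spor.HN} (hx : x ∈ I)
    (hxx : x * x = 1) : x = 1 := by
  by_contra hne
  have h2 : orderOf x = 2 := orderOf_eq_prime (by rw [pow_two, hxx]) hne
  have h4 : 2 ∣ Nat.card I := by
    have := orderOf_dvd_natCard (⟨x, hx⟩ : I)
    rwa [Subgroup.orderOf_mk, h2] at this
  obtain ⟨k, hk⟩ := h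
  omega

theorem bal_Q0 (I : Subgroup Cfsg.Spor.HN) (h1 : ∀ i ∈ I, i * Q 0 = Q 0 * i)
    (h2 : ∀ c : Cfsg.Spor.HN, c * Q 0 = Q 0 * c → ∀ i ∈ I, c * i * c⁻¹ ∈ I) (h3 : Odd (Nat.card ↥I)) : I = ⊥ := by
  have hW := W0_W0
  have hq := Q0_Q0
  have hc : W0 * Q 0 = Q 0 * W0 := cw (i := 0) (by norm_num)
  rcases normal_cases_Q0 I h1 h2 with h | h | h
  · rw [eq_bot_iff]
    intro x hx
    rw [mem_bot]
    rcases h x hx with h4 | h4
    · exact h4
    · exact eq_one_of_odd h3 hx (by rw [h4]; exact hq)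
  · exact absurd (eq_one_of_odd h3 h hW) W0_ne
  · have h4 := eq_one_of_odd h3 h (by
      calc W0 * Q 0 * (W0 * Q 0) = W0 * (Q 0 * W0) * Q 0 := by group
        _ = (W0 * W0) * (Q 0 * Q 0) := by rw [← hc]; group
        _ = 1 := by rw [hW, hq, one_mul])
    exfalso
    apply Q0_ne_W0
    rw [mul_eq_one_iff_eq_inv] at h4
    rw [h4]
    exact (inv_eq_of_mul_eq_one_left hq).symm

theorem not_bad (w : Cfsg.Spor.HN) (N : Subgroup Cfsg.Spor.HN) : ¬ Bad w N := by
  intro h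
  have hw := isConj_of_not_cen h.sq h.ne (h.non w h.mem h.sq h.ne)
  rcases normal_cases_w hw N h.le h.norm with h1 | ⟨b, hb, hbN, -⟩
  · classical
    have hle : (N : Set Cfsg.Spor.HN) ⊆ (({1, w} : Finset Cfsg.Spor.HN) : Set Cfsg.Spor.HN) := by
      intro n hn
      rcases h1 n hn with e | e <;> simp [e]
    have h2 : Nat.card N ≤ 2 := by
      have := Nat.card_mono (Finset.finite_toSet _) hle
      refine this.trans ?_
      rw [Nat.card_coe_set_eq, Set.ncard_coe_finset]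
      exact Finset.card_le_two
    have := finite_HN
    have h3 := Nat.le_of_dvd Nat.card_pos h.four
    omega
  · have hbN' : b ∈ N := by
      rcases hbN with hbN | hbN
      · exact hbN
      · have := N.mul_mem hbN (N.inv_mem h.mem)
        rwa [mul_inv_cancel_right] at this
    obtain ⟨g, rfl⟩ := isConj_iff.1 hb
    refine h.non _ hbN' ?_ ?_ (cen_conj rfl cen_W0)
    · calc g * W0 * g⁻¹ * (g * W0 * g⁻¹) = g * (W0 * W0) * g⁻¹ := by group
        _ = 1 := by rw [W0_W0]; group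
    · intro h2
      apply W0_ne
      rw [mul_inv_eq_one, mul_eq_left] at h2
      exact h2

/-- **the sheet of the Harada-Norton group** -/
theorem sheet : Spor.Sheet Cfsg.Spor.HN := by
  have := finite_HN
  refine Sheet.of_basic_tab basic ?_ ?_ (tab_of_not_bad not_bad)
  · intro a ha ha1
    rcases inv_cases ha ha1 with ⟨g, hg⟩ | ⟨g, hg⟩
    · exact bal_of_one bal_W0 hg
    · exact bal_of_one bal_Q0 hg
  · intro α hα hαα w hw hw1 hwc hαw hC N _ _ _ _
    exact out2 α (fun k hk => hα ⟨k, hk⟩) hαα (isConj_of_not_cen hw hw1 hwc) hαw hC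

/-- the sheet of the groups isomorphic to the Harada-Norton group -/
theorem sheet_of_equiv {X : Type*} [Group X] (e : X ≃* Cfsg.Spor.HN) : Spor.Sheet X := sheet.of_equiv e.symm

end Cfsg.Agent.OddHalf.D4.Spor.HN
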