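import Cfsg.Agent.OddHalf.D4.Spor.OfBasic
import Cfsg.Agent.OddHalf.D8.RowM11
import Cfsg.Agent.UGT.End.MEleven

/-!
# ODD half, D4, sporadic components: the sheet of `M₁₁` (helper283)
-/

set_option autoImplicit false

namespace Cfsg.Agent.OddHalf.D4.Spor.M11

open Subgroup Cfsg Cfsg.Agent.Cit.Eleven Cfsg.Agent.Cit.ElevenFact

/-- the sheet of `M₁₁` -/
theorem sheet {X : Type*} [Group X] (h : Spor.IsoM11 X) : Spor.Sheet X := by
  classical
  have hf := finite h
  have : Fact (Nat.Prime 2) := ⟨Nat.prime_two⟩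
  have hin : ∀ α : MulAut X, Inn α := aut_inner h
  obtain ⟨z, b, hzz, hbb, hz1, hb1, hzb, hc, hC⟩ := OddHalf.D8.RowM11.exists_four h
  have hz : orderOf z = 2 := orderOf_eq_prime (by rw [pow_two, hzz]) hz1
  have hcard : Nat.card X = 7920 := (isM11 h).2
  have hidx : (centralizer ({z} : Set X)).index = 165 := index_centralizer h hz
  have hcz : Cen z := cen_of_index (by rw [hidx]; norm_num)
  have hcl : ∀ w : X, w * w = 1 → w ≠ 1 → ∃ g : X, g * z * g⁻¹ = w := fun w h1 h2 =>
    conj_of_sq h hzz hz1 h1 h2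
  have hall : ∀ w : X, w * w = 1 → w ≠ 1 → Cen w := fun w h1 h2 => by
    obtain ⟨g, hg⟩ := hcl w h1 h2
    exact cen_conj hg hcz
  refine Sheet.of_all_cen (out_of_inn hin) (schreier_of_inn hin) (sylAut_of_inn hin) ?_ ?_ hall
  · intro S a ha haa ha1 haS c hcS hcc hc1 hcS'
    by_contra hne
    obtain ⟨g, hg1, hg2⟩ := pair h hzz hz1 hbb hb1 hzb hc haa ha1 hcc hc1 hne (hcS' a ha)
    have hS : ∀ s ∈ S, s = 1 ∨ s = a ∨ s = c ∨ s = a * c := by
      intro s hs
      have e1 : (g⁻¹ * s * g) * z = z * (g⁻¹ * s * g) := by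
        have := haS s hs
        rw [← hg1] at this
        calc g⁻¹ * s * g * z = g⁻¹ * (s * (g * z * g⁻¹)) * g := by group
          _ = g⁻¹ * (g * z * g⁻¹ * s) * g := by rw [this]
          _ = _ := by group
      have e2 : (g⁻¹ * s * g) * b = b * (g⁻¹ * s * g) := by
        have := hcS' s hs
        rw [← hg2] at this
        calc g⁻¹ * s * g * b = g⁻¹ * (s * (g * b * g⁻¹)) * g := by group
          _ = g⁻¹ * (g * b * g⁻¹ * s) * g := by rw [this]
          _ = _ := by group
      have e3 : s = g * (g⁻¹ * s * g) * g⁻¹ := by group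
      rcases hC _ e1 e2 with e | e | e | e
      · left; rw [e3, e]; group
      · right; left; rw [e3, e]; exact hg1
      · right; right; left; rw [e3, e]; exact hg2
      · right; right; right; rw [e3, e, ← hg1, ← hg2]; group
    have h16 : 2 ^ 4 ∣ Nat.card S := S.pow_dvd_card_of_pow_dvd_card (by rw [hcard]; norm_num)
    have hle : ((S : Subgroup X) : Set X) ⊆ (({1, a, c, a * c} : Finset X) : Set X) := by
      intro s hs
      rcases hS s hs with e | e | e | e <;> simp [e]
    have h4 : Nat.card S ≤ 4 := by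
      have := Nat.card_mono (Finset.finite_toSet _) hle
      refine this.trans ?_
      rw [Nat.card_coe_set_eq, Set.ncard_coe_finset]
      exact Finset.card_le_four
    have := Nat.le_of_dvd Nat.card_pos h16
    omega
  · intro a h1 h2
    exact bal_of_core (Cfsg.Agent.SignalizersComponents.BalEndM11.core_eq_bot_M11 h
      (orderOf_eq_prime (by rw [pow_two, h1]) h2))

end Cfsg.Agent.OddHalf.D4.Spor.M11
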