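import Cfsg.Agent.OddHalf.D4.Spor.Monster
import Cfsg.Agent.MonsterU.Uncond
import Cfsg.Agent.MonsterP.Equiv

/-!
# ODD half, D4: the fact sheet of the Monster, without hypotheses (helper667)
-/

set_option autoImplicit false

namespace Cfsg.Agent.OddHalf.D4.Spor.MonsterFinal

/-- **The sheet of every group isomorphic to the Monster.** -/
theorem sheet {K : Type*} [Group K] (hK : Cfsg.Spor.IsoM K) : Cfsg.Agent.OddHalf.D4.Spor.Sheet K :=
  Cfsg.Agent.OddHalf.D4.Spor.Monster.sheet_of_isoM Cfsg.Agent.MonsterU.Uncond.all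
    (Cfsg.Agent.MonsterP.Equiv.equiv.map MulEquiv.symm) hK

end Cfsg.Agent.OddHalf.D4.Spor.MonsterFinal
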