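import Cfsg.Agent.OddHalf.D4.Spor.OfBasic
import Cfsg.Agent.OddHalf.D4.Spor.Transport
import Cfsg.Agent.KFacts.ON.OneClass
import Cfsg.Agent.KFacts.ON.Aut

/-!
# ODD half, D4, sporadic components: the sheet of the O'Nan group (helper115, on the facts of helper60)
-/

set_option autoImplicit false

namespace Cfsg.Agent.OddHalf.D4.Spor.ON

open Subgroup Cfsg
open Cfsg.Agent.SporadicB.ON45Word (on)

/-- the sheet of the presented group -/
theorem sheetON : Spor.Sheet Cfsg.Spor.ON := by
  have := Cfsg.Agent.KFacts.ON.OneClass.finite_ON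
  exact Sheet.of_basic Cfsg.Agent.KFacts.ON.Aut.basic
    (fun w h1 h2 => isConj_iff.1 (Cfsg.Agent.KFacts.ON.OneClass.one_class h1 h2).symm)
    (fun I k1 k2 k3 => Cfsg.Agent.KFacts.ON.OneClass.odd_core I k1 k2 k3)

/-- **the sheet of the O'Nan group** -/
theorem sheet {X : Type*} [Group X] (h : Spor.IsoON X) : Spor.Sheet X :=
  h.elim fun e => Sheet.of_equiv e.symm sheetON

end Cfsg.Agent.OddHalf.D4.Spor.ON
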