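import Cfsg.Agent.OddHalf.D4.Spor.RuIso
import Cfsg.Agent.KFacts.Ru.Core

/-!
# ODD half, D4, sporadic components: the sheet of the Rudvalis group (helper483)
-/

set_option autoImplicit false

namespace Cfsg.Agent.OddHalf.D4.Spor.Ru

/-- the sheet of the Rudvalis group -/
theorem sheet {X : Type*} [Group X] (h : Cfsg.Spor.IsoRu X) : Spor.Sheet X := by
  obtain ⟨C, -⟩ := Cfsg.Agent.KFacts.Ru.exists_core h
  exact RuIso.sheet_of_core h C

end Cfsg.Agent.OddHalf.D4.Spor.Ru
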