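import Cfsg.Agent.OddHalf.D4.Spor.OfBasic
import Cfsg.Agent.OddHalf.D4.Spor.Transport
import Cfsg.Agent.KFacts.Th.Main
import Cfsg.Agent.MonsterX.ThOneClass

/-!
# ODD half, D4, sporadic components: the sheet of the Thompson group (helper482)

`Th` has one class of involutions (`MonsterX.ThOneClass.oneClass`) and the sheet of type (E) with `P = C(z)`
(`KFacts.Th.Main.sheet`).
-/

set_option autoImplicit false

namespace Cfsg.Agent.OddHalf.D4.Spor.ThSheet

open Subgroup

/-- the sheet of `Th` -/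
theorem sheet : Spor.Sheet Cfsg.Spor.Th := by
  have : Finite Cfsg.Spor.Th := Cfsg.Agent.KFacts.Th.Main.finite
  refine Sheet.of_sheetE Cfsg.Agent.KFacts.Th.Main.sheet fun w h1 h2 => ?_
  exact isConj_iff.1 (Cfsg.Agent.MonsterX.ThOneClass.oneClass _ w Cfsg.Agent.MonsterX.ThOneClass.orderOf_a
    (orderOf_eq_prime (by rw [pow_two]; exact h1) h2))

theorem sheet_of_equiv {X : Type*} [Group X] (e : X ≃* Cfsg.Spor.Th) : Spor.Sheet X := sheet.of_equiv e.symm

theorem sheet_of_iso {X : Type*} [Group X] (h : Cfsg.Spor.IsoTh X) : Spor.Sheet X := by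
  obtain ⟨e⟩ := h
  exact sheet_of_equiv e

end Cfsg.Agent.OddHalf.D4.Spor.ThSheet
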