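import Cfsg.Agent.OddHalf.D4.Spor.Transport
import Cfsg.Agent.KFacts.SuzTL
import Cfsg.Agent.KFacts.SuzAutL
import Cfsg.Agent.KFacts.SuzSheetE

/-!
# ODD half, D4: the fact sheet of the Suzuki group
-/

set_option autoImplicit false
set_option maxRecDepth 100000

namespace Cfsg.Agent.OddHalf.D4.Spor.Suz

open Subgroup Cfsg.Spor Cfsg.Agent.SporadicRecognition.SuzOrder Cfsg.Agent.SuzThree.Basic
  Cfsg.Agent.SuzThree.CentA Cfsg.Agent.SuzThree.QZero Cfsg.Agent.KFacts.SuzLFour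
  Cfsg.Agent.KFacts.SuzTwoB Cfsg.Agent.KFacts.SuzTL Cfsg.Agent.OddHalf.D4.Spor

theorem fin : Finite Cfsg.Spor.Suz := KFacts.SuzSheetE.finite_suz

theorem cen_conj {X : Type*} [Group X] {w : X} (h : Cen w) (g : X) : Cen (g * w * g⁻¹) := by
  have := Cen.map (MulAut.conj g) h
  rwa [MulAut.conj_apply] at this

/-- `a` is 2-central -/
theorem cen_z0 : Cen z0 := by
  obtain ⟨S, -, hS, -⟩ := KFacts.SuzSheetE.sheetE.syl
  exact ⟨S, hS⟩

theorem sq_of_Cen {X : Type*} [Group X] [Finite X] {w : X} {S : Sylow 2 X} (hS : ∀ s ∈ S, s * w = w * s)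
    (hw : w * w = 1) : w ∈ S := by
  have h2 : IsPGroup 2 (zpowers w) := by
    intro x
    refine ⟨1, ?_⟩
    obtain ⟨n, hn⟩ := x.2
    apply Subtype.ext
    show ((x : X)) ^ 2 ^ 1 = 1
    rw [← hn, pow_one]
    show (w ^ n) ^ 2 = 1
    rw [← zpow_natCast, ← zpow_mul, mul_comm, zpow_mul, zpow_natCast, pow_two, hw, one_zpow]
  have hnorm : zpowers w ≤ normalizer ((S : Subgroup X) : Set X) := by
    rw [zpowers_le, mem_normalizer_iff]
    intro s
    constructor
    · intro hs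
      have h1 := hS s hs
      rw [← h1, mul_inv_cancel_right]
      exact hs
    · intro hs
      have h1 := hS _ hs
      have h3 : w * s * w⁻¹ = s := by
        have h4 : w * (w * s * w⁻¹) * w⁻¹ = w * s * w⁻¹ := by
          rw [← h1]; group
        have h5 : w * s * w⁻¹ = s := by
          have h6 : w⁻¹ * (w * (w * s * w⁻¹) * w⁻¹) * w = w⁻¹ * (w * s * w⁻¹) * w := by rw [h4]
          calc w * s * w⁻¹ = w⁻¹ * (w * (w * s * w⁻¹) * w⁻¹) * w := by group
            _ = w⁻¹ * (w * s * w⁻¹) * w := h6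
            _ = s := by group
        exact h5
      rwa [h3] at hs
  have h3 : IsPGroup 2 ((zpowers w ⊔ (S : Subgroup X) : Subgroup X)) :=
    h2.to_sup_of_normal_right' S.isPGroup' hnorm
  have h4 := S.is_maximal' h3 le_sup_right
  exact (le_sup_left.trans h4.le) (mem_zpowers w)

/-- an involution is 2-central or conjugate to `e` -/
theorem cen_or {t : Cfsg.Spor.Suz} (h2 : t * t = 1) (h1 : t ≠ 1) : Cen t ∨ ∃ g, t = g * e0 * g⁻¹ := by
  rcases SporRec.SuzCl.two t h2 h1 with ⟨g, hg⟩ | ⟨g, hg⟩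
  · left
    rw [← hg]
    have : SporRec.SuzCl.ia = z0 := KFacts.SuzY.z0_eq.symm
    rw [this]
    exact cen_conj cen_z0 g
  · right
    refine ⟨g, ?_⟩
    rw [← hg]
    have : SporRec.SuzCl.ie = e0 := of_eq Suz.Gen.e
    rw [this]

theorem bab_cen : Cen (el [.b, .a, .b]) := by
  rw [bab_eq]; exact cen_conj cen_z0 _

/-- a normal subgroup of `C(e)` without 2-central involutions lies in `V` -/
theorem le_V {N : Subgroup Cfsg.Spor.Suz} (hle : ∀ n ∈ N, n * e0 = e0 * n)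
    (hn : ∀ c, c * e0 = e0 * c → ∀ n ∈ N, c * n * c⁻¹ ∈ N)
    (hbot : N ⊓ L = ⊥) : N ≤ V := by
  intro n hn'
  apply cent_L _ (hle n hn')
  intro l hl
  have h1 : n * (l * n⁻¹ * l⁻¹) ∈ N := by
    have := hn l (e0_comm l hl).symm n⁻¹ (N.inv_mem hn')
    exact N.mul_mem hn' this
  have h2 : n * l * n⁻¹ * l⁻¹ ∈ L := L.mul_mem (conj_L (mem_CE.2 (hle n hn')) hl) (L.inv_mem hl)
  have h3 : n * l * n⁻¹ * l⁻¹ ∈ N ⊓ L := by
    refine ⟨?_, h2⟩
    have e : n * l * n⁻¹ * l⁻¹ = n * (l * n⁻¹ * l⁻¹) := by group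
    rw [e]; exact h1
  rw [hbot, mem_bot] at h3
  calc n * l = (n * l * n⁻¹ * l⁻¹) * l * n := by group
    _ = l * n := by rw [h3, one_mul]

theorem inf_L_normal {N : Subgroup Cfsg.Spor.Suz}
    (hn : ∀ c, c * e0 = e0 * c → ∀ n ∈ N, c * n * c⁻¹ ∈ N) :
    ∀ l ∈ L, ∀ m ∈ N ⊓ L, l * m * l⁻¹ ∈ N ⊓ L := fun l hl m hm =>
  ⟨hn l (e0_comm l hl).symm m hm.1, L.mul_mem (L.mul_mem hl hm.2) (L.inv_mem hl)⟩

/-- the centraliser of `V` -/
theorem cent_V {g : Cfsg.Spor.Suz} (h : ∀ v ∈ V, g * v = v * g) : g ∈ VL := by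
  have hg : g ∈ CE := mem_CE.2 (h e0 (mem_V.2 (Or.inr (Or.inl rfl))))
  by_contra hcon
  have h1 : xe⁻¹ * g ∈ VL := by
    have h2 := (Subgroup.mul_mem_iff_of_index_two idx.1 (a := ⟨xe⁻¹, CE.inv_mem xe_mem⟩) (b := ⟨g, hg⟩))
    rw [mem_subgroupOf, mem_subgroupOf, mem_subgroupOf] at h2
    apply h2.2
    constructor
    · intro h3
      exact absurd ((VL.inv_mem_iff).1 h3) xe_notin
    · intro h3
      exact absurd h3 hcon
  have he1 : e1 ∈ V := mem_V.2 (Or.inr (Or.inr (Or.inl rfl)))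
  have h2 := VL_cent h1 he1
  have h3 : xe * (xe⁻¹ * g) * e1 = e2 * (xe * (xe⁻¹ * g)) := by
    rw [mul_assoc, h2, ← mul_assoc, xe_e1, mul_assoc]
  have h4 : xe * (xe⁻¹ * g) = g := by group
  rw [h4, h e1 he1] at h3
  exact e12_ne (mul_right_cancel h3)

/-- the kill -/
theorem sig : Sig V L where
  conj := by
    have key : ∃ k : Cfsg.Spor.Suz, k * e0 * k⁻¹ = e0 * z0 := by
      refine ⟨el [.d, .c, .d, .e, .d, .c, .d, .e], ?_⟩
      rw [mul_inv_eq_iff_eq_mul]
      show el [.d, .c, .d, .e, .d, .c, .d, .e] * el [.e] = el [.e] * el [.a] * el [.d, .c, .d, .e, .d, .c, .d, .e]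
      rw [← el_append, ← el_append, ← el_append]
      exact eq_of (by decide +kernel)
    obtain ⟨k, hk⟩ := key
    have hz0L : z0 ∈ L := gen_mem_L rfl
    have hcen : Cen (⟨z0, hz0L⟩ : L) := ⟨TLS, fun s hs => Subtype.ext (z0_central s (mem_TLS.1 hs))⟩
    have hx := x0_comm z0 hz0L
    rintro v (rfl | rfl | rfl | rfl) - hv1
    · exact absurd rfl hv1
    · exact ⟨k, ⟨z0, hz0L⟩, KFacts.SuzR.z_ne, hk, hcen⟩
    · refine ⟨x0 * k * x0⁻¹, ⟨z0, hz0L⟩, KFacts.SuzR.z_ne, ?_, hcen⟩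
      calc x0 * k * x0⁻¹ * e1 * (x0 * k * x0⁻¹)⁻¹ = x0 * (k * e0 * k⁻¹) * x0⁻¹ := by rw [e1]; group
        _ = x0 * e0 * (z0 * x0⁻¹) := by rw [hk]; group
        _ = x0 * e0 * (x0⁻¹ * z0) := by
          congr 1
          rw [eq_inv_mul_iff_mul_eq, ← mul_assoc, hx, mul_assoc, mul_inv_cancel, mul_one]
        _ = e1 * z0 := by rw [e1]; group
    · refine ⟨x0⁻¹ * k * x0, ⟨z0, hz0L⟩, KFacts.SuzR.z_ne, ?_, hcen⟩
      calc x0⁻¹ * k * x0 * e2 * (x0⁻¹ * k * x0)⁻¹ = x0⁻¹ * (k * e0 * k⁻¹) * x0 := by rw [e2]; group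
        _ = x0⁻¹ * e0 * (z0 * x0) := by rw [hk]; group
        _ = x0⁻¹ * e0 * (x0 * z0) := by rw [hx]
        _ = e2 * z0 := by rw [e2]; group
  cen := by
    intro l hl2 hl1 hC
    have : Fact (Nat.Prime 2) := ⟨Nat.prime_two⟩
    have := fin
    obtain ⟨S, hS⟩ := hC
    obtain ⟨g, hg⟩ := MulAction.exists_smul_eq L S TLS
    -- `t = g l g⁻¹`
    have ht : ∀ s ∈ TLS, s * (g * l * g⁻¹) = (g * l * g⁻¹) * s := by
      intro s hs
      rw [← hg] at hs
      obtain ⟨s', hs', rfl⟩ := hs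
      have h1 := hS s' hs'
      show g * s' * g⁻¹ * (g * l * g⁻¹) = g * l * g⁻¹ * (g * s' * g⁻¹)
      calc g * s' * g⁻¹ * (g * l * g⁻¹) = g * (s' * l) * g⁻¹ := by group
        _ = g * (l * s') * g⁻¹ := by rw [h1]
        _ = _ := by group
    have ht2 : (g * l * g⁻¹) * (g * l * g⁻¹) = 1 := by
      calc (g * l * g⁻¹) * (g * l * g⁻¹) = g * (l * l) * g⁻¹ := by group
        _ = 1 := by rw [hl2]; group
    have htS : (g * l * g⁻¹) ∈ TLS := sq_of_Cen ht ht2
    have h3 := center_TL (mem_TLS.1 htS) (fun y hy => by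
      have := ht ⟨y, TL_le hy⟩ (mem_TLS.2 hy)
      exact congrArg Subtype.val this)
    have hcc : Cen (el [Suz.Gen.c]) := by
      have h := cen_conj cen_z0 KFacts.SuzOut.n0
      rw [KFacts.SuzOut.n0_conj] at h
      exact h
    have hcz : Cen (el [Suz.Gen.c] * z0) := by
      have h : el [Suz.Gen.d, .c, .d] * el [.c] * (el [Suz.Gen.d, .c, .d])⁻¹ = el [.c] * z0 := by
        rw [mul_inv_eq_iff_eq_mul]
        show el [Suz.Gen.d, .c, .d] * el [.c] = el [.c] * el [.a] * el [Suz.Gen.d, .c, .d]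
        rw [← el_append, ← el_append, ← el_append]
        exact eq_of (by decide +kernel)
      rw [← h]
      exact cen_conj hcc _
    have hlx : (l : Cfsg.Spor.Suz) = (g : Cfsg.Spor.Suz)⁻¹ * ((g * l * g⁻¹ : L) : Cfsg.Spor.Suz) * (g : Cfsg.Spor.Suz)⁻¹⁻¹ := by
      rw [coe_mul, coe_mul, coe_inv]; group
    have hne : ((g * l * g⁻¹ : L) : Cfsg.Spor.Suz) ≠ 1 := by
      intro h
      apply hl1
      apply Subtype.ext
      rw [hlx, h]; simp
    rw [hlx]
    rcases h3 with h | h | h | h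
    · exact absurd h hne
    · rw [h]; exact cen_conj hcc _
    · rw [h]; exact cen_conj cen_z0 _
    · rw [h]; exact cen_conj hcz _

theorem vfacts : VFacts V L where
  comm := V_abel
  perf := perfect'
  cent := fun l hl v hv => (V_comm v hv l hl).symm
  max := by
    intro P hP hc
    have h1 : P ≤ VL := fun p hp => cent_V (hc p hp)
    calc P = ⁅P, P⁆ := hP.symm
      _ ≤ ⁅VL, VL⁆ := commutator_mono h1 h1
      _ = L := comm_VL
  kill := Or.inr sig

/-- `Bad w N` and `w` conjugate to `e` -/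
theorem bad_e {N : Subgroup Cfsg.Spor.Suz} (h : Bad e0 N) : N = V := by
  have := fin
  have hbot : N ⊓ L = ⊥ := by
    by_contra hne
    have h1 := bab_mem inf_le_right (inf_L_normal h.norm) hne
    exact h.non _ h1.1 bab_sq bab_ne bab_cen
  have h1 := le_V h.le h.norm hbot
  apply eq_of_le_of_card_ge h1
  rw [card_V]
  exact Nat.le_of_dvd Nat.card_pos h.four

theorem tab (w : Cfsg.Spor.Suz) (N : Subgroup Cfsg.Spor.Suz) (h : Bad w N) (V' : Subgroup Cfsg.Spor.Suz)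
    (hV : V' ≤ N) (_ : IsPGroup 2 ↥V') (_ : w ∈ V') (_ : ∀ v ∈ V', v * w = w * v)
    (hmax : ∀ P : Subgroup Cfsg.Spor.Suz, IsPGroup 2 ↥P → V' ≤ P → P ≤ N → P = V') (_ : 4 ∣ Nat.card ↥V') :
    ∃ L : Subgroup Cfsg.Spor.Suz, VFacts V' L := by
  have := fin
  rcases cen_or h.sq h.ne with h1 | ⟨g, rfl⟩
  · exact absurd h1 (h.non w h.mem h.sq h.ne)
  -- transport to `e`
  have hbad : Bad e0 (N.map (MulAut.conj g⁻¹).toMonoidHom) := by
    have hmem : ∀ x, x ∈ N.map (MulAut.conj g⁻¹).toMonoidHom ↔ g * x * g⁻¹ ∈ N := by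
      intro x
      constructor
      · rintro ⟨y, hy, rfl⟩
        have : g * (MulAut.conj g⁻¹).toMonoidHom y * g⁻¹ = y := by
          show g * (g⁻¹ * y * g⁻¹⁻¹) * g⁻¹ = y
          group
        rw [this]; exact hy
      · intro hx
        refine ⟨_, hx, ?_⟩
        show g⁻¹ * (g * x * g⁻¹) * g⁻¹⁻¹ = x
        group
    exact
      { sq := e0_sq
        ne := e0_ne
        mem := (hmem _).2 h.mem
        le := by
          intro n hn
          have h1 := h.le _ ((hmem n).1 hn)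
          calc n * e0 = g⁻¹ * ((g * n * g⁻¹) * (g * e0 * g⁻¹)) * g := by group
            _ = g⁻¹ * ((g * e0 * g⁻¹) * (g * n * g⁻¹)) * g := by rw [h1]
            _ = e0 * n := by group
        norm := by
          intro x hx n hn
          rw [hmem] at hn ⊢
          have h1 := h.norm (g * x * g⁻¹) (by
            calc g * x * g⁻¹ * (g * e0 * g⁻¹) = g * (x * e0) * g⁻¹ := by group
              _ = g * (e0 * x) * g⁻¹ := by rw [hx]
              _ = _ := by group) _ hn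
          have e : g * (x * n * x⁻¹) * g⁻¹ = g * x * g⁻¹ * (g * n * g⁻¹) * (g * x * g⁻¹)⁻¹ := by group
          rw [e]; exact h1
        four := by
          have : Nat.card ↥(N.map (MulAut.conj g⁻¹).toMonoidHom) = Nat.card ↥N :=
            (Nat.card_congr (N.equivMapOfInjective _ (MulAut.conj g⁻¹).injective).toEquiv).symm
          rw [this]; exact h.four
        non := by
          intro b hb hb2 hb1 hC
          refine h.non _ ((hmem b).1 hb) ?_ ?_ (cen_conj hC g)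
          · calc g * b * g⁻¹ * (g * b * g⁻¹) = g * (b * b) * g⁻¹ := by group
              _ = 1 := by rw [hb2]; group
          · intro h1
            apply hb1
            calc b = g⁻¹ * (g * b * g⁻¹) * g := by group
              _ = 1 := by rw [h1]; group }
  have hNV : N = V.map (MulAut.conj g).toMonoidHom := by
    rw [← bad_e hbad, Subgroup.map_map]
    have : ((MulAut.conj g).toMonoidHom.comp (MulAut.conj g⁻¹).toMonoidHom) = MonoidHom.id Cfsg.Spor.Suz := by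
      refine MonoidHom.ext fun x => ?_
      show g * (g⁻¹ * x * g⁻¹⁻¹) * g⁻¹ = x
      group
    rw [this, Subgroup.map_id]
  have hN2 : IsPGroup 2 ↥N := by
    rw [hNV]
    have h4 : IsPGroup 2 ↥V := IsPGroup.of_card (n := 2) (by rw [card_V]; norm_num)
    exact h4.map _
  have hVN : N = V' := hmax N hN2 hV le_rfl
  rw [← hVN, hNV]
  exact ⟨_, vfacts.map (MulAut.conj g)⟩

/-- an automorphism which is trivial on `L` modulo `⟨e⟩` is trivial on `L` -/
theorem fix_L {α : MulAut Cfsg.Spor.Suz} (hα : ∀ l ∈ L, α l = l ∨ α l = e0 * l) : ∀ l ∈ L, α l = l := by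
  classical
  intro l hl
  -- the homomorphism `l ↦ α l * l⁻¹`
  let f : L →* Multiplicative (ZMod 2) := MonoidHom.mk' (fun l => if α (l : Cfsg.Spor.Suz) = l then 1 else Multiplicative.ofAdd 1) (by
    intro x y
    have hxy : α ((x * y : L) : Cfsg.Spor.Suz) = α x * α y := by rw [coe_mul, map_mul]
    have hne : ∀ z : L, e0 * (z : Cfsg.Spor.Suz) ≠ z := fun z h => e0_ne (mul_eq_right.1 h)
    have hc := e0_comm x x.2
    rcases hα x x.2 with h1 | h1 <;> rcases hα y y.2 with h2 | h2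
    · rw [if_pos (by rw [hxy, h1, h2]; rfl), if_pos h1, if_pos h2, one_mul]
    · rw [if_neg (by
        rw [hxy, h1, h2, ← mul_assoc, ← hc, mul_assoc]
        exact hne (x * y)), if_pos h1, if_neg (by rw [h2]; exact hne y), one_mul]
    · rw [if_neg (by
        rw [hxy, h1, h2, mul_assoc]
        exact hne (x * y)), if_neg (by rw [h1]; exact hne x), if_pos h2, mul_one]
    · rw [if_pos (by
        rw [hxy, h1, h2]
        show e0 * (x : Cfsg.Spor.Suz) * (e0 * y) = x * y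
        calc e0 * (x : Cfsg.Spor.Suz) * (e0 * y) = (e0 * x) * e0 * y := by group
          _ = (x * e0) * e0 * y := by rw [hc]
          _ = x * (e0 * e0) * y := by group
          _ = x * y := by rw [e0_sq, mul_one]), if_neg (by rw [h1]; exact hne x), if_neg (by rw [h2]; exact hne y)]
      rfl)
  have h1 := KFacts.SuzLFour.hom_trivial f ⟨l, hl⟩
  by_contra hcon
  have h2 : f ⟨l, hl⟩ = Multiplicative.ofAdd 1 := if_neg hcon
  rw [h2] at h1
  exact absurd h1 (by decide)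

/-- no outer automorphism acts on `C(w)`, `w` in 2B, as in `out2` -/
theorem inn_of_out2 {α : MulAut Cfsg.Spor.Suz} {w : Cfsg.Spor.Suz} (hw2 : w * w = 1) (hw1 : w ≠ 1) (hC : ¬ Cen w)
    (hαw : α w = w) (h : ∀ c, c * w = w * c → α c = c ∨ α c = w * c) : Inn α := by
  rcases cen_or hw2 hw1 with h1 | ⟨g, rfl⟩
  · exact absurd h1 hC
  set β : MulAut Cfsg.Spor.Suz := MulAut.conj g⁻¹ * α * MulAut.conj g with hβ
  have hβx : ∀ x, β x = g⁻¹ * α (g * x * g⁻¹) * g := by
    intro x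
    rw [hβ, MulAut.mul_apply, MulAut.mul_apply, MulAut.conj_apply, MulAut.conj_apply, inv_inv]
  have he : β e0 = e0 := by
    rw [hβx, hαw]; group
  have hL : ∀ l ∈ L, β l = l := by
    apply fix_L
    intro l hl
    rcases h (g * l * g⁻¹) (by
      calc g * l * g⁻¹ * (g * e0 * g⁻¹) = g * (l * e0) * g⁻¹ := by group
        _ = g * (e0 * l) * g⁻¹ := by rw [e0_comm l hl]
        _ = _ := by group) with h1 | h1
    · left; rw [hβx, h1]; group
    · right; rw [hβx, h1]; group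
  obtain ⟨k, hk⟩ := KFacts.SuzAutL.inn_of_fix hL he
  refine ⟨g * k * g⁻¹, ?_⟩
  have h1 : α = MulAut.conj g * β * MulAut.conj g⁻¹ := by
    rw [hβ, map_inv]; group
  rw [h1, hk, map_mul, map_mul]

/-- `z0` and any automorphism -/
theorem bal (a : Cfsg.Spor.Suz) (ha : a * a = 1) (ha1 : a ≠ 1) (I : Subgroup Cfsg.Spor.Suz)
    (hI : ∀ i ∈ I, i * a = a * i) (hn : ∀ c, c * a = a * c → ∀ i ∈ I, c * i * c⁻¹ ∈ I)
    (hodd : Odd (Nat.card ↥I)) : I = ⊥ := by
  have := fin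
  -- reduction to the representatives
  have red : ∀ (r : Cfsg.Spor.Suz), (∀ J : Subgroup Cfsg.Spor.Suz, (∀ i ∈ J, i * r = r * i) →
      (∀ c, c * r = r * c → ∀ i ∈ J, c * i * c⁻¹ ∈ J) → Odd (Nat.card ↥J) → J = ⊥) →
      (∃ g, a = g * r * g⁻¹) → I = ⊥ := by
    rintro r hr ⟨g, rfl⟩
    have hmem : ∀ x, x ∈ I.map (MulAut.conj g⁻¹).toMonoidHom ↔ g * x * g⁻¹ ∈ I := by
      intro x
      constructor
      · rintro ⟨y, hy, rfl⟩
        have : g * (MulAut.conj g⁻¹).toMonoidHom y * g⁻¹ = y := by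
          show g * (g⁻¹ * y * g⁻¹⁻¹) * g⁻¹ = y
          group
        rw [this]; exact hy
      · intro hx
        refine ⟨_, hx, ?_⟩
        show g⁻¹ * (g * x * g⁻¹) * g⁻¹⁻¹ = x
        group
    have h1 := hr (I.map (MulAut.conj g⁻¹).toMonoidHom) (by
      intro n hn'
      have h1 := hI _ ((hmem n).1 hn')
      calc n * r = g⁻¹ * ((g * n * g⁻¹) * (g * r * g⁻¹)) * g := by group
        _ = g⁻¹ * ((g * r * g⁻¹) * (g * n * g⁻¹)) * g := by rw [h1]
        _ = r * n := by group) (by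
      intro x hx n hn'
      rw [hmem] at hn' ⊢
      have h1 := hn (g * x * g⁻¹) (by
        calc g * x * g⁻¹ * (g * r * g⁻¹) = g * (x * r) * g⁻¹ := by group
          _ = g * (r * x) * g⁻¹ := by rw [hx]
          _ = _ := by group) _ hn'
      have e : g * (x * n * x⁻¹) * g⁻¹ = g * x * g⁻¹ * (g * n * g⁻¹) * (g * x * g⁻¹)⁻¹ := by group
      rw [e]; exact h1) (by
      have : Nat.card ↥(I.map (MulAut.conj g⁻¹).toMonoidHom) = Nat.card ↥I :=
        (Nat.card_congr (I.equivMapOfInjective _ (MulAut.conj g⁻¹).injective).toEquiv).symm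
      rw [this]; exact hodd)
    rwa [Subgroup.map_eq_bot_iff_of_injective _ (MulAut.conj g⁻¹).injective] at h1
  rcases SporRec.SuzCl.two a ha ha1 with ⟨g, hg⟩ | ⟨g, hg⟩
  · refine red z0 ?_ ⟨g, by rw [← hg, KFacts.SuzY.z0_eq]⟩
    intro J hJ hJn hJo
    -- `[J, R] ≤ J ∩ R = 1`
    have hcop : J ⊓ Q0 = ⊥ := by
      have h1 : Nat.Coprime (Nat.card J) (Nat.card Q0) := by
        rw [KFacts.SuzR.card_R]
        exact (Nat.coprime_two_right.2 hJo).pow_right 7
      exact (Subgroup.disjoint_of_coprime_natCard h1).eq_bot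
    rw [eq_bot_iff]
    intro j hj
    rw [mem_bot]
    have hjz := hJ j hj
    have hc : ∀ r ∈ Q0, r * j = j * r := by
      intro r hr
      have hrz : r * z0 = z0 * r := KFacts.SuzLarge.large.comm_z r hr
      have h1 : j * (r * j⁻¹ * r⁻¹) ∈ J := J.mul_mem hj (hJn r hrz _ (J.inv_mem hj))
      have h2 : j * r * j⁻¹ * r⁻¹ ∈ Q0 := Q0.mul_mem (KFacts.SuzLarge.large.conj_mem j hjz r hr) (Q0.inv_mem hr)
      have e : j * (r * j⁻¹ * r⁻¹) = j * r * j⁻¹ * r⁻¹ := by group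
      rw [e] at h1
      have h3 : j * r * j⁻¹ * r⁻¹ ∈ J ⊓ Q0 := ⟨h1, h2⟩
      rw [hcop, mem_bot] at h3
      calc r * j = (j * r * j⁻¹ * r⁻¹)⁻¹ * j * r := by group
        _ = j * r := by rw [h3]; group
    rcases KFacts.SuzR.centralizer_R (g := j) hc with h1 | h1
    · exact h1
    · exfalso
      have h2 : orderOf (⟨j, hj⟩ : J) ∣ Nat.card J := orderOf_dvd_natCard _
      have h3 : orderOf (⟨j, hj⟩ : J) = 2 := orderOf_eq_prime (Subtype.ext (by
        show j ^ 2 = 1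
        rw [h1, pow_two]; exact gen_sq .a)) (fun h => by
          have h4 : j = 1 := congrArg Subtype.val h
          rw [h1] at h4
          exact KFacts.SuzR.z_ne h4)
      rw [h3] at h2
      exact (Nat.not_even_iff_odd.2 hJo) (even_iff_two_dvd.2 h2)
  · refine red e0 ?_ ⟨g, by
      rw [← hg]
      have : SporRec.SuzCl.ie = e0 := of_eq Suz.Gen.e
      rw [this]⟩
    intro J hJ hJn hJo
    have hbot : J ⊓ L = ⊥ := by
      apply odd_eq_bot inf_le_right (inf_L_normal hJn)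
      exact hJo.of_dvd_nat (card_dvd_of_le inf_le_left)
    have h1 := le_V hJ hJn hbot
    have h2 : Nat.card J ∣ 4 := by rw [← card_V]; exact card_dvd_of_le h1
    have h3 : Nat.Coprime (Nat.card J) 4 := (Nat.coprime_two_right.2 hJo).pow_right 2
    exact Subgroup.card_eq_one.1 (Nat.Coprime.eq_one_of_dvd h3 h2)

/-- `z1` from one Sylow subgroup -/
theorem z1_of {X : Type*} [Group X] [Finite X] {z : X} {S₀ : Sylow 2 X}
    (h : ∀ y ∈ S₀, (∀ x ∈ S₀, x * y = y * x) → y = 1 ∨ y = z) :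
    ∀ S : Sylow 2 X, ∀ a ∈ S, a * a = 1 → a ≠ 1 → (∀ s ∈ S, s * a = a * s) →
      ∀ b ∈ S, b * b = 1 → b ≠ 1 → (∀ s ∈ S, s * b = b * s) → a = b := by
  intro S a ha _ ha1 hac b hb _ hb1 hbc
  obtain ⟨g, rfl⟩ := MulAction.exists_smul_eq X S₀ S
  have key : ∀ a ∈ (g • S₀ : Sylow 2 X), a ≠ 1 → (∀ s ∈ (g • S₀ : Sylow 2 X), s * a = a * s) →
      a = g * z * g⁻¹ := by
    rintro _ ⟨a, ha, rfl⟩ ha1 hac
    have h1 : ∀ x ∈ S₀, x * a = a * x := by
      intro x hx
      have h2 := hac (g * x * g⁻¹) ⟨x, hx, rfl⟩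
      have h3 : g * x * g⁻¹ * (g * a * g⁻¹) = g * a * g⁻¹ * (g * x * g⁻¹) := h2
      calc x * a = g⁻¹ * (g * x * g⁻¹ * (g * a * g⁻¹)) * g := by group
        _ = g⁻¹ * (g * a * g⁻¹ * (g * x * g⁻¹)) * g := by rw [h3]
        _ = a * x := by group
    rcases h a ha h1 with rfl | rfl
    · exact absurd (map_one _) ha1
    · rfl
  rw [key a ha ha1 hac, key b hb hb1 hbc]

/-- `sylAut` from one Sylow subgroup -/
theorem sylAut_of {X : Type*} [Group X] [Finite X] {S₀ : Sylow 2 X}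
    (h : ∀ α : MulAut X, IsPGroup 2 ↥(zpowers α) → (∀ x ∈ S₀, α x = x) → Inn α) :
    ∀ S : Sylow 2 X, ∀ α : MulAut X, IsPGroup 2 ↥(zpowers α) → (∀ x ∈ S, α x = x) → Inn α := by
  intro S α hα hfix
  obtain ⟨g, rfl⟩ := MulAction.exists_smul_eq X S₀ S
  have h1 : Inn (MulAut.conj g⁻¹ * α * (MulAut.conj g⁻¹)⁻¹) := by
    apply h
    · have h2 : zpowers (MulAut.conj g⁻¹ * α * (MulAut.conj g⁻¹)⁻¹) =
          (zpowers α).map (MulAut.conj (MulAut.conj g⁻¹)).toMonoidHom := by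
        rw [MonoidHom.map_zpowers]; rfl
      rw [h2]
      exact hα.map _
    · intro x hx
      have h3 : α (g * x * g⁻¹) = g * x * g⁻¹ := hfix _ ⟨x, hx, rfl⟩
      rw [← map_inv, inv_inv, MulAut.mul_apply, MulAut.mul_apply, MulAut.conj_apply, MulAut.conj_apply, h3]
      group
  obtain ⟨k, hk⟩ := h1
  refine ⟨g * k * g⁻¹, ?_⟩
  rw [map_mul, map_mul, ← hk, map_inv]
  group

/-- **the fact sheet of the Suzuki group** -/
theorem sheet : Sheet Cfsg.Spor.Suz := by
  have := fin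
  obtain ⟨S₀, hz, hc, hu⟩ := KFacts.SuzSheetE.sheetE.syl
  exact
    { out := KFacts.SuzOut.out
      schreier := Schreier.Suz.sch
      sylAut := sylAut_of (S₀ := S₀) fun α hα hfix => KFacts.SuzSheetE.sheetE.basic.sylAut S₀ hc α hα hfix
      z1 := z1_of hu
      bal := bal
      out2 := fun α hα _ w hw hw1 hC hαw h _ _ _ _ _ => hα (inn_of_out2 hw hw1 hC hαw h)
      tab := tab_of_elt tab }

end Cfsg.Agent.OddHalf.D4.Spor.Suz
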