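import Cfsg.Agent.OddHalf.D4.Se

/-!
# No strongly embedded subgroup, from the field `z1` of the sheet
-/

set_option autoImplicit false

namespace Cfsg.Agent.OddHalf.D4.Spor

/-- A finite simple group whose Sylow 2-subgroups have only one central involution has no strongly embedded
subgroup. -/
theorem noSE {X : Type*} [Group X] [Finite X] [IsSimpleGroup X] (hna : ∃ a b : X, a * b ≠ b * a)
    (z1 : ∀ S : Sylow 2 X, ∀ a ∈ S, a * a = 1 → a ≠ 1 → (∀ s ∈ S, s * a = a * s) →
      ∀ b ∈ S, b * b = 1 → b ≠ 1 → (∀ s ∈ S, s * b = b * s) → a = b) :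
    ∀ H : Subgroup X, ¬ Cfsg.IsStronglyEmbedded H :=
  Se.not_stronglyEmbedded hna z1

end Cfsg.Agent.OddHalf.D4.Spor
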