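import Mathlib
import Cfsg.Agent.OddHalf.D4.Facts
import Cfsg.Agent.OddHalf.D4.Pair3
import Cfsg.Agent.OddHalf.D4.Spor.Transport

/-!
# ODD half, D4, sporadic components: `AutFacts` from the sheet, the action of `N(K)` on `K`
-/

set_option autoImplicit false

namespace Cfsg.Agent.OddHalf.D4.Spor

open Subgroup Cfsg Cfsg.Agent.OddHalf.D4 Cfsg.Agent.OddHalf.D4.Basic
open Cfsg.Agent.OddHalf.D4.CommConj (Tight cj mem_cj cj_mul card_cj cj_eq_of_mem_normalizer mem_normalizer_of_cj_eq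
  mem_cj_mul)

/-! ### `AutFacts` -/

section Abs

variable {X : Type*} [Group X]

/-- No group of the sheet has a strongly embedded subgroup (from Bender's theorem, see `NoSE.lean`). -/
def NoSE (X : Type*) [Group X] : Prop := ∀ H : Subgroup X, ¬ IsStronglyEmbedded H

theorem orderOf_two_iff {x : X} : orderOf x = 2 ↔ x * x = 1 ∧ x ≠ 1 := by
  constructor
  · intro h
    refine ⟨?_, ?_⟩
    · have := pow_orderOf_eq_one x
      rwa [h, pow_two] at this
    · rintro rfl
      rw [orderOf_one] at h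
      norm_num at h
  · rintro ⟨h1, h2⟩
    exact orderOf_eq_prime (by rw [pow_two]; exact h1) h2

/-- (F1) from `sylAut` -/
theorem inner_of_sylAut [Finite X] (hZ : center X = ⊥)
    (h : ∀ S : Sylow 2 X, ∀ α : MulAut X, IsPGroup 2 ↥(zpowers α) → (∀ x ∈ S, α x = x) → Inn α)
    (S : Sylow 2 X) (φ : MulAut X) (hφ : ∃ k : ℕ, φ ^ 2 ^ k = 1) (hS : ∀ s ∈ S, φ s = s) :
    ∃ s ∈ S, φ = MulAut.conj s := by
  obtain ⟨k, hk⟩ := hφ
  have hp : IsPGroup 2 ↥(zpowers φ) := by
    rintro ⟨_, n, rfl⟩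
    refine ⟨k, Subtype.ext ?_⟩
    show (φ ^ n) ^ 2 ^ k = 1
    rw [← zpow_natCast, ← zpow_mul, mul_comm, zpow_mul, zpow_natCast, hk, one_zpow]
  obtain ⟨x, hx⟩ := h S φ hp hS
  refine ⟨x, ?_, hx⟩
  -- `x` is a 2-element commuting with `S`
  have hc : ∀ s ∈ S, s * x = x * s := by
    intro s hs
    have h1 := hS s hs
    rw [hx, MulAut.conj_apply] at h1
    calc s * x = (x * s * x⁻¹) * x := by rw [h1]
      _ = x * s := by group
  have hx2 : x ^ 2 ^ k = 1 := by
    have h1 : x ^ 2 ^ k ∈ center X := by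
      rw [mem_center_iff]
      intro g
      have h2 : (MulAut.conj (x ^ 2 ^ k) : MulAut X) g = g := by
        rw [map_pow, ← hx, hk]; rfl
      rw [MulAut.conj_apply] at h2
      calc g * x ^ 2 ^ k = (x ^ 2 ^ k * g * (x ^ 2 ^ k)⁻¹) * x ^ 2 ^ k := by rw [h2]
        _ = x ^ 2 ^ k * g := by group
    rwa [hZ, mem_bot] at h1
  have h2 : IsPGroup 2 ↥(zpowers x) := by
    rintro ⟨_, n, rfl⟩
    refine ⟨k, Subtype.ext ?_⟩
    show (x ^ n) ^ 2 ^ k = 1
    rw [← zpow_natCast, ← zpow_mul, mul_comm, zpow_mul, zpow_natCast, hx2, one_zpow]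
  have h3 : IsPGroup 2 ↥((S : Subgroup X) ⊔ zpowers x) := by
    apply S.isPGroup'.to_sup_of_normal_left' h2
    rw [zpowers_le, mem_normalizer_iff]
    intro s
    constructor
    · intro hs
      have : x * s * x⁻¹ = s := by rw [← hc s hs]; group
      rw [this]; exact hs
    · intro hs
      have h4 : x⁻¹ * (x * s * x⁻¹) * x = x * s * x⁻¹ := by
        have h5 := hc _ hs
        calc x⁻¹ * (x * s * x⁻¹) * x = x⁻¹ * ((x * s * x⁻¹) * x) := by group
          _ = x⁻¹ * (x * (x * s * x⁻¹)) := by rw [h5]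
          _ = x * s * x⁻¹ := by group
      have h5 : s = x * s * x⁻¹ := by
        calc s = x⁻¹ * (x * s * x⁻¹) * x := by group
          _ = _ := h4
      rw [h5]; exact hs
  have h4 := S.is_maximal' h3 le_sup_left
  have h5 : x ∈ (S : Subgroup X) ⊔ zpowers x := mem_sup_right (mem_zpowers x)
  rw [h4] at h5
  exact h5

/-- (F0) from `bal` -/
theorem core_of_bal [Finite X]
    (h : ∀ a : X, a * a = 1 → a ≠ 1 → ∀ I : Subgroup X, (∀ i ∈ I, i * a = a * i) →
      (∀ c : X, c * a = a * c → ∀ i ∈ I, c * i * c⁻¹ ∈ I) → Odd (Nat.card ↥I) → I = ⊥)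
    {a : X} (ha : orderOf a = 2) : centralizerPPrimeCore 2 a = ⊥ := by
  obtain ⟨h1, h2⟩ := orderOf_two_iff.mp ha
  apply h a h1 h2
  · rintro _ ⟨i, _, rfl⟩
    exact mem_centralizer_singleton_iff.mp i.2
  · rintro c hc _ ⟨i, hi, rfl⟩
    have hn : (pPrimeCore 2 ↥(centralizer ({a} : Set X))).Normal := inferInstance
    exact ⟨_, hn.conj_mem i hi ⟨c, mem_centralizer_singleton_iff.mpr hc⟩, rfl⟩
  · have h3 : Nat.card ↥(centralizerPPrimeCore 2 a) = Nat.card ↥(pPrimeCore 2 ↥(centralizer ({a} : Set X))) :=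
      (Nat.card_congr ((pPrimeCore 2 ↥(centralizer ({a} : Set X))).equivMapOfInjective _
        (centralizer ({a} : Set X)).subtype_injective).toEquiv).symm
    rw [h3]
    exact Nat.coprime_two_right.mp (Cfsg.Agent.Lib.Cores.pPrimeCore_coprime 2)

/-- `AutFacts` from the sheet -/
theorem Sheet.autFacts [Finite X] (h : Sheet X) (hZ : center X = ⊥) (hse : NoSE X) : AutFacts X where
  inner := inner_of_sylAut hZ h.sylAut
  uniq := by
    intro S s hs hs2 hsc s' hs' hs2' hsc'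
    obtain ⟨h1, h2⟩ := orderOf_two_iff.mp hs2
    obtain ⟨h3, h4⟩ := orderOf_two_iff.mp hs2'
    exact h.z1 S s hs h1 h2 hsc s' hs' h3 h4 hsc'
  bal := fun a ha => core_of_bal h.bal ha
  se := hse

end Abs

/-! ### The action of `N(K)` on `K` -/

variable {G : Type*} [Group G]

/-- the automorphism of `K` induced by `y ∈ N(K)` -/
def act (K : Subgroup G) {y : G} (hy : y ∈ normalizer (K : Set G)) : MulAut ↥K := K.normalizerMonoidHom ⟨y, hy⟩

theorem act_coe {K : Subgroup G} {y : G} (hy : y ∈ normalizer (K : Set G)) (x : ↥K) :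
    ((act K hy x : ↥K) : G) = y * x * y⁻¹ := rfl

theorem act_mul {K : Subgroup G} {y z : G} (hy : y ∈ normalizer (K : Set G)) (hz : z ∈ normalizer (K : Set G)) :
    act K (mul_mem hy hz) = act K hy * act K hz := by
  rw [act, act, act, ← map_mul]; rfl

/-- `y` acts as an inner automorphism iff `y ∈ K C(K)` -/
theorem inn_act_iff {K : Subgroup G} {y : G} (hy : y ∈ normalizer (K : Set G)) :
    Inn (act K hy) ↔ y ∈ K ⊔ centralizer (K : Set G) := by
  constructor
  · rintro ⟨k, hk⟩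
    have h1 : (k : G)⁻¹ * y ∈ centralizer (K : Set G) := by
      rw [mem_centralizer_iff]
      intro x hx
      have h2 : y * x * y⁻¹ = (k : G) * x * (k : G)⁻¹ := by
        have := congrArg (fun f : MulAut ↥K => ((f ⟨x, hx⟩ : ↥K) : G)) hk
        simpa [act_coe] using this
      calc x * ((k : G)⁻¹ * y) = (k : G)⁻¹ * ((k : G) * x * (k : G)⁻¹) * y := by group
        _ = (k : G)⁻¹ * (y * x * y⁻¹) * y := by rw [h2]
        _ = (k : G)⁻¹ * y * x := by group
    have h2 : y = (k : G) * ((k : G)⁻¹ * y) := by group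
    rw [h2]
    exact mul_mem_sup k.2 h1
  · intro h
    obtain ⟨k, hk, c, hc, rfl⟩ := exists_decomp h
    refine ⟨⟨k, hk⟩, ?_⟩
    ext x
    rw [act_coe, MulAut.conj_apply]
    show k * c * (x : G) * (k * c)⁻¹ = k * (x : G) * k⁻¹
    have h1 : c * (x : G) = x * c := (comm_of_cen x.2 hc).symm
    calc k * c * (x : G) * (k * c)⁻¹ = k * (c * (x : G)) * c⁻¹ * k⁻¹ := by group
      _ = k * (x * c) * c⁻¹ * k⁻¹ := by rw [h1]
      _ = k * (x : G) * k⁻¹ := by group

/-- (Schreier) perfect subgroups of `N(K)` lie in `K C(K)` -/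
theorem le_sup_of_perfect {K : Subgroup G}
    (hs : ∀ P : Subgroup (MulAut ↥K), ⁅P, P⁆ = P → P ≤ (MulAut.conj : ↥K →* MulAut ↥K).range) {P : Subgroup G}
    (hP : P ≤ normalizer (K : Set G)) (hPP : ⁅P, P⁆ = P) : P ≤ K ⊔ centralizer (K : Set G) := by
  have h1 : ⁅P.subgroupOf (normalizer (K : Set G)), P.subgroupOf (normalizer (K : Set G))⁆
      = P.subgroupOf (normalizer (K : Set G)) := by
    apply Subgroup.map_injective (Subgroup.subtype_injective _)
    rw [Subgroup.map_commutator, subgroupOf_map_subtype, inf_eq_left.mpr hP, hPP]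
  have h2 := hs ((P.subgroupOf (normalizer (K : Set G))).map K.normalizerMonoidHom) (perfect_map _ h1)
  intro y hy
  rw [← inn_act_iff (hP hy)]
  obtain ⟨k, hk⟩ := h2 ⟨⟨y, hP hy⟩, mem_subgroupOf.mpr hy, rfl⟩
  exact ⟨k, hk.symm⟩

end Cfsg.Agent.OddHalf.D4.Spor
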