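import Mathlib
import Cfsg.Agent.OddHalf.D4.Spor.Act

/-!
# ODD half, D4, sporadic components: projections of `C(L)` to `K`

`K`, `L` a full pair. `pr K H` is the projection to `K` of `H ∩ K C(K)`. `B = pr K (C(L))`, `V = pr K U`.
-/

set_option autoImplicit false

namespace Cfsg.Agent.OddHalf.D4.Spor

open Subgroup Cfsg Cfsg.Agent.OddHalf.D4 Cfsg.Agent.OddHalf.D4.Basic
open Cfsg.Agent.OddHalf.D4.CommConj (Tight cj mem_cj cj_mul card_cj cj_eq_of_mem_normalizer mem_normalizer_of_cj_eq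
  mem_cj_mul)

variable {G : Type*} [Group G]

/-- the projection to `K` of `H ∩ K C(K)` -/
def pr (K H : Subgroup G) : Subgroup G where
  carrier := {a | a ∈ K ∧ ∃ c ∈ centralizer (K : Set G), a * c ∈ H}
  mul_mem' := by
    rintro a b ⟨ha, c, hc, hac⟩ ⟨hb, d, hd, hbd⟩
    refine ⟨K.mul_mem ha hb, c * d, mul_mem hc hd, ?_⟩
    have h1 := comm_of_cen hb hc
    have e : a * b * (c * d) = (a * c) * (b * d) := by
      calc a * b * (c * d) = a * (b * c) * d := by group
        _ = a * (c * b) * d := by rw [h1]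
        _ = _ := by group
    rw [e]; exact H.mul_mem hac hbd
  one_mem' := ⟨K.one_mem, 1, one_mem _, by rw [one_mul]; exact H.one_mem⟩
  inv_mem' := by
    rintro a ⟨ha, c, hc, hac⟩
    refine ⟨K.inv_mem ha, c⁻¹, inv_mem hc, ?_⟩
    have h1 := comm_of_cen ha hc
    have e : a⁻¹ * c⁻¹ = (a * c)⁻¹ := by rw [h1]; group
    rw [e]; exact H.inv_mem hac

theorem mem_pr {K H : Subgroup G} {a : G} :
    a ∈ pr K H ↔ a ∈ K ∧ ∃ c ∈ centralizer (K : Set G), a * c ∈ H := Iff.rfl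

theorem pr_le (K H : Subgroup G) : pr K H ≤ K := fun _ h => h.1

theorem pr_mono (K : Subgroup G) {H H' : Subgroup G} (h : H ≤ H') : pr K H ≤ pr K H' :=
  fun _ ⟨h1, c, hc, h2⟩ => ⟨h1, c, hc, h h2⟩

/-- elements of `H ∩ K` -/
theorem mem_pr_of_mem {K H : Subgroup G} {a : G} (ha : a ∈ K) (haH : a ∈ H) : a ∈ pr K H :=
  ⟨ha, 1, one_mem _, by rw [mul_one]; exact haH⟩

/-- the projection to `K` -/
theorem exists_projK {K : Subgroup G} (hZ : ∀ x ∈ K, x ∈ centralizer (K : Set G) → x = 1) :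
    ∃ π : ↥(K ⊔ centralizer (K : Set G)) →* G, (∀ e, π e ∈ K) ∧
      (∀ e : ↥(K ⊔ centralizer (K : Set G)), ∃ c ∈ centralizer (K : Set G), (e : G) = π e * c) := by
  classical
  have hex : ∀ e : ↥(K ⊔ centralizer (K : Set G)), ∃ k, k ∈ K ∧ ∃ c ∈ centralizer (K : Set G), (e : G) = k * c := by
    intro e
    obtain ⟨k, hk, c, hc, he⟩ := exists_decomp e.2
    exact ⟨k, hk, c, hc, he⟩
  choose π hπ k hk he using hex
  refine ⟨MonoidHom.mk' π ?_, hπ, fun e => ⟨k e, hk e, he e⟩⟩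
  intro a b
  have h1 : π (a * b) * k (a * b) = (π a * π b) * (k a * k b) := by
    rw [← he (a * b), Subgroup.coe_mul, he a, he b]
    have h2 := comm_of_cen (hπ b) (hk a)
    calc π a * k a * (π b * k b) = π a * (k a * π b) * k b := by group
      _ = π a * (π b * k a) * k b := by rw [h2]
      _ = (π a * π b) * (k a * k b) := by group
  exact (decomp_unique hZ (hπ _) (hk _) (K.mul_mem (hπ a) (hπ b))
    ((centralizer (K : Set G)).mul_mem (hk a) (hk b)) h1).1

/-- `Loc` is invariant under conjugation. -/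
theorem loc_cj [Finite G] {K : Subgroup G} (h : Loc K) (g : G) : Loc (CommConj.cj g K) := by
  have conj_eq : ∀ x y : G, (g⁻¹ * x * g) * (g⁻¹ * y * g) = g⁻¹ * (x * y) * g := fun x y => by group
  have conj_inj : ∀ x y : G, g⁻¹ * x * g = g⁻¹ * y * g → x = y := fun x y h => by
    have : x = g * (g⁻¹ * x * g) * g⁻¹ := by group
    rw [this, h]; group
  have comm_iff : ∀ x y : G, (g⁻¹ * x * g) * (g⁻¹ * y * g) = (g⁻¹ * y * g) * (g⁻¹ * x * g) ↔ x * y = y * x := by
    intro x y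
    rw [conj_eq, conj_eq]
    exact ⟨conj_inj _ _, fun h => by rw [h]⟩
  have back : ∀ x : G, g⁻¹ * (g * x * g⁻¹) * g = x := fun x => by group
  have hT' : ∀ T : Subgroup G, IsSyl T (normalizer ((CommConj.cj g K : Subgroup G) : Set G)) →
      IsSyl (CommConj.cj g⁻¹ T) (normalizer (K : Set G)) := by
    intro T hT
    have h1 := hT.cj g⁻¹
    rwa [normalizer_cj, cj_inv_cj] at h1
  have mem' : ∀ {T : Subgroup G} {x : G}, x ∈ T → g⁻¹ * x * g ∈ CommConj.cj g⁻¹ T := by
    intro T x hx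
    rw [mem_cj, inv_inv]
    have e : g * (g⁻¹ * x * g) * g⁻¹ = x := by group
    rw [e]; exact hx
  refine ⟨?_, ?_, ?_, ?_, ?_, ?_⟩
  · exact TightAt.cj h.tight g
  · rw [centralizer_cj, card_cj]; exact h.even
  · intro x hx hxc
    rw [centralizer_cj, mem_cj] at hxc
    exact eq_one_of_conj (h.cen _ (mem_cj.mp hx) hxc)
  · -- inner
    intro T hT y hy hc
    obtain ⟨k, hk, s, hsT, hsA, hsc, hys⟩ := h.inner _ (hT' T hT) _ (mem' hy) (by
      intro s hs hsA
      rw [mem_cj, inv_inv] at hs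
      have h2 := (comm_iff _ _).mpr (hc (g * s * g⁻¹) hs (mem_cj_mul hsA))
      rwa [back] at h2)
    rw [mem_cj, inv_inv] at hsT
    refine ⟨g * k * g⁻¹, by rw [centralizer_cj]; exact mem_cj_mul hk, g * s * g⁻¹, hsT,
      mem_cj_mul hsA, ?_, ?_⟩
    · intro u hu huA
      have h2 := hsc _ (mem' hu) (mem_cj.mp huA)
      calc u * (g * s * g⁻¹) = g * ((g⁻¹ * u * g) * s) * g⁻¹ := by group
        _ = g * (s * (g⁻¹ * u * g)) * g⁻¹ := by rw [h2]
        _ = g * s * g⁻¹ * u := by group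
    · calc y = g * (g⁻¹ * y * g) * g⁻¹ := by group
        _ = g * (k * s) * g⁻¹ := by rw [hys]
        _ = g * k * g⁻¹ * (g * s * g⁻¹) := by group
  · -- uniq
    intro T hT s hs hsA hs2 hsc s' hs' hsA' hs2' hsc'
    apply conj_inj
    apply h.uniq _ (hT' T hT) _ (mem' hs) (mem_cj.mp hsA) (by rw [orderOf_conj']; exact hs2) ?_ _ (mem' hs')
      (mem_cj.mp hsA') (by rw [orderOf_conj']; exact hs2')
    · intro u hu huA
      rw [mem_cj, inv_inv] at hu
      have h2 := (comm_iff _ _).mpr (hsc' (g * u * g⁻¹) hu (mem_cj_mul huA))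
      rwa [back] at h2
    · intro u hu huA
      rw [mem_cj, inv_inv] at hu
      have h2 := (comm_iff _ _).mpr (hsc (g * u * g⁻¹) hu (mem_cj_mul huA))
      rwa [back] at h2
  · -- norm
    intro T hT x hx
    rw [normalizer_cj, mem_cj]
    apply h.norm _ (hT' T hT)
    rw [normalizer_cj, mem_cj, inv_inv]
    have e : g * (g⁻¹ * x * g) * g⁻¹ = x := by group
    rw [e]; exact hx

/-- the sheet of a conjugate -/
theorem sheet_cj {K : Subgroup G} (h : Sheet ↥K) (g : G) : Sheet ↥(CommConj.cj g K) :=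
  Sheet.of_equiv (K.equivMapOfInjective (MulAut.conj g).toMonoidHom (MulAut.conj g).injective) h

/-! ### A full pair -/

section Pair

variable [Finite G] {K L Q U : Subgroup G}

theorem odd_inf (h : FullPair K L Q U) (hK : TightAt K) :
    Odd (Nat.card ↥(centralizer (K : Set G) ⊓ centralizer (L : Set G))) := by
  apply odd_of_forall
  rintro u ⟨h1, h2⟩
  exact h.noInv hK h1 h2

/-- elements of `C(K) ∩ C(L)` have odd order -/
theorem odd_orderOf (h : FullPair K L Q U) (hK : TightAt K) {x : G} (hx : x ∈ centralizer (K : Set G))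
    (hx' : x ∈ centralizer (L : Set G)) : Odd (orderOf x) := by
  refine (odd_inf h hK).of_dvd_nat ?_
  have h1 := orderOf_dvd_natCard
    (⟨x, mem_inf.mpr ⟨hx, hx'⟩⟩ : ↥(centralizer (K : Set G) ⊓ centralizer (L : Set G)))
  rwa [← Subgroup.orderOf_coe] at h1

/-- **(A)** an involution `b` of `B` is the projection of an involution of `C(L)`. -/
theorem exists_invol' (h : FullPair K L Q U) (ht : TightAt K)
    (hcenK : ∀ x ∈ K, x ∈ centralizer (K : Set G) → x = 1) {b : G} (hb : b ∈ pr K (centralizer (L : Set G)))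
    (hbb : b * b = 1) (hb1 : b ≠ 1) : ∃ c ∈ centralizer (K : Set G), b * c ∈ centralizer (L : Set G) ∧
      orderOf (b * c) = 2 := by
  obtain ⟨hbK, c, hc, hbc⟩ := hb
  have hcom : Commute b c := comm_of_cen hbK hc
  have h1 : c * c ∈ centralizer (L : Set G) := by
    have e : c * c = (b * c) * (b * c) := by
      calc c * c = (b * b) * (c * c) := by rw [hbb, one_mul]
        _ = b * (b * c) * c := by group
        _ = b * (c * b) * c := by rw [hcom.eq]
        _ = (b * c) * (b * c) := by group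
    rw [e]; exact mul_mem hbc hbc
  have h2 : Odd (orderOf (c * c)) := odd_orderOf h ht (mul_mem hc hc) h1
  set m := orderOf (c * c) with hm
  obtain ⟨n, hn⟩ := h2
  have hbm : b ^ m = b := by
    rw [hn, pow_add, pow_mul, pow_two, hbb, one_pow, one_mul, pow_one]
  have h3 : b * c ^ m = (b * c) ^ m := by
    rw [hcom.mul_pow, hbm]
  refine ⟨c ^ m, pow_mem hc m, by rw [h3]; exact pow_mem hbc m, ?_⟩
  rw [orderOf_two_iff]
  have hcm : c ^ m * c ^ m = 1 := by
    rw [← pow_add, ← two_mul, pow_mul, pow_two, hm, pow_orderOf_eq_one]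
  have hcom2 : b * c ^ m = c ^ m * b := (hcom.pow_right m)
  constructor
  · calc b * c ^ m * (b * c ^ m) = b * (c ^ m * b) * c ^ m := by group
      _ = b * (b * c ^ m) * c ^ m := by rw [hcom2]
      _ = (b * b) * (c ^ m * c ^ m) := by group
      _ = 1 := by rw [hbb, hcm, one_mul]
  · intro h4
    apply hb1
    apply hcenK b hbK
    have e : b = (c ^ m)⁻¹ := eq_inv_of_mul_eq_one_left h4
    rw [e]; exact inv_mem (pow_mem hc m)

theorem exists_invol (h : FullPair K L Q U) (hK : Loc K) {b : G} (hb : b ∈ pr K (centralizer (L : Set G)))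
    (hbb : b * b = 1) (hb1 : b ≠ 1) : ∃ c ∈ centralizer (K : Set G), b * c ∈ centralizer (L : Set G) ∧
      orderOf (b * c) = 2 :=
  exists_invol' h hK.tight hK.cen hb hbb hb1

/-- **(B)** the elements of `K` commuting with an involution of `B` normalize `L`. -/
theorem mem_normalizer_of_comm' (h : FullPair K L Q U) (ht : TightAt K)
    (hcenK : ∀ x ∈ K, x ∈ centralizer (K : Set G) → x = 1) {b : G}
    (hb : b ∈ pr K (centralizer (L : Set G))) (hbb : b * b = 1) (hb1 : b ≠ 1) {x : G} (hx : x ∈ K)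
    (hxb : x * b = b * x) : x ∈ normalizer (L : Set G) := by
  obtain ⟨c, hc, hbc, h2⟩ := exists_invol' h ht hcenK hb hbb hb1
  refine (h.tightL ht).mem hbc h2 ?_
  have h3 := comm_of_cen hx hc
  calc x * (b * c) = (x * b) * c := by group
    _ = b * (x * c) := by rw [hxb]; group
    _ = b * c * x := by rw [h3]; group

theorem mem_normalizer_of_comm (h : FullPair K L Q U) (hK : Loc K) {b : G}
    (hb : b ∈ pr K (centralizer (L : Set G))) (hbb : b * b = 1) (hb1 : b ≠ 1) {x : G} (hx : x ∈ K)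
    (hxb : x * b = b * x) : x ∈ normalizer (L : Set G) :=
  mem_normalizer_of_comm' h hK.tight hK.cen hb hbb hb1 hx hxb

/-- **(C)** no involution of `B` is 2-central in `K`. -/
theorem not_cen (h : FullPair K L Q U) (hK : Loc K) {b : ↥K}
    (hb : (b : G) ∈ pr K (centralizer (L : Set G))) (hbb : b * b = 1) (hb1 : b ≠ 1) : ¬ Cen b := by
  rintro ⟨S, hS⟩
  obtain ⟨c, hc, hbc, h2⟩ := exists_invol h hK hb (by rw [← Subgroup.coe_mul, hbb]; rfl) (by
    intro h1; exact hb1 (Subtype.ext h1))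
  refine h.noCentral hK hbc h2 (isSyl_of_sylow S) ?_
  rintro _ ⟨s, hs, rfl⟩
  have h3 : (s : G) * b = b * s := congrArg Subtype.val (hS s hs)
  have h4 := comm_of_cen s.2 hc
  show (s : G) * (b * c) = b * c * s
  calc (s : G) * (b * c) = (s * b) * c := by group
    _ = b * (s * c) := by rw [h3]; group
    _ = b * c * s := by rw [h4]; group

omit [Finite G] in
/-- **(E)** `K ∩ N(L)` normalizes `B`. -/
theorem pr_norm {d n : G} (hd : d ∈ K) (hdL : d ∈ normalizer (L : Set G))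
    (hn : n ∈ pr K (centralizer (L : Set G))) : d * n * d⁻¹ ∈ pr K (centralizer (L : Set G)) := by
  obtain ⟨hnK, c, hc, hnc⟩ := hn
  refine ⟨K.mul_mem (K.mul_mem hd hnK) (K.inv_mem hd), c, hc, ?_⟩
  have h1 := comm_of_cen (K.inv_mem hd) hc
  have e : d * n * d⁻¹ * c = d * (n * c) * d⁻¹ := by
    calc d * n * d⁻¹ * c = d * n * (d⁻¹ * c) := by group
      _ = d * n * (c * d⁻¹) := by rw [h1]
      _ = d * (n * c) * d⁻¹ := by group
  rw [e]
  exact centralizer_conj_mem hdL hnc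

omit [Finite G] in
theorem card_subgroupOf_of_le {H K : Subgroup G} (h : H ≤ K) : Nat.card ↥(H.subgroupOf K) = Nat.card ↥H :=
  Nat.card_congr (subgroupOfEquivOfLe h).toEquiv

/-! ### The projection `V` of `U` -/

/-- `V ∩ ... `: the projection is injective on `U`. -/
theorem eq_one_of_mem (h : FullPair K L Q U) (hK : TightAt K) {u : G} (hu : u ∈ U)
    (huK : u ∈ centralizer (K : Set G)) : u = 1 := by
  have h1 := odd_orderOf h hK huK (h.sylU.le hu)
  obtain ⟨n, hn⟩ := h.sylU.two ⟨u, hu⟩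
  have h2 : u ^ 2 ^ n = 1 := congrArg Subtype.val hn
  have h3 := orderOf_dvd_of_pow_eq_one h2
  obtain ⟨k, _, hk⟩ := (Nat.dvd_prime_pow Nat.prime_two).mp h3
  rw [hk] at h1
  rcases k with _ | k
  · rw [pow_zero] at hk
    exact orderOf_eq_one_iff.mp hk
  · exfalso
    rw [pow_succ] at h1
    exact (Nat.not_odd_iff_even.mpr (even_iff_two_dvd.mpr (dvd_mul_left 2 _))) h1

omit [Finite G] in
/-- the product of decompositions -/
theorem decomp_mul {a c b d : G} (hb : b ∈ K) (hc : c ∈ centralizer (K : Set G)) :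
    (a * c) * (b * d) = (a * b) * (c * d) := by
  have h1 := comm_of_cen hb hc
  calc (a * c) * (b * d) = a * (c * b) * d := by group
    _ = a * (b * c) * d := by rw [h1]
    _ = (a * b) * (c * d) := by group

/-- **(F)** `BadB` -/
theorem badB (h : FullPair K L Q U) (hK : Loc K) (h4 : 4 ∣ Nat.card ↥(pr K (centralizer (L : Set G))))
    (hr : ∃ a ∈ U, ∃ b ∈ U, a * a = 1 ∧ a ≠ 1 ∧ b * b = 1 ∧ b ≠ 1 ∧ a * b = b * a ∧ a ≠ b) :
    BadB ((pr K (centralizer (L : Set G))).subgroupOf K) ((normalizer (L : Set G)).subgroupOf K) where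
  four := by rw [card_subgroupOf_of_le (pr_le _ _)]; exact h4
  non := fun b hb hbb hb1 => not_cen h hK (mem_subgroupOf.mp hb) hbb hb1
  cent := by
    intro b hb hbb hb1 c hc
    rw [mem_subgroupOf] at hb ⊢
    exact mem_normalizer_of_comm h hK hb (by rw [← Subgroup.coe_mul, hbb]; rfl)
      (fun h1 => hb1 (Subtype.ext h1)) c.2 (congrArg Subtype.val hc)
  norm := by
    intro d hd n hn
    rw [mem_subgroupOf] at hd hn ⊢
    exact pr_norm d.2 hd hn
  noSyl := by
    intro S hS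
    refine h.noSyl hK (isSyl_of_sylow S) ?_
    rintro _ ⟨s, hs, rfl⟩
    exact mem_subgroupOf.mp (hS hs)
  four_group := by
    intro hinn
    obtain ⟨a, ha, b, hb, haa, ha1, hbb, hb1, hab, hne⟩ := hr
    have key : ∀ u ∈ U, ∃ v ∈ K, ∃ c ∈ centralizer (K : Set G), u = v * c := fun u hu =>
      exists_decomp ((inn_act_iff (h.leU hK.tight hK.even hu)).mp (hinn _))
    obtain ⟨v, hv, c, hc, rfl⟩ := key a ha
    obtain ⟨w, hw, d, hd, rfl⟩ := key b hb
    have sq : ∀ {v c : G}, v ∈ K → c ∈ centralizer (K : Set G) → v * c * (v * c) = 1 → v * v = 1 := by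
      intro v c hv hc h1
      rw [decomp_mul hv hc] at h1
      refine (decomp_unique hK.cen (K.mul_mem hv hv) (mul_mem hc hc) K.one_mem (one_mem _) ?_).1
      rw [h1, one_mul]
    have ne : ∀ {v c : G}, v * c ∈ U → c ∈ centralizer (K : Set G) → v * c ≠ 1 → v ≠ 1 := by
      rintro v c hu hc h1 rfl
      rw [one_mul] at hu h1
      exact h1 (eq_one_of_mem h hK.tight hu hc)
    refine ⟨⟨v, hv⟩, mem_subgroupOf.mpr ⟨hv, c, hc, h.sylU.le ha⟩, ⟨w, hw⟩,
      mem_subgroupOf.mpr ⟨hw, d, hd, h.sylU.le hb⟩, Subtype.ext (sq hv hc haa),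
      fun h1 => ne ha hc ha1 (congrArg Subtype.val h1), Subtype.ext (sq hw hd hbb),
      fun h1 => ne hb hd hb1 (congrArg Subtype.val h1), ?_, Subtype.ext ?_⟩
    · intro h1
      have h2 : v = w := congrArg Subtype.val h1
      subst h2
      apply hne
      have h3 : (v * c)⁻¹ * (v * d) ∈ U := U.mul_mem (U.inv_mem ha) hb
      have h4 : (v * c)⁻¹ * (v * d) = c⁻¹ * d := by group
      have h5 := eq_one_of_mem h hK.tight h3 (by rw [h4]; exact mul_mem (inv_mem hc) hd)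
      exact (inv_mul_eq_one.mp h5)
    · show v * w = w * v
      refine (decomp_unique hK.cen (K.mul_mem hv hw) (mul_mem hc hd) (K.mul_mem hw hv) (mul_mem hd hc) ?_).1
      rw [← decomp_mul hw hc, ← decomp_mul hv hd, hab]

omit [Finite G] in
/-- the elements of `V` are 2-elements -/
theorem isPGroup_pr (h : FullPair K L Q U) (hK : Loc K) : IsPGroup 2 ↥(pr K U) := by
  rintro ⟨a, ha, c, hc, hac⟩
  obtain ⟨n, hn⟩ := h.sylU.two ⟨a * c, hac⟩
  have h2 : (a * c) ^ 2 ^ n = 1 := congrArg Subtype.val hn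
  have hcom : Commute a c := comm_of_cen ha hc
  rw [hcom.mul_pow] at h2
  refine ⟨n, Subtype.ext ?_⟩
  show a ^ 2 ^ n = 1
  apply hK.cen _ (pow_mem ha _)
  rw [eq_inv_of_mul_eq_one_left h2]
  exact inv_mem (pow_mem hc _)

/-- `U` normalizes `C(L) ∩ K C(K)` -/
theorem le_normalizer_inf (h : FullPair K L Q U) (hK : Loc K) :
    U ≤ normalizer ((centralizer (L : Set G) ⊓ (K ⊔ centralizer (K : Set G)) : Subgroup G) : Set G) := by
  intro u hu
  apply mem_normalizer_fintype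
  rintro x ⟨hx1, hx2⟩
  have huL := h.sylU.le hu
  have huK := h.leU hK.tight hK.even hu
  have h1 : u * x * u⁻¹ ∈ centralizer (L : Set G) := (centralizer (L : Set G)).mul_mem
    ((centralizer (L : Set G)).mul_mem huL hx1) ((centralizer (L : Set G)).inv_mem huL)
  refine ⟨h1, ?_⟩
  obtain ⟨k, hk, c, hc, rfl⟩ := exists_decomp hx2
  have e : u * (k * c) * u⁻¹ = (u * k * u⁻¹) * (u * c * u⁻¹) := by group
  rw [e]
  exact mul_mem_sup ((mem_normalizer_iff.mp huK k).mp hk) (centralizer_conj_mem huK hc)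

/-- `R0 = U ∩ K C(K)` is a Sylow 2-subgroup of `C(L) ∩ K C(K)` -/
theorem isSyl_R0 (h : FullPair K L Q U) (hK : Loc K) :
    IsSyl (U ⊓ (centralizer (L : Set G) ⊓ (K ⊔ centralizer (K : Set G))))
      (centralizer (L : Set G) ⊓ (K ⊔ centralizer (K : Set G))) :=
  h.sylU.inf inf_le_left (le_normalizer_inf h hK)

/-- **(G)** `|V| = |U ∩ K C(K)|` -/
theorem card_pr (h : FullPair K L Q U) (hK : Loc K) :
    Nat.card ↥(pr K U) = Nat.card ↥(U ⊓ (K ⊔ centralizer (K : Set G))) := by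
  obtain ⟨π, hπ, hπ'⟩ := exists_projK hK.cen
  let f : ↥(U ⊓ (K ⊔ centralizer (K : Set G))) → ↥(pr K U) := fun u =>
    ⟨π ⟨u, u.2.2⟩, hπ _, by
      obtain ⟨c, hc, he⟩ := hπ' ⟨u, u.2.2⟩
      refine ⟨c, hc, ?_⟩
      rw [← he]; exact u.2.1⟩
  have hf : Function.Bijective f := by
    constructor
    · intro u v huv
      have h1 : π ⟨u, u.2.2⟩ = π ⟨v, v.2.2⟩ := congrArg Subtype.val huv
      have h2 : π (⟨u, u.2.2⟩ * ⟨v, v.2.2⟩⁻¹) = 1 := by rw [map_mul, map_inv, h1, mul_inv_cancel]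
      obtain ⟨c, hc, he⟩ := hπ' (⟨u, u.2.2⟩ * ⟨v, v.2.2⟩⁻¹)
      rw [h2, one_mul] at he
      have h3 : (u : G) * (v : G)⁻¹ = c := he
      have h4 : (u : G) * (v : G)⁻¹ = 1 := by
        apply eq_one_of_mem h hK.tight (mul_mem u.2.1 (inv_mem v.2.1))
        rw [h3]; exact hc
      exact Subtype.ext (mul_inv_eq_one.mp h4)
    · rintro ⟨a, ha, c, hc, hac⟩
      have hm : a * c ∈ K ⊔ centralizer (K : Set G) := mul_mem_sup ha hc
      refine ⟨⟨a * c, hac, hm⟩, Subtype.ext ?_⟩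
      obtain ⟨c', hc', he⟩ := hπ' ⟨a * c, hm⟩
      exact (decomp_unique hK.cen (hπ _) hc' ha hc he.symm).1
  exact (Nat.card_congr (Equiv.ofBijective f hf)).symm

/-- **(G)** `V` is a Sylow 2-subgroup of `B` -/
theorem isSyl_pr (h : FullPair K L Q U) (hK : Loc K) : IsSyl (pr K U) (pr K (centralizer (L : Set G))) := by
  refine ⟨isPGroup_pr h hK, pr_mono K h.sylU.le, ?_⟩
  intro P hP hVP hPB
  obtain ⟨π, hπ, hπ'⟩ := exists_projK hK.cen
  -- the preimage of `P` in `C(L) ∩ K C(K)`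
  let JP : Subgroup G := ((P.comap π).map (K ⊔ centralizer (K : Set G)).subtype) ⊓ centralizer (L : Set G)
  have hJ : JP ≤ centralizer (L : Set G) ⊓ (K ⊔ centralizer (K : Set G)) := by
    rintro _ ⟨⟨e, _, rfl⟩, h2⟩
    exact ⟨h2, e.2⟩
  have hR : U ⊓ (centralizer (L : Set G) ⊓ (K ⊔ centralizer (K : Set G))) ≤ JP := by
    rintro u ⟨hu, huL, huK⟩
    refine ⟨⟨⟨u, huK⟩, ?_, rfl⟩, huL⟩
    show π ⟨u, huK⟩ ∈ P
    apply hVP
    obtain ⟨c, hc, he⟩ := hπ' ⟨u, huK⟩
    refine ⟨hπ _, c, hc, ?_⟩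
    rw [← he]; exact hu
  have hsyl : IsSyl (U ⊓ (centralizer (L : Set G) ⊓ (K ⊔ centralizer (K : Set G)))) JP :=
    (isSyl_R0 h hK).mono hR hJ
  let f : ↥JP →* ↥P := (π.comp (inclusion (hJ.trans inf_le_right))).codRestrict P (by
    rintro ⟨x, hx⟩
    have hx' := hx
    obtain ⟨⟨e, he, hex⟩, _⟩ := hx'
    have h1 : inclusion (hJ.trans inf_le_right) ⟨x, hx⟩ = e := Subtype.ext hex.symm
    show π (inclusion (hJ.trans inf_le_right) ⟨x, hx⟩) ∈ P
    rw [h1]; exact he)
  have hfv : ∀ x : ↥JP, ((f x : ↥P) : G) = π (inclusion (hJ.trans inf_le_right) x) := fun _ => rfl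
  have hf : Function.Surjective f := by
    rintro ⟨p, hp⟩
    obtain ⟨hpK, c, hc, hpc⟩ := hPB hp
    have hm : p * c ∈ K ⊔ centralizer (K : Set G) := mul_mem_sup hpK hc
    have h1 : π ⟨p * c, hm⟩ = p := by
      obtain ⟨c', hc', he⟩ := hπ' ⟨p * c, hm⟩
      exact (decomp_unique hK.cen (hπ _) hc' hpK hc he.symm).1
    have hx : p * c ∈ JP := ⟨⟨⟨p * c, hm⟩, by show π ⟨p * c, hm⟩ ∈ P; rw [h1]; exact hp, rfl⟩, hpc⟩
    refine ⟨⟨p * c, hx⟩, Subtype.ext ?_⟩
    rw [hfv]
    exact h1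
  have : Fact (Nat.Prime 2) := ⟨Nat.prime_two⟩
  obtain ⟨S, hS⟩ := hsyl.toSylow
  have h1 : (S.mapSurjective hf : Subgroup ↥P) = ⊤ := by
    have h2 := (S.mapSurjective hf).is_maximal' (Q := ⊤) (hP.of_equiv (Subgroup.topEquiv).symm) le_top
    exact h2.symm
  intro p hp
  have h2 : (⟨p, hp⟩ : ↥P) ∈ (S.mapSurjective hf : Subgroup ↥P) := by rw [h1]; trivial
  rw [Sylow.coe_mapSurjective] at h2
  obtain ⟨x, hx, hxp⟩ := h2
  have hx' : x ∈ (S : Subgroup ↥JP) := hx
  rw [hS, mem_subgroupOf] at hx'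
  have h3 : π (inclusion (hJ.trans inf_le_right) x) = p := by
    rw [← hfv, hxp]
  obtain ⟨c, hc, he⟩ := hπ' (inclusion (hJ.trans inf_le_right) x)
  rw [h3] at he
  refine ⟨by rw [← h3]; exact hπ _, c, hc, ?_⟩
  rw [← he]
  exact hx'.1

/-! ### The index of `U ∩ K C(K)` in `U` -/

omit [Finite G] in
theorem normal_inn (X : Type*) [Group X] : ((MulAut.conj : X →* MulAut X).range).Normal := by
  refine ⟨?_⟩
  rintro _ ⟨k, rfl⟩ φ
  refine ⟨φ k, ?_⟩
  ext x
  simp [MulAut.conj_apply]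

/-- **(H)** `|U| = |U ∩ K C(K)|` or `2 |U ∩ K C(K)|` -/
theorem card_U (h : FullPair K L Q U) (hK : Loc K)
    (hout : ¬ 4 ∣ (MulAut.conj : ↥K →* MulAut ↥K).range.index) :
    Nat.card ↥U = Nat.card ↥(U ⊓ (K ⊔ centralizer (K : Set G))) ∨
      Nat.card ↥U = 2 * Nat.card ↥(U ⊓ (K ⊔ centralizer (K : Set G))) := by
  have hUN := h.leU hK.tight hK.even
  let f : ↥U →* MulAut ↥K := K.normalizerMonoidHom.comp (inclusion hUN)
  have h1 : (MulAut.conj : ↥K →* MulAut ↥K).range.comap f =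
      (U ⊓ (K ⊔ centralizer (K : Set G))).subgroupOf U := by
    ext u
    rw [mem_subgroupOf, mem_comap]
    constructor
    · rintro ⟨k, hk⟩
      exact ⟨u.2, (inn_act_iff (hUN u.2)).mp ⟨k, hk.symm⟩⟩
    · rintro ⟨_, h2⟩
      obtain ⟨k, hk⟩ := (inn_act_iff (hUN u.2)).mpr h2
      exact ⟨k, hk.symm⟩
  have h2 : ((MulAut.conj : ↥K →* MulAut ↥K).range.comap f).index ∣
      (MulAut.conj : ↥K →* MulAut ↥K).range.index := by
    have := normal_inn ↥K
    rw [index_comap]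
    exact relIndex_dvd_index_of_normal _ _
  obtain ⟨n, hn⟩ := IsPGroup.iff_card.mp h.sylU.two
  have h3 : ((MulAut.conj : ↥K →* MulAut ↥K).range.comap f).index ∣ 2 ^ n := by
    rw [← hn]; exact index_dvd_card _
  obtain ⟨k, _, hk⟩ := (Nat.dvd_prime_pow Nat.prime_two).mp h3
  have hk2 : k ≤ 1 := by
    by_contra hcon
    apply hout
    refine dvd_trans ?_ (hk ▸ h2)
    have : 2 ≤ k := by omega
    calc 4 = 2 ^ 2 := by norm_num
      _ ∣ 2 ^ k := pow_dvd_pow 2 this
  have h4 : Nat.card ↥((U ⊓ (K ⊔ centralizer (K : Set G))).subgroupOf U) *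
      ((MulAut.conj : ↥K →* MulAut ↥K).range.comap f).index = Nat.card ↥U := by
    rw [← h1]; exact card_mul_index _
  rw [card_subgroupOf_of_le inf_le_left, hk] at h4
  rcases Nat.le_one_iff_eq_zero_or_eq_one.mp hk2 with rfl | rfl
  · left; rw [← h4, pow_zero, mul_one]
  · right; rw [← h4, pow_one, mul_comm]

end Pair

end Cfsg.Agent.OddHalf.D4.Spor
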