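import Mathlib
import Cfsg.Agent.OddHalf.D4.Spor.Proj

/-!
# ODD half, D4, sporadic components: general lemmas
-/

set_option autoImplicit false

namespace Cfsg.Agent.OddHalf.D4.Spor

open Subgroup Cfsg Cfsg.Agent.OddHalf.D4 Cfsg.Agent.OddHalf.D4.Basic

universe u

theorem mem_zpowers_two {G : Type*} [Group G] {w z : G} (hw : w * w = 1) (hz : z ∈ zpowers w) : z = 1 ∨ z = w := by
  obtain ⟨n, rfl⟩ := mem_zpowers_iff.mp hz
  rcases Int.even_or_odd n with ⟨m, rfl⟩ | ⟨m, rfl⟩
  · left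
    rw [← two_mul, zpow_mul]
    have : w ^ (2 : ℤ) = 1 := by rw [zpow_ofNat, pow_two, hw]
    rw [this, one_zpow]
  · right
    rw [zpow_add, zpow_mul, zpow_one]
    have : w ^ (2 : ℤ) = 1 := by rw [zpow_ofNat, pow_two, hw]
    rw [this, one_zpow, one_mul]

/-- the order of a group with Sylow 2-subgroups of order 2 -/
theorem card_mod_four {G : Type*} [Group G] [Finite G] {T M : Subgroup G} (h : IsSyl T M) (h2 : Nat.card ↥T = 2) :
    Nat.card ↥M % 4 = 2 := by
  have : Fact (Nat.Prime 2) := ⟨Nat.prime_two⟩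
  obtain ⟨P, hP⟩ := h.toSylow
  have h3 : Nat.card ↥(P : Subgroup ↥M) = 2 := by
    rw [hP, card_subgroupOf_of_le h.le, h2]
  have h4 : Nat.card ↥(P : Subgroup ↥M) * (P : Subgroup ↥M).index = Nat.card ↥M := card_mul_index _
  have h5 : ¬ 2 ∣ (P : Subgroup ↥M).index := P.not_dvd_index
  rw [h3] at h4
  omega

/-- If `w` is central in `H`, `|H| ≡ 2 (mod 4)`, `H` normal in `C(w)` and `O(C(w)) = 1` then `H = ⟨w⟩`. -/
theorem eq_of_bal {X : Type*} [Group X] [Finite X] {w : X} (hw : w * w = 1) (hw1 : w ≠ 1)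
    (hbal : ∀ I : Subgroup X, (∀ i ∈ I, i * w = w * i) →
      (∀ c : X, c * w = w * c → ∀ i ∈ I, c * i * c⁻¹ ∈ I) → Odd (Nat.card ↥I) → I = ⊥)
    {H : Subgroup X} (hwH : w ∈ H) (hHw : ∀ n ∈ H, n * w = w * n)
    (hn : ∀ c : X, c * w = w * c → ∀ n ∈ H, c * n * c⁻¹ ∈ H) (h4 : Nat.card ↥H % 4 = 2) :
    ∀ n ∈ H, n = 1 ∨ n = w := by
  let w' : ↥H := ⟨w, hwH⟩
  have hww : w' * w' = 1 := Subtype.ext hw
  have hw1' : w' ≠ 1 := fun h => hw1 (congrArg Subtype.val h)
  have ho : orderOf w' = 2 := orderOf_two_iff.mpr ⟨hww, hw1'⟩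
  have hc : Nat.card ↥(zpowers w') = 2 := by rw [Nat.card_zpowers, ho]
  have hcom : ∀ z ∈ zpowers w', ∀ g : ↥H, g * z = z * g := by
    intro z hz g
    rcases mem_zpowers_two hww hz with rfl | rfl
    · rw [mul_one, one_mul]
    · exact Subtype.ext (hHw g g.2)
  have hN : (zpowers w').Normal := by
    refine ⟨?_⟩
    intro z hz g
    rw [hcom z hz g, mul_inv_cancel_right]
    exact hz
  have hidx : Nat.card ↥(zpowers w') * (zpowers w').index = Nat.card ↥H := card_mul_index _
  rw [hc] at hidx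
  have hodd : Odd (zpowers w').index := by
    rw [Nat.odd_iff]; omega
  obtain ⟨O, hO⟩ := exists_right_complement'_of_coprime (N := zpowers w') (by
    rw [hc]; exact Nat.coprime_two_left.mpr hodd)
  have hOc : Odd (Nat.card ↥O) := by
    rw [← hO.symm.index_eq_card] at *
    exact hodd
  have hOn : ∀ c : X, c * w = w * c → ∀ i ∈ O.map H.subtype, c * i * c⁻¹ ∈ O.map H.subtype := by
    rintro c hcw _ ⟨o, ho', rfl⟩
    have hmem := hn c hcw o o.2
    obtain ⟨⟨⟨z, hz⟩, ⟨o', ho''⟩⟩, he⟩ := hO.2 (⟨c * (o : X) * c⁻¹, hmem⟩ : ↥H)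
    have he' : z * o' = (⟨c * (o : X) * c⁻¹, hmem⟩ : ↥H) := he
    have hpow : (⟨c * (o : X) * c⁻¹, hmem⟩ : ↥H) ^ Nat.card ↥O = 1 := by
      apply Subtype.ext
      show (c * (o : X) * c⁻¹) ^ Nat.card ↥O = 1
      have h1 : o ^ Nat.card ↥O = 1 := by
        have := pow_card_eq_one' (x := (⟨o, ho'⟩ : ↥O))
        exact congrArg Subtype.val this
      rw [conj_pow]
      have h2 : (o : X) ^ Nat.card ↥O = 1 := by
        have := congrArg Subtype.val h1
        exact this
      rw [h2]; group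
    have ho'2 : o' ^ Nat.card ↥O = 1 := by
      have := pow_card_eq_one' (x := (⟨o', ho''⟩ : ↥O))
      exact congrArg Subtype.val this
    have hz1 : z = 1 := by
      rcases mem_zpowers_two hww hz with h1 | h1
      · exact h1
      · exfalso
        rw [← he'] at hpow
        have h2 : Commute z o' := (hcom z hz o').symm
        rw [h2.mul_pow, ho'2, mul_one, h1] at hpow
        obtain ⟨m, hm⟩ := hOc
        rw [hm, pow_add, pow_mul, pow_two, hww, one_pow, one_mul, pow_one] at hpow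
        exact hw1' hpow
    rw [hz1, one_mul] at he'
    refine ⟨o', ho'', ?_⟩
    rw [he']; rfl
  have hO1 := hbal (O.map H.subtype) (by
    rintro _ ⟨o, _, rfl⟩
    exact hHw o o.2) hOn (by
    rw [card_map_of_injective H.subtype_injective]
    exact hOc)
  have hO2 : O = ⊥ := (map_eq_bot_iff_of_injective O H.subtype_injective).mp hO1
  intro n hn'
  obtain ⟨⟨⟨z, hz⟩, ⟨o', ho''⟩⟩, he⟩ := hO.2 (⟨n, hn'⟩ : ↥H)
  have he' : z * o' = (⟨n, hn'⟩ : ↥H) := he
  have h1 : o' = 1 := by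
    have := ho''
    rw [SetLike.mem_coe, hO2, mem_bot] at this
    exact this
  rw [h1, mul_one] at he'
  rcases mem_zpowers_two hww hz with h2 | h2
  · left
    rw [h2] at he'
    exact (congrArg Subtype.val he').symm
  · right
    rw [h2] at he'
    exact (congrArg Subtype.val he').symm

theorem four_dvd_of_perfect {B : Type*} [Group B] [Finite B] (hB : ⁅(⊤ : Subgroup B), (⊤ : Subgroup B)⁆ = ⊤)
    (h2 : 2 ∣ Nat.card B) : 4 ∣ Nat.card B := by
  have hp : Fact (Nat.Prime 2) := ⟨Nat.prime_two⟩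
  by_contra h4
  obtain ⟨P⟩ : Nonempty (Sylow 2 B) := inferInstance
  obtain ⟨k, hk⟩ := P.isPGroup'.exists_card_eq
  have hk1 : k < 2 := by
    by_contra hlt
    push Not at hlt
    apply h4
    have h5 : 2 ^ 2 ∣ Nat.card (P : Subgroup B) := hk ▸ pow_dvd_pow 2 hlt
    exact (h5.trans (card_subgroup_dvd_card _))
  have hPb : (P : Subgroup B) ≠ ⊥ := P.ne_bot_of_dvd_card h2
  have hcyc : IsCyclic P := by
    interval_cases k
    · exact absurd ((card_eq_one).mp (by simpa using hk)) hPb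
    · exact isCyclic_of_prime_card (p := 2) (by simpa using hk)
  have hmin : (Nat.card B).minFac = 2 := (Nat.minFac_eq_two_iff _).2 h2
  have h5 := IsCyclic.isComplement' hmin hcyc
  have h6 : (MonoidHom.transferSylow P (hcyc.normalizer_le_centralizer hmin)).ker = ⊤ := by
    rw [eq_top_iff, ← hB, commutator_le]
    intro x _ y _
    rw [MonoidHom.mem_ker, map_commutatorElement]
    have hc : IsMulCommutative P := hcyc.isMulCommutative
    exact commutatorElement_eq_one_iff_mul_comm.mpr (hc.is_comm.comm _ _)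
  rw [h6] at h5
  exact hPb (isComplement'_top_left.mp h5)

/-- A perfect subgroup `Y` of `C` centralizing a subgroup `R` of index at most 2 of a Sylow 2-subgroup of `C` is
trivial. -/
theorem eq_bot_of_perfect {G : Type u} [Group G] [Finite G]
    (hFT : ∀ (H : Type u) [Group H] [Finite H], Odd (Nat.card H) → Group.IsSolvable H) {C U R Y : Subgroup G}
    (hU : IsSyl U C) (hR : R ≤ U) (h2 : Nat.card ↥U ≤ 2 * Nat.card ↥R) (hY : Y ≤ C)
    (hc : ∀ y ∈ Y, ∀ r ∈ R, y * r = r * y) (hp : ⁅Y, Y⁆ = Y) : Y = ⊥ := by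
  have : Fact (Nat.Prime 2) := ⟨Nat.prime_two⟩
  have hptop : ⁅(⊤ : Subgroup ↥Y), (⊤ : Subgroup ↥Y)⁆ = ⊤ := by
    apply Subgroup.map_injective (Subgroup.subtype_injective Y)
    rw [Subgroup.map_commutator, ← MonoidHom.range_eq_map, Subgroup.range_subtype, hp]
  set N : Subgroup ↥Y := R.subgroupOf Y with hN
  have hNn : N.Normal := by
    refine ⟨?_⟩
    intro n hn g
    have h1 := hc g g.2 n (mem_subgroupOf.mp hn)
    have h3 : g * n = n * g := Subtype.ext h1
    rw [h3, mul_inv_cancel_right]; exact hn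
  have hNp : IsPGroup 2 ↥N := (hU.two.to_le hR).comap_subtype
  -- the order of `Y / N`
  have h4 : ¬ 4 ∣ Nat.card (↥Y ⧸ N) := by
    intro h4
    obtain ⟨P⟩ : Nonempty (Sylow 2 ↥Y) := inferInstance
    -- `P R` is a 2-group
    let P' : Subgroup G := (P : Subgroup ↥Y).map Y.subtype
    have hP' : IsPGroup 2 ↥P' := P.isPGroup'.map _
    have hP'Y : P' ≤ Y := map_subtype_le _
    have hsup : IsPGroup 2 ↥(P' ⊔ R) := by
      apply hP'.to_sup_of_normal_left' (hU.two.to_le hR)
      intro r hr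
      rw [mem_normalizer_iff]
      intro x
      have key : ∀ y ∈ Y, r * y * r⁻¹ = y := by
        intro y hy
        rw [← hc y hy r hr, mul_inv_cancel_right]
      constructor
      · intro hx
        rw [key x (hP'Y hx)]; exact hx
      · intro hx
        have h5 : r⁻¹ * (r * x * r⁻¹) * r = r * x * r⁻¹ := by
          have h6 := hc _ (hP'Y hx) r hr
          calc r⁻¹ * (r * x * r⁻¹) * r = r⁻¹ * ((r * x * r⁻¹) * r) := by group
            _ = r⁻¹ * (r * (r * x * r⁻¹)) := by rw [h6]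
            _ = r * x * r⁻¹ := by group
        have h7 : x = r * x * r⁻¹ := by
          calc x = r⁻¹ * (r * x * r⁻¹) * r := by group
            _ = _ := h5
        rw [h7]; exact hx
    have h5 : Nat.card ↥(P' ⊔ R) ≤ Nat.card ↥U := hU.card_le hsup (sup_le (hP'Y.trans hY) (hR.trans hU.le))
    have h6 : Nat.card ↥R * R.relIndex (P' ⊔ R) = Nat.card ↥(P' ⊔ R) := by
      have := card_mul_index (R.subgroupOf (P' ⊔ R))
      rwa [card_subgroupOf_of_le le_sup_right] at this
    have hRpos : 0 < Nat.card ↥R := Nat.card_pos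
    have h7 : R.relIndex (P' ⊔ R) ≤ 2 := by
      by_contra hcon
      push Not at hcon
      have h8 : Nat.card ↥R * 3 ≤ Nat.card ↥R * R.relIndex (P' ⊔ R) := Nat.mul_le_mul_left _ hcon
      omega
    have h8 : R.relIndex P' ≤ 2 := by
      refine le_trans (relIndex_le_of_le_right le_sup_left ?_) h7
      intro h0
      rw [h0, mul_zero] at h6
      exact (Nat.card_pos (α := ↥(P' ⊔ R))).ne h6
    have h9 : Nat.card ↥(R.subgroupOf P') * R.relIndex P' = Nat.card ↥P' := card_mul_index _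
    have h10 : Nat.card ↥(R.subgroupOf P') ∣ Nat.card ↥N := by
      have e1 : Nat.card ↥(R.subgroupOf P') = Nat.card ↥(R ⊓ P') := by
        rw [← inf_subgroupOf_right, card_subgroupOf_of_le inf_le_right]
      have e2 : Nat.card ↥N = Nat.card ↥(R ⊓ Y) := by
        rw [hN, ← inf_subgroupOf_right, card_subgroupOf_of_le inf_le_right]
      rw [e1, e2]
      exact card_dvd_of_le (inf_le_inf_left R hP'Y)
    have h11 : Nat.card ↥P' = Nat.card ↥(P : Subgroup ↥Y) := card_map_of_injective Y.subtype_injective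
    -- `4 |N|` divides `|P|`
    obtain ⟨n, hn⟩ := IsPGroup.iff_card.mp hNp
    have h12 : 4 * Nat.card ↥N ∣ Nat.card ↥Y := by
      have h13 : Nat.card ↥N * N.index = Nat.card ↥Y := card_mul_index _
      have h14 : N.index = Nat.card (↥Y ⧸ N) := index_eq_card N
      rw [← h13, h14, mul_comm]
      exact Nat.mul_dvd_mul_left _ h4
    have h15 : 4 * Nat.card ↥N ∣ Nat.card ↥(P : Subgroup ↥Y) := by
      rw [hn] at h12 ⊢
      have e : 4 * 2 ^ n = 2 ^ (n + 2) := by rw [pow_add]; ring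
      rw [e] at h12 ⊢
      rw [P.card_eq_multiplicity]
      exact pow_dvd_pow _ ((Nat.Prime.pow_dvd_iff_le_factorization Nat.prime_two Nat.card_pos.ne').mp h12)
    have h16 := Nat.le_of_dvd Nat.card_pos h15
    have h17 := Nat.le_of_dvd Nat.card_pos h10
    rw [← h11, ← h9] at h16
    have h18 : Nat.card ↥(R.subgroupOf P') * R.relIndex P' ≤ Nat.card ↥N * 2 := Nat.mul_le_mul h17 h8
    have hNpos : 0 < Nat.card ↥N := Nat.card_pos
    omega
  have hpq : ⁅(⊤ : Subgroup (↥Y ⧸ N)), (⊤ : Subgroup (↥Y ⧸ N))⁆ = ⊤ := by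
    have h5 := congrArg (Subgroup.map (QuotientGroup.mk' N)) hptop
    rw [Subgroup.map_commutator, Subgroup.map_top_of_surjective _ (QuotientGroup.mk'_surjective N)] at h5
    exact h5
  have hodd : Odd (Nat.card (↥Y ⧸ N)) := by
    rw [← Nat.not_even_iff_odd]
    intro he
    exact h4 (four_dvd_of_perfect hpq (even_iff_two_dvd.mp he))
  have hs : Group.IsSolvable (↥Y ⧸ N) := hFT _ hodd
  have htriv : (⊤ : Subgroup (↥Y ⧸ N)) = ⊥ := by
    obtain ⟨n, hn⟩ := hs.solvable
    have h5 : ∀ n, derivedSeries (↥Y ⧸ N) n = ⊤ := by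
      intro n
      induction n with
      | zero => rfl
      | succ n ih => rw [derivedSeries_succ, ih, hpq]
    rw [h5 n] at hn
    exact hn
  have hNtop : N = ⊤ := by
    rw [eq_top_iff]
    intro y _
    have h5 : (QuotientGroup.mk' N y) ∈ (⊤ : Subgroup (↥Y ⧸ N)) := mem_top _
    rw [htriv, mem_bot] at h5
    have h6 : y ∈ (QuotientGroup.mk' N).ker := h5
    rwa [QuotientGroup.ker_mk'] at h6
  have hYR : Y ≤ R := by
    intro y hy
    have h5 : (⟨y, hy⟩ : ↥Y) ∈ N := by rw [hNtop]; trivial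
    exact mem_subgroupOf.mp h5
  rw [← hp, commutator_eq_bot_iff_le_centralizer]
  intro y hy
  rw [mem_centralizer_iff]
  intro z hz
  exact hc z hz y (hYR hy)

/-- `Cen` in terms of the big group -/
theorem cen_iff_syl {G : Type*} [Group G] {K : Subgroup G} (x : ↥K) :
    Cen x ↔ ∃ S : Subgroup G, IsSyl S K ∧ ∀ s ∈ S, s * x = x * s := by
  constructor
  · rintro ⟨S, hS⟩
    refine ⟨_, isSyl_of_sylow S, ?_⟩
    rintro _ ⟨s, hs, rfl⟩
    exact congrArg Subtype.val (hS s hs)
  · rintro ⟨S, hS, hSx⟩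
    obtain ⟨P, hP⟩ := hS.toSylow
    refine ⟨P, fun s hs => Subtype.ext ?_⟩
    have hs' : s ∈ (P : Subgroup ↥K) := hs
    rw [hP, mem_subgroupOf] at hs'
    exact hSx _ hs'

end Cfsg.Agent.OddHalf.D4.Spor
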