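import Mathlib
import Cfsg.Agent.OddHalf.D4.Spor.Gen

/-!
# ODD half, D4, sporadic components: the case `|V| = 2`
-/

set_option autoImplicit false

namespace Cfsg.Agent.OddHalf.D4.Spor

open Subgroup Cfsg Cfsg.Agent.OddHalf.D4 Cfsg.Agent.OddHalf.D4.Basic
open Cfsg.Agent.OddHalf.D4.CommConj (Tight cj mem_cj cj_mul card_cj cj_eq_of_mem_normalizer mem_normalizer_of_cj_eq
  mem_cj_mul)

variable {G : Type*} [Group G]

/-- `C(K)` contains a four-group -/
def R2 (K : Subgroup G) : Prop := ∃ a b : G, a ∈ centralizer (K : Set G) ∧ b ∈ centralizer (K : Set G) ∧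
  orderOf a = 2 ∧ orderOf b = 2 ∧ a * b = b * a ∧ a ≠ b

theorem R2.cj {K : Subgroup G} (h : R2 K) (g : G) : R2 (CommConj.cj g K) := by
  obtain ⟨a, b, ha, hb, ha2, hb2, hab, hne⟩ := h
  refine ⟨g * a * g⁻¹, g * b * g⁻¹, by rw [centralizer_cj]; exact mem_cj_mul ha,
    by rw [centralizer_cj]; exact mem_cj_mul hb, by rw [Basic.orderOf_conj]; exact ha2,
    by rw [Basic.orderOf_conj]; exact hb2, ?_, ?_⟩
  · calc g * a * g⁻¹ * (g * b * g⁻¹) = g * (a * b) * g⁻¹ := by group
      _ = g * (b * a) * g⁻¹ := by rw [hab]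
      _ = g * b * g⁻¹ * (g * a * g⁻¹) := by group
  · intro he
    exact hne (mul_left_cancel (mul_right_cancel he))

/-- a four-group in a Sylow 2-subgroup of `C(K)` -/
theorem R2.exists_in [Finite G] {K U : Subgroup G} (h : R2 K) (hU : IsSyl U (centralizer (K : Set G))) :
    ∃ a ∈ U, ∃ b ∈ U, a * a = 1 ∧ a ≠ 1 ∧ b * b = 1 ∧ b ≠ 1 ∧ a * b = b * a ∧ a ≠ b := by
  obtain ⟨a, b, ha, hb, ha2, hb2, hab, hne⟩ := h
  have hfour : IsPGroup 2 ↥(zpowers a ⊔ zpowers b) := by
    have h1 : IsPGroup 2 ↥(zpowers a) := by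
      rw [IsPGroup.iff_card]; exact ⟨1, by rw [Nat.card_zpowers, ha2]; norm_num⟩
    have h2 : IsPGroup 2 ↥(zpowers b) := by
      rw [IsPGroup.iff_card]; exact ⟨1, by rw [Nat.card_zpowers, hb2]; norm_num⟩
    apply h1.to_sup_of_normal_left' h2
    rw [zpowers_le, mem_normalizer_iff]
    have h3 : ∀ n : ℤ, b * a ^ n * b⁻¹ = a ^ n := by
      intro n
      have h4 : Commute b (a ^ n) := (Commute.zpow_right (show Commute b a from hab.symm) n)
      rw [h4.eq]; group
    intro x
    constructor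
    · rintro ⟨n, rfl⟩
      exact ⟨n, (h3 n).symm⟩
    · rintro ⟨n, hn⟩
      refine ⟨n, ?_⟩
      have h5 : b * x * b⁻¹ = b * a ^ n * b⁻¹ := by rw [h3 n]; exact hn.symm
      exact (mul_left_cancel (mul_right_cancel h5)).symm
  obtain ⟨m, hm, hmq⟩ := hU.conj_into hfour (sup_le (by rw [zpowers_le]; exact ha) (by rw [zpowers_le]; exact hb))
  have ha' := orderOf_two_iff.mp ((Basic.orderOf_conj m a).trans ha2)
  have hb' := orderOf_two_iff.mp ((Basic.orderOf_conj m b).trans hb2)
  refine ⟨m * a * m⁻¹, hmq a (mem_sup_left (mem_zpowers a)), m * b * m⁻¹, hmq b (mem_sup_right (mem_zpowers b)),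
    ha'.1, ha'.2, hb'.1, hb'.2, ?_, ?_⟩
  · calc m * a * m⁻¹ * (m * b * m⁻¹) = m * (a * b) * m⁻¹ := by group
      _ = m * (b * a) * m⁻¹ := by rw [hab]
      _ = m * b * m⁻¹ * (m * a * m⁻¹) := by group
  · intro he
    exact hne (mul_left_cancel (mul_right_cancel he))

/-- a group of order at most 4 with a four-group -/
theorem four_of_card [Finite G] {U : Subgroup G} {a b : G} (ha : a ∈ U) (hb : b ∈ U) (haa : a * a = 1) (ha1 : a ≠ 1)
    (hbb : b * b = 1) (hb1 : b ≠ 1) (hab : a * b = b * a) (hne : a ≠ b) :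
    4 ≤ Nat.card ↥U ∧ (Nat.card ↥U ≤ 4 → ∀ u ∈ U, u = 1 ∨ u = a ∨ u = b ∨ u = a * b) := by
  classical
  have h1 : a * b ≠ 1 := by
    intro h
    apply hne
    have h2 : a = b⁻¹ := eq_inv_of_mul_eq_one_left h
    have h3 : b⁻¹ = b := inv_eq_of_mul_eq_one_left hbb
    rw [h2, h3]
  have h2 : a * b ≠ a := fun h => hb1 (mul_eq_left.mp h)
  have h3 : a * b ≠ b := fun h => ha1 (mul_eq_right.mp h)
  have hsub : (({1, a, b, a * b} : Finset G) : Set G) ⊆ (U : Set G) := by
    intro x hx
    simp only [Finset.coe_insert, Finset.coe_singleton, Set.mem_insert_iff, Set.mem_singleton_iff] at hx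
    rcases hx with rfl | rfl | rfl | rfl
    · exact one_mem _
    · exact ha
    · exact hb
    · exact mul_mem ha hb
  have hcard : ({1, a, b, a * b} : Finset G).card = 4 := by
    rw [Finset.card_insert_of_notMem, Finset.card_insert_of_notMem, Finset.card_insert_of_notMem,
      Finset.card_singleton]
    · simp only [Finset.mem_singleton]; exact fun h => h3 h.symm
    · simp only [Finset.mem_insert, Finset.mem_singleton, not_or]
      exact ⟨hne, fun h => h2 h.symm⟩
    · simp only [Finset.mem_insert, Finset.mem_singleton, not_or]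
      exact ⟨fun h => ha1 h.symm, fun h => hb1 h.symm, fun h => h1 h.symm⟩
  have hU : (U : Set G).ncard = Nat.card ↥U := rfl
  have h4 : (({1, a, b, a * b} : Finset G) : Set G).ncard = 4 := by rw [Set.ncard_coe_finset, hcard]
  constructor
  · rw [← hU, ← h4]
    exact Set.ncard_le_ncard hsub (Set.toFinite _)
  · intro hle u hu
    have h5 : (({1, a, b, a * b} : Finset G) : Set G) = (U : Set G) := by
      apply Set.eq_of_subset_of_ncard_le hsub _ (Set.toFinite _)
      rw [hU, h4]; exact hle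
    have h6 : u ∈ (({1, a, b, a * b} : Finset G) : Set G) := by rw [h5]; exact hu
    simpa only [Finset.coe_insert, Finset.coe_singleton, Set.mem_insert_iff, Set.mem_singleton_iff] using h6

section Finite

variable [Finite G] {K L Q U : Subgroup G}

/-- `4 ∣ |V|`, or `|V| = 2` and `U` is a four-group -/
theorem card_V (h : FullPair K L Q U) (hK : Loc K)
    (hout : ¬ 4 ∣ (MulAut.conj : ↥K →* MulAut ↥K).range.index) (hr : R2 L) :
    4 ∣ Nat.card ↥(pr K U) ∨ (Nat.card ↥(pr K U) = 2 ∧ (∀ u ∈ U, u * u = 1) ∧ (∀ u ∈ U, ∀ v ∈ U, u * v = v * u) ∧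
      ∃ y ∈ U, y ∉ K ⊔ centralizer (K : Set G)) := by
  obtain ⟨a, ha, b, hb, haa, ha1, hbb, hb1, hab, hne⟩ := hr.exists_in h.sylU
  obtain ⟨h4, h4'⟩ := four_of_card ha hb haa ha1 hbb hb1 hab hne
  have hc := card_pr h hK
  have hU := card_U h hK hout
  obtain ⟨n, hn⟩ := IsPGroup.iff_card.mp (isPGroup_pr h hK)
  rcases n with _ | _ | n
  · exfalso
    rw [pow_zero] at hn
    rw [← hc, hn] at hU
    omega
  · right
    rw [zero_add, pow_one] at hn
    rw [← hc, hn] at hU
    have h5 : Nat.card ↥U ≤ 4 := by omega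
    have h6 := h4' h5
    refine ⟨hn, ?_, ?_, ?_⟩
    · intro u hu
      rcases h6 u hu with rfl | rfl | rfl | rfl
      · rw [one_mul]
      · exact haa
      · exact hbb
      · calc a * b * (a * b) = a * (b * a) * b := by group
          _ = a * (a * b) * b := by rw [hab]
          _ = (a * a) * (b * b) := by group
          _ = 1 := by rw [haa, hbb, one_mul]
    · intro u hu v hv
      have hca : ∀ v ∈ U, Commute a v := by
        intro v hv
        rcases h6 v hv with rfl | rfl | rfl | rfl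
        · exact Commute.one_right _
        · exact Commute.refl _
        · exact hab
        · exact (Commute.refl a).mul_right hab
      have hcb : ∀ v ∈ U, Commute b v := by
        intro v hv
        rcases h6 v hv with rfl | rfl | rfl | rfl
        · exact Commute.one_right _
        · exact hab.symm
        · exact Commute.refl _
        · exact (show Commute b a from hab.symm).mul_right (Commute.refl b)
      rcases h6 u hu with rfl | rfl | rfl | rfl
      · exact Commute.one_left v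
      · exact hca v hv
      · exact hcb v hv
      · exact (hca v hv).mul_left (hcb v hv)
    · by_contra hcon
      push Not at hcon
      have h7 : U ⊓ (K ⊔ centralizer (K : Set G)) = U := inf_eq_left.mpr hcon
      rw [h7, hn] at hc
      omega
  · left
    rw [hn]
    exact ⟨2 ^ n, by ring⟩

/-- **the case `|V| = 2`** -/
theorem case_two (h : FullPair K L Q U) (hK : Loc K) (hS : Sheet ↥K) (hV : Nat.card ↥(pr K U) = 2)
    (hsq : ∀ u ∈ U, u * u = 1) (hcomm : ∀ u ∈ U, ∀ v ∈ U, u * v = v * u) {y : G} (hy : y ∈ U)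
    (hyK : y ∉ K ⊔ centralizer (K : Set G)) : False := by
  -- the involution `w` of `V`
  have hVne : pr K U ≠ ⊥ := by
    intro h1; rw [h1, card_bot] at hV; omega
  obtain ⟨w, hwV, hw2⟩ := exists_invol_of_two (isPGroup_pr h hK) hVne
  obtain ⟨hww, hw1⟩ := orderOf_two_iff.mp hw2
  have hwB : w ∈ pr K (centralizer (L : Set G)) := pr_mono K h.sylU.le hwV
  obtain ⟨hwK, c, hc, hwc⟩ := hwV
  have hyN := h.leU hK.tight hK.even hy
  have hyL := h.sylU.le hy
  have hyy := hsq y hy
  have hy1 : y ≠ 1 := by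
    rintro rfl
    exact hyK (one_mem _)
  have hy2 : orderOf y = 2 := orderOf_two_iff.mpr ⟨hyy, hy1⟩
  -- `y` commutes with `w`
  have hyw : y * w * y⁻¹ = w := by
    have h1 : (y * w * y⁻¹) * (y * c * y⁻¹) = w * c := by
      have h2 := hcomm y hy (w * c) hwc
      calc (y * w * y⁻¹) * (y * c * y⁻¹) = (y * (w * c)) * y⁻¹ := by group
        _ = w * c := by rw [h2]; group
    exact (decomp_unique hK.cen ((mem_normalizer_iff.mp hyN w).mp hwK) (centralizer_conj_mem hyN hc) hwK hc h1).1
  have hyw' : y * w = w * y := by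
    calc y * w = (y * w * y⁻¹) * y := by group
      _ = w * y := by rw [hyw]
  set B := pr K (centralizer (L : Set G)) with hB
  have hBK : B ≤ K := pr_le _ _
  have hsylV := isSyl_pr h hK
  have hV2 : ∀ v ∈ pr K U, v = 1 ∨ v = w := by
    intro v hv
    have h1 : zpowers w = pr K U := by
      apply eq_of_le_of_card_ge
      · rw [zpowers_le]; exact ⟨hwK, c, hc, hwc⟩
      · rw [Nat.card_zpowers, hw2, hV]
    rw [← h1] at hv
    exact mem_zpowers_two hww hv
  have hcen : ∀ {x : G}, x ∈ K → x * w = w * x → x ∈ normalizer (L : Set G) := fun hx hxw =>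
    mem_normalizer_of_comm h hK hwB hww hw1 hx hxw
  -- Sylow subgroups of subgroups between `V` and `B`
  have hmod : ∀ M : Subgroup G, w ∈ M → M ≤ B → Nat.card ↥M % 4 = 2 := by
    intro M hwM hMB
    refine card_mod_four (hsylV.mono ?_ hMB) hV
    intro v hv
    rcases hV2 v hv with rfl | rfl
    · exact one_mem _
    · exact hwM
  let w' : ↥K := ⟨w, hwK⟩
  -- `C_B(w) = ⟨w⟩`
  have hCB : ∀ t ∈ B, t * w = w * t → t = 1 ∨ t = w := by
    let H : Subgroup ↥K := (B ⊓ centralizer ({w} : Set G)).subgroupOf K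
    have h1 := eq_of_bal (X := ↥K) (w := w') (Subtype.ext hww) (fun h1 => hw1 (congrArg Subtype.val h1))
      (hS.bal w' (Subtype.ext hww) (fun h1 => hw1 (congrArg Subtype.val h1))) (H := H)
      (mem_subgroupOf.mpr ⟨hwB, mem_centralizer_singleton_iff.mpr rfl⟩)
      (fun n hn => Subtype.ext (mem_centralizer_singleton_iff.mp (mem_subgroupOf.mp hn).2))
      (by
        intro x hx n hn
        obtain ⟨hn1, hn2⟩ := mem_subgroupOf.mp hn
        have hx' : (x : G) * w = w * x := congrArg Subtype.val hx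
        have hn2' := mem_centralizer_singleton_iff.mp hn2
        refine mem_subgroupOf.mpr ⟨pr_norm x.2 (hcen x.2 hx') hn1, mem_centralizer_singleton_iff.mpr ?_⟩
        show (x : G) * n * (x : G)⁻¹ * w = w * ((x : G) * n * (x : G)⁻¹)
        have hx1 : (x : G)⁻¹ * w = w * (x : G)⁻¹ := by
          calc (x : G)⁻¹ * w = (x : G)⁻¹ * (w * x) * (x : G)⁻¹ := by group
            _ = (x : G)⁻¹ * (x * w) * (x : G)⁻¹ := by rw [hx']
            _ = w * (x : G)⁻¹ := by group
        calc (x : G) * n * (x : G)⁻¹ * w = (x : G) * n * ((x : G)⁻¹ * w) := by group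
          _ = (x : G) * (n * w) * (x : G)⁻¹ := by rw [hx1]; group
          _ = (x : G) * w * n * (x : G)⁻¹ := by rw [hn2']; group
          _ = w * ((x : G) * n * (x : G)⁻¹) := by rw [hx']; group)
      (by
        show Nat.card ↥((B ⊓ centralizer ({w} : Set G)).subgroupOf K) % 4 = 2
        rw [card_subgroupOf_of_le (inf_le_left.trans hBK)]
        exact hmod _ ⟨hwB, mem_centralizer_singleton_iff.mpr rfl⟩ inf_le_left)
    intro t ht htw
    rcases h1 ⟨t, hBK ht⟩ (mem_subgroupOf.mpr ⟨ht, mem_centralizer_singleton_iff.mpr htw⟩) with h2 | h2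
    · left; exact congrArg Subtype.val h2
    · right; exact congrArg Subtype.val h2
  -- apply `out2`
  refine hS.out2 (act K hyN) (fun h1 => hyK ((inn_act_iff hyN).mp h1)) ?_ w' (Subtype.ext hww)
    (fun h1 => hw1 (congrArg Subtype.val h1)) (not_cen h hK hwB (Subtype.ext hww)
      (fun h1 => hw1 (congrArg Subtype.val h1))) (Subtype.ext hyw) ?_
    ((B ⊓ centralizer ({y} : Set G)).subgroupOf K) ?_ ?_ ?_ ?_
  · ext x
    show y * (y * (x : G) * y⁻¹) * y⁻¹ = x
    have hyi : y⁻¹ = y := inv_eq_of_mul_eq_one_left hyy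
    calc y * (y * (x : G) * y⁻¹) * y⁻¹ = (y * y) * x * (y⁻¹ * y⁻¹) := by group
      _ = x := by rw [hyi, hyy]; group
  · intro x hx
    have hx' : (x : G) * w = w * x := congrArg Subtype.val hx
    have hxL := hcen x.2 hx'
    obtain ⟨h1, h2⟩ := commutator_mem x.2 hxL hyL hyN
    set t := (x : G) * y * (x : G)⁻¹ * y⁻¹ with ht
    have htB : t ∈ B := mem_pr_of_mem h1 h2
    have hyw2 : y⁻¹ * w = w * y⁻¹ := by
      calc y⁻¹ * w = y⁻¹ * (w * y) * y⁻¹ := by group
        _ = y⁻¹ * (y * w) * y⁻¹ := by rw [hyw']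
        _ = w * y⁻¹ := by group
    have hx1 : (x : G)⁻¹ * w = w * (x : G)⁻¹ := by
      calc (x : G)⁻¹ * w = (x : G)⁻¹ * (w * x) * (x : G)⁻¹ := by group
        _ = (x : G)⁻¹ * (x * w) * (x : G)⁻¹ := by rw [hx']
        _ = w * (x : G)⁻¹ := by group
    have htw : t * w = w * t := by
      have e1 : Commute (x : G) w := hx'
      have e2 : Commute y w := hyw'
      exact ((e1.mul_left e2).mul_left e1.inv_left).mul_left e2.inv_left
    have hval : y * (x : G) * y⁻¹ = t⁻¹ * x := by
      rw [ht]; group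
    rcases hCB t htB htw with h3 | h3
    · left
      apply Subtype.ext
      rw [act_coe, hval, h3]; group
    · right
      apply Subtype.ext
      rw [act_coe, hval, h3]
      show w⁻¹ * (x : G) = w * x
      rw [inv_eq_of_mul_eq_one_left hww]
  · exact mem_subgroupOf.mpr ⟨hwB, mem_centralizer_singleton_iff.mpr hyw'.symm⟩
  · intro n hn
    have hn2 := mem_centralizer_singleton_iff.mp (mem_subgroupOf.mp hn).2
    apply Subtype.ext
    rw [act_coe, ← hn2]; group
  · intro x hx n hn
    obtain ⟨hn1, hn2⟩ := mem_subgroupOf.mp hn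
    have hn2' := mem_centralizer_singleton_iff.mp hn2
    have hxy : (x : G) * y = y * x := by
      have h1 : y * (x : G) * y⁻¹ = x := congrArg Subtype.val hx
      calc (x : G) * y = (y * (x : G) * y⁻¹) * y := by rw [h1]
        _ = y * x := by group
    have hxL : (x : G) ∈ normalizer (L : Set G) := (h.tightL hK.tight).mem hyL hy2 hxy
    refine mem_subgroupOf.mpr ⟨pr_norm x.2 hxL hn1, mem_centralizer_singleton_iff.mpr ?_⟩
    have e1 : Commute (x : G) y := hxy
    have e2 : Commute (n : G) y := hn2'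
    exact (e1.mul_left e2).mul_left e1.inv_left
  · rw [card_subgroupOf_of_le (inf_le_left.trans hBK)]
    exact hmod _ ⟨hwB, mem_centralizer_singleton_iff.mpr hyw'.symm⟩ inf_le_left

end Finite

end Cfsg.Agent.OddHalf.D4.Spor
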