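import Mathlib
import Cfsg.Agent.OddHalf.D4.Exists
import Cfsg.Agent.OddHalf.D4.Spor.CaseTwo

/-!
# ODD half, D4, sporadic components: `J₁`, `Fi₂₃`

All automorphisms are inner, and `gam`: a subgroup `D` containing `C(b)` for all the involutions `b` of a normal
subgroup `B` with two commuting involutions is the whole group. No other facts are needed.
-/

set_option autoImplicit false

namespace Cfsg.Agent.OddHalf.D4.Spor

open Subgroup Cfsg Cfsg.Agent.OddHalf.D4 Cfsg.Agent.OddHalf.D4.Basic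
open Cfsg.Agent.OddHalf.D4.CommConj (Tight cj mem_cj cj_mul card_cj cj_eq_of_mem_normalizer mem_normalizer_of_cj_eq
  mem_cj_mul)

/-- The fact sheet of `J₁`, `Fi₂₃`. -/
structure SheetG (X : Type*) [Group X] : Prop where
  inn : ∀ α : MulAut X, Inn α
  gam : ∀ B D : Subgroup X, (∀ b ∈ B, b * b = 1 → b ≠ 1 → ∀ c : X, c * b = b * c → c ∈ D) →
    (∀ d ∈ D, ∀ n ∈ B, d * n * d⁻¹ ∈ B) → ∀ x ∈ B, x * x = 1 → x ≠ 1 → ∀ x' ∈ B, x' * x' = 1 → x' ≠ 1 →
    x * x' = x' * x → x ≠ x' → D = ⊤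

theorem SheetG.of_equiv {X Y : Type*} [Group X] [Group Y] (e : X ≃* Y) (h : SheetG X) : SheetG Y where
  inn := fun α => (inn_iff e).mp (h.inn _)
  gam := by
    intro B D hB hD x hx hxx hx1 x' hx' hxx' hx1' hc hne
    have key : ∀ c : Y, c ≠ 1 → e.symm c ≠ 1 := by
      intro c hc h1
      apply hc
      rw [← e.apply_symm_apply c, h1, map_one]
    have h1 := h.gam (B.map e.symm.toMonoidHom) (D.map e.symm.toMonoidHom) (by
      intro b hb hbb hb1 c hc
      rw [mem_map_symm] at hb ⊢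
      refine hB (e b) hb (by rw [← map_mul, hbb, map_one]) ?_ (e c) (by rw [← map_mul, hc, map_mul])
      intro h1
      apply hb1
      apply e.injective
      rw [h1, map_one]) (by
      intro d hd n hn
      rw [mem_map_symm] at hd hn ⊢
      rw [map_mul, map_mul, map_inv]
      exact hD _ hd _ hn) (e.symm x) ⟨x, hx, rfl⟩ (by rw [← map_mul, hxx, map_one]) (key x hx1) (e.symm x')
      ⟨x', hx', rfl⟩ (by rw [← map_mul, hxx', map_one]) (key x' hx1') (by rw [← map_mul, hc, map_mul])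
      (fun h1 => hne (e.symm.injective h1))
    rw [eq_top_iff]
    intro y _
    have h2 : e.symm y ∈ D.map e.symm.toMonoidHom := by rw [h1]; trivial
    rw [mem_map_symm, e.apply_symm_apply] at h2
    exact h2

variable {G : Type*} [Group G]

section

variable [Finite G] {K : Subgroup G}

/-- (F1) if all automorphisms are inner -/
theorem inner_of_inn (hcen : ∀ x ∈ K, x ∈ centralizer (K : Set G) → x = 1) (hinn : ∀ α : MulAut ↥K, Inn α)
    {T : Subgroup G} (hT : IsSyl T (normalizer (K : Set G))) {y : G} (hy : y ∈ T)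
    (hc : ∀ s ∈ T, s ∈ K → s * y = y * s) :
    ∃ k ∈ centralizer (K : Set G), ∃ s ∈ T, s ∈ K ∧ (∀ u ∈ T, u ∈ K → u * s = s * u) ∧ y = k * s := by
  obtain ⟨a, ha, c, hcC, rfl⟩ := exists_decomp ((inn_act_iff (hT.le hy)).mp (hinn _))
  have hac : Commute a c := comm_of_cen ha hcC
  have hcomm : ∀ u ∈ T, u ∈ K → u * a = a * u := by
    intro u hu huK
    have h1 := hc u hu huK
    have h2 := comm_of_cen huK hcC
    have h3 : u * a * c = a * u * c := by
      calc u * a * c = u * (a * c) := by group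
        _ = a * (c * u) := by rw [h1]; group
        _ = a * u * c := by rw [← h2]; group
    exact mul_right_cancel h3
  have hsyl : IsSyl (T ⊓ K) K := hT.inf le_normalizer hT.le
  -- `a` is a 2-element
  obtain ⟨n, hn⟩ := hT.two ⟨a * c, hy⟩
  have h2 : (a * c) ^ 2 ^ n = 1 := congrArg Subtype.val hn
  rw [hac.mul_pow] at h2
  have han : a ^ 2 ^ n = 1 := by
    apply hcen _ (pow_mem ha _)
    rw [eq_inv_of_mul_eq_one_left h2]
    exact inv_mem (pow_mem hcC _)
  have hap : IsPGroup 2 ↥(zpowers a) := by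
    rintro ⟨_, m, rfl⟩
    refine ⟨n, Subtype.ext ?_⟩
    show (a ^ m) ^ 2 ^ n = 1
    rw [← zpow_natCast, ← zpow_mul, mul_comm, zpow_mul, zpow_natCast, han, one_zpow]
  have hsup : IsPGroup 2 ↥((T ⊓ K) ⊔ zpowers a) := by
    apply hsyl.two.to_sup_of_normal_left' hap
    rw [zpowers_le]
    apply mem_normalizer_fintype
    rintro x ⟨hxT, hxK⟩
    have : a * x * a⁻¹ = x := by rw [← hcomm x hxT hxK, mul_inv_cancel_right]
    rw [this]; exact ⟨hxT, hxK⟩
  have haT : a ∈ T := (hsyl.max _ hsup le_sup_left (sup_le inf_le_right (by rw [zpowers_le]; exact ha))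
    (mem_sup_right (mem_zpowers a))).1
  exact ⟨c, hcC, a, haT, ha, hcomm, hac.eq⟩

/-- **existence of a full pair** if all automorphisms of `K` are inner -/
theorem exists_fullPair_of_inn [IsSimpleGroup G] (h1173 : EvenPair.H1173 G) (hstd : IsStandardSubgroup K)
    (hcen : ∀ x ∈ K, x ∈ centralizer (K : Set G) → x = 1) (hinn : ∀ α : MulAut ↥K, Inn α) (hne : K ≠ ⊥)
    (hperf : ⁅K, K⁆ = K) : ∃ L Q U : Subgroup G, FullPair K L Q U := by
  have ht := EvenPair.tight_of_standard hstd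
  have hcomm : ∀ k ∈ K, ∀ c ∈ centralizer (K : Set G), k * c = c * k :=
    fun k hk c hc => mem_centralizer_iff.mp hc k hk
  obtain ⟨g, hg, r, hr, hr2, hrg⟩ := EvenPair.exists_even h1173 ht hstd.2.1.1 hne hperf hcomm
  obtain ⟨E, hE⟩ := ht.exists_maxE hg hr hr2 hrg
  obtain ⟨L, Q, U, hF, -, -⟩ := Exists.fullPair_of_maxE ht hcen (fun T hT y hy hc =>
    inner_of_inn hcen hinn hT hy hc) hE
  exact ⟨L, Q, U, hF⟩

/-- **the kill (GAM)** -/
theorem false_of_gam {L Q U : Subgroup G} (h : FullPair K L Q U) (hstd : IsStandardSubgroup K)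
    (hs : IsSimpleGroup ↥K) (hcen : ∀ x ∈ K, x ∈ centralizer (K : Set G) → x = 1) (hr : R2 K)
    (hS : SheetG ↥K) : False := by
  have ht := EvenPair.tight_of_standard hstd
  have hUN : U ≤ normalizer (K : Set G) := h.leU ht hstd.2.1.1
  have hrL : R2 L := by
    obtain ⟨g, _, rfl⟩ := h.conj
    exact hr.cj g
  obtain ⟨a, ha, b, hb, haa, ha1, hbb, hb1, hab, hne⟩ := hrL.exists_in h.sylU
  have key : ∀ u ∈ U, ∃ v ∈ K, ∃ c ∈ centralizer (K : Set G), u = v * c := fun u hu =>
    exists_decomp ((inn_act_iff (hUN hu)).mp (hS.inn _))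
  obtain ⟨v, hv, c, hc, rfl⟩ := key a ha
  obtain ⟨w, hw, d, hd, rfl⟩ := key b hb
  have sq : ∀ {v c : G}, v ∈ K → c ∈ centralizer (K : Set G) → v * c * (v * c) = 1 → v * v = 1 := by
    intro v c hv hc h1
    rw [decomp_mul hv hc] at h1
    refine (decomp_unique hcen (K.mul_mem hv hv) (mul_mem hc hc) K.one_mem (one_mem _) ?_).1
    rw [h1, one_mul]
  have ne : ∀ {v c : G}, v * c ∈ U → c ∈ centralizer (K : Set G) → v * c ≠ 1 → v ≠ 1 := by
    rintro v c hu hc h1 rfl
    rw [one_mul] at hu h1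
    exact h1 (eq_one_of_mem h ht hu hc)
  have hvw : v * w = w * v := by
    refine (decomp_unique hcen (K.mul_mem hv hw) (mul_mem hc hd) (K.mul_mem hw hv) (mul_mem hd hc) ?_).1
    rw [← decomp_mul hw hc, ← decomp_mul hv hd, hab]
  have hvne : v ≠ w := by
    rintro rfl
    apply hne
    have h3 : (v * c)⁻¹ * (v * d) ∈ U := U.mul_mem (U.inv_mem ha) hb
    have h4 : (v * c)⁻¹ * (v * d) = c⁻¹ * d := by group
    have h5 := eq_one_of_mem h ht h3 (by rw [h4]; exact mul_mem (inv_mem hc) hd)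
    exact (inv_mul_eq_one.mp h5)
  -- `D = K ∩ N(L)` is `K`
  have hD := hS.gam ((pr K (centralizer (L : Set G))).subgroupOf K) ((normalizer (L : Set G)).subgroupOf K) (by
      intro b hb hbb hb1 c hc
      rw [mem_subgroupOf] at hb ⊢
      exact mem_normalizer_of_comm' h ht hcen hb (by rw [← Subgroup.coe_mul, hbb]; rfl)
        (fun h1 => hb1 (Subtype.ext h1)) c.2 (congrArg Subtype.val hc)) (by
      intro d hd n hn
      rw [mem_subgroupOf] at hd hn ⊢
      exact pr_norm d.2 hd hn) ⟨v, hv⟩ (mem_subgroupOf.mpr ⟨hv, c, hc, h.sylU.le ha⟩)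
    (Subtype.ext (sq hv hc haa)) (fun h1 => ne ha hc ha1 (congrArg Subtype.val h1)) ⟨w, hw⟩
    (mem_subgroupOf.mpr ⟨hw, d, hd, h.sylU.le hb⟩) (Subtype.ext (sq hw hd hbb))
    (fun h1 => ne hb hd hb1 (congrArg Subtype.val h1)) (Subtype.ext hvw)
    (fun h1 => hvne (congrArg Subtype.val h1))
  have hKN : K ≤ normalizer (L : Set G) := by
    intro x hx
    have h1 : (⟨x, hx⟩ : ↥K) ∈ (normalizer (L : Set G)).subgroupOf K := by rw [hD]; trivial
    exact mem_subgroupOf.mp h1
  -- `K ∩ C(L)` is normal in `K`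
  have hn : ((centralizer (L : Set G)).subgroupOf K).Normal := by
    refine ⟨?_⟩
    intro n hn g
    rw [mem_subgroupOf] at hn ⊢
    exact centralizer_conj_mem (hKN g.2) hn
  rcases hn.eq_bot_or_eq_top with h1 | h1
  · -- `[K, U] = 1`
    have hUC : v * c ∈ centralizer (K : Set G) := by
      rw [mem_centralizer_iff]
      intro x hx
      obtain ⟨h2, h3⟩ := commutator_mem hx (hKN hx) (h.sylU.le ha) (hUN ha)
      have h4 : (⟨x * (v * c) * x⁻¹ * (v * c)⁻¹, h2⟩ : ↥K) ∈ (centralizer (L : Set G)).subgroupOf K :=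
        mem_subgroupOf.mpr h3
      rw [h1, mem_bot] at h4
      have h5 : x * (v * c) * x⁻¹ * (v * c)⁻¹ = 1 := congrArg Subtype.val h4
      calc x * (v * c) = (x * (v * c) * x⁻¹ * (v * c)⁻¹) * ((v * c) * x) := by group
        _ = v * c * x := by rw [h5, one_mul]
    exact ha1 (eq_one_of_mem h ht ha hUC)
  · -- `[K, L] = 1`
    obtain ⟨g, hg, rfl⟩ := h.conj
    apply hstd.2.2.1 g (fun h2 => hg (mem_normalizer_of_cj_eq h2))
    rw [commutator_eq_bot_iff_le_centralizer]
    intro x hx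
    have h2 : (⟨x, hx⟩ : ↥K) ∈ (centralizer ((cj g K : Subgroup G) : Set G)).subgroupOf K := by rw [h1]; trivial
    exact mem_subgroupOf.mp h2

end

end Cfsg.Agent.OddHalf.D4.Spor
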