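import Mathlib
import Cfsg.Agent.OddHalf.D4.Start
import Cfsg.Agent.OddHalf.D4.Spor.Kill
import Cfsg.Agent.OddHalf.D4.Spor.Gam

/-!
# ODD half, D4: the rows from the sheets

`row_of_sheet`: `Cut.Row1 P` from `Sheet` for all groups with `P`. `rowsSpor`: `Cut.RowsSpor` from the sheets.
-/

set_option autoImplicit false

namespace Cfsg.Agent.OddHalf.D4.Spor

open Subgroup Cfsg Cfsg.Agent.OddHalf Cfsg.Agent.OddHalf.D4 Cfsg.Agent.OddHalf.D4.Basic

universe u

/-- the odd order theorem (S0205) -/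
def FTT : Prop := ∀ (H : Type u) [Group H] [Finite H], Odd (Nat.card H) → Group.IsSolvable H

/-- one central involution excludes strongly embedded subgroups (`NoSE.lean`) -/
def PSE : Prop := ∀ (X : Type u) [Group X] [Finite X] [IsSimpleGroup X], (∃ a b : X, a * b ≠ b * a) →
  (∀ S : Sylow 2 X, ∀ a ∈ S, a * a = 1 → a ≠ 1 → (∀ s ∈ S, s * a = a * s) →
    ∀ b ∈ S, b * b = 1 → b ≠ 1 → (∀ s ∈ S, s * b = b * s) → a = b) → NoSE X

theorem exists_not_comm {G : Type u} [Group G] {K : Subgroup G} (h : Iface.Std0 G K) :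
    ∃ a b : ↥K, a * b ≠ b * a := by
  by_contra hcon
  push Not at hcon
  apply h.quo_na
  refine ⟨⟨?_⟩⟩
  intro a b
  induction a using QuotientGroup.induction_on with
  | H a =>
    induction b using QuotientGroup.induction_on with
    | H b =>
      rw [← QuotientGroup.mk_mul, ← QuotientGroup.mk_mul, hcon a b]

theorem cen_of_center {G : Type u} [Group G] {K : Subgroup G} (hz : center ↥K = ⊥) :
    ∀ x ∈ K, x ∈ centralizer (K : Set G) → x = 1 := by
  intro x hx hxc
  have h1 : (⟨x, hx⟩ : ↥K) ∈ center ↥K := by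
    rw [mem_center_iff]
    intro y
    exact Subtype.ext (mem_centralizer_iff.mp hxc y y.2)
  rw [hz, mem_bot] at h1
  exact congrArg Subtype.val h1

/-- **A row from the sheets.** -/
theorem row_of_sheet (h1173 : Start.P1173.{u}) (hFT : FTT.{u}) (hse : PSE.{u})
    {P : (K : Type u) → [Group K] → Prop}
    (hS : ∀ (X : Type u) [Group X] [Finite X] [IsSimpleGroup X], P X → Sheet X) : Cut.Row1.{u} P := by
  intro G _ hG K hK hrk hz hP
  have := hG.fin
  have := Start.isSimple_of_center hK.simple hz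
  have hSK := hS ↥K hP
  have hF := hSK.autFacts hz (hse ↥K (exists_not_comm hK.toStd0) hSK.z1)
  have hD := Start.data hG hK hrk hz hF (h1173 G)
  obtain ⟨L, Q, U, hp⟩ := hD.pair
  exact false_of_sheet hFT hp hD.loc hSK hD.rk

/-- **A row from the sheets of kind (GAM).** -/
theorem row_of_gam (h1173 : Start.P1173.{u}) {P : (K : Type u) → [Group K] → Prop}
    (hS : ∀ (X : Type u) [Group X] [Finite X] [IsSimpleGroup X], P X → SheetG X) : Cut.Row1.{u} P := by
  intro G _ hG K hK hrk hz hP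
  have := hG.fin
  have := hG.simple
  have hs := Start.isSimple_of_center hK.simple hz
  have hSK := hS ↥K hP
  have hcen := cen_of_center hz
  obtain ⟨a, b, ha, hb, ha2, hb2, hab, hne⟩ := EvenPair.exists_two_of_not_pRankLE hrk
  have hperf : ⁅K, K⁆ = K := by
    have h1 : ⁅(⊤ : Subgroup ↥K), (⊤ : Subgroup ↥K)⁆ = ⊤ := hK.std.1.1.commutator_eq_top
    have h2 := congrArg (Subgroup.map K.subtype) h1
    rw [Subgroup.map_commutator, ← MonoidHom.range_eq_map, Subgroup.range_subtype] at h2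
    exact h2
  have hne' : K ≠ ⊥ := by
    rintro rfl
    have := hs.toNontrivial
    exact not_subsingleton ↥(⊥ : Subgroup G) inferInstance
  obtain ⟨L, Q, U, hp⟩ := exists_fullPair_of_inn (h1173 G (Start.oddCore_eq_bot ha2)) hK.std hcen hSK.inn hne' hperf
  exact false_of_gam hp hK.std hs hcen ⟨a, b, ha, hb, ha2, hb2, hab, hne⟩ hSK

/-- the sheet of every group isomorphic to a model -/
theorem sheet_of_model {Y : Type*} [Group Y] (h : Sheet Y) {X : Type*} [Group X] (e : Nonempty (X ≃* Y)) :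
    Sheet X := by
  obtain ⟨e⟩ := e
  exact Sheet.of_equiv e.symm h

theorem sheetG_of_model {Y : Type*} [Group Y] (h : SheetG Y) {X : Type*} [Group X] (e : Nonempty (X ≃* Y)) :
    SheetG X := by
  obtain ⟨e⟩ := e
  exact SheetG.of_equiv e.symm h

/-- The sheets of the sporadic groups (use `sheet_of_model` for a model). -/
structure Sheets : Prop where
  m11 : ∀ (X : Type u) [Group X], Spor.IsoM11 X → Sheet X
  m22 : ∀ (X : Type u) [Group X], Spor.IsoM22 X → Sheet X
  m23 : ∀ (X : Type u) [Group X], Spor.IsoM23 X → Sheet X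
  m24 : ∀ (X : Type u) [Group X], Spor.IsoM24 X → Sheet X
  j1 : ∀ (X : Type u) [Group X], Spor.IsoJ1 X → SheetG X
  j2 : ∀ (X : Type u) [Group X], Spor.IsoJ2 X → Sheet X
  j3 : ∀ (X : Type u) [Group X], Spor.IsoJ3 X → Sheet X
  j4 : ∀ (X : Type u) [Group X], Spor.IsoJ4 X → Sheet X
  co1 : ∀ (X : Type u) [Group X], Spor.IsoCo1 X → Sheet X
  co2 : ∀ (X : Type u) [Group X], Spor.IsoCo2 X → Sheet X
  co3 : ∀ (X : Type u) [Group X], Spor.IsoCo3 X → Sheet X
  hs : ∀ (X : Type u) [Group X], Spor.IsoHS X → Sheet X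
  suz : ∀ (X : Type u) [Group X], Spor.IsoSuz X → Sheet X
  he : ∀ (X : Type u) [Group X], Spor.IsoHe X → Sheet X
  ru : ∀ (X : Type u) [Group X], Spor.IsoRu X → Sheet X
  on : ∀ (X : Type u) [Group X], Spor.IsoON X → Sheet X
  fi22 : ∀ (X : Type u) [Group X], Spor.IsoFi22 X → Sheet X
  fi23 : ∀ (X : Type u) [Group X], Spor.IsoFi23 X → SheetG X
  fi24 : ∀ (X : Type u) [Group X], Spor.IsoFi24' X → Sheet X
  hn : ∀ (X : Type u) [Group X], Spor.IsoHN X → Sheet X
  th : ∀ (X : Type u) [Group X], Spor.IsoTh X → Sheet X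
  b : ∀ (X : Type u) [Group X], Spor.IsoB X → Sheet X
  m : ∀ (X : Type u) [Group X], Spor.IsoM X → Sheet X

/-- **The sporadic rows of D4.** -/
theorem rowsSpor (h1173 : Start.P1173.{u}) (hFT : FTT.{u}) (hse : PSE.{u}) (h : Sheets.{u}) : Cut.RowsSpor.{u} where
  m11 := row_of_sheet h1173 hFT hse fun X _ _ _ => h.m11 X
  m22 := row_of_sheet h1173 hFT hse fun X _ _ _ => h.m22 X
  m23 := row_of_sheet h1173 hFT hse fun X _ _ _ => h.m23 X
  m24 := row_of_sheet h1173 hFT hse fun X _ _ _ => h.m24 X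
  j1 := row_of_gam h1173 fun X _ _ _ => h.j1 X
  j2 := row_of_sheet h1173 hFT hse fun X _ _ _ => h.j2 X
  j3 := row_of_sheet h1173 hFT hse fun X _ _ _ => h.j3 X
  j4 := row_of_sheet h1173 hFT hse fun X _ _ _ => h.j4 X
  co1 := row_of_sheet h1173 hFT hse fun X _ _ _ => h.co1 X
  co2 := row_of_sheet h1173 hFT hse fun X _ _ _ => h.co2 X
  co3 := row_of_sheet h1173 hFT hse fun X _ _ _ => h.co3 X
  hs := row_of_sheet h1173 hFT hse fun X _ _ _ => h.hs X
  suz := row_of_sheet h1173 hFT hse fun X _ _ _ => h.suz X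
  he := row_of_sheet h1173 hFT hse fun X _ _ _ => h.he X
  ru := row_of_sheet h1173 hFT hse fun X _ _ _ => h.ru X
  on := row_of_sheet h1173 hFT hse fun X _ _ _ => h.on X
  fi22 := row_of_sheet h1173 hFT hse fun X _ _ _ => h.fi22 X
  fi23 := row_of_gam h1173 fun X _ _ _ => h.fi23 X
  fi24 := row_of_sheet h1173 hFT hse fun X _ _ _ => h.fi24 X
  hn := row_of_sheet h1173 hFT hse fun X _ _ _ => h.hn X
  th := row_of_sheet h1173 hFT hse fun X _ _ _ => h.th X
  b := row_of_sheet h1173 hFT hse fun X _ _ _ => h.b X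
  m := row_of_sheet h1173 hFT hse fun X _ _ _ => h.m X

end Cfsg.Agent.OddHalf.D4.Spor
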