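import Cfsg.Agent.KFacts.SuzLift.Perm
import Cfsg.Agent.KFacts.SuzLift.Two
import Cfsg.Agent.OddHalf.D4.EvenCyc
import Cfsg.Agent.OddHalf.D4.Cut

/-!
# ODD, D4: the row `K = 2.Suz`

`pairFree`, `sqDiff`: (P1) and (P2) for every perfect double cover of `Suz`; `suz`: the row of `D4.Cut.RowsCov`.
-/

set_option autoImplicit false
set_option maxRecDepth 100000

namespace Cfsg.Agent.OddHalf.D4.Spor.TwoSuz

open Subgroup Cfsg Cfsg.Spor Cfsg.Agent.KFacts Cfsg.Agent.KFacts.MulDef Cfsg.Agent.KFacts.SuzLift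
open Cfsg.Agent.SuzThree.CentA Cfsg.Agent.SuzThree.QZero
open Cfsg.Agent.SporRec.SuzCl (ia ie u7)
open Cfsg.Agent.KFacts.SuzRho (rho)

universe u

variable {L : Type u} [Group L] {π : L →* Suz} {c : L}

/-! ### Automorphisms of the cover -/

theorem center_cases (hD : Dbl π c) {x : L} (hx : ∀ y, x * y = y * x) : x = 1 ∨ x = c := by
  apply (hD.ker x).1
  apply SuzInvol.center_triv
  intro y
  obtain ⟨k, rfl⟩ := hD.surj y
  rw [← map_mul, hx, map_mul]

theorem map_c (hD : Dbl π c) (α : MulAut L) : α c = c := by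
  rcases center_cases hD (x := α c) (fun y => by
    have := congrArg α (hD.cen (α.symm y))
    rwa [map_mul, map_mul, MulEquiv.apply_symm_apply] at this) with h | h
  · exact absurd ((map_eq_one_iff α α.injective).1 h) hD.ne
  · exact h

theorem exists_bar (hD : Dbl π c) (α : MulAut L) : ∃ β : MulAut Suz, ∀ k, β (π k) = π (α k) := by
  apply D9.OuterOf.exists_quo π hD.surj
  intro k
  rw [hD.ker, hD.ker]
  constructor
  · rintro (rfl | rfl)
    · exact Or.inl (map_one α)
    · exact Or.inr (map_c hD α)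
  · rintro (h | h)
    · exact Or.inl ((map_eq_one_iff α α.injective).1 h)
    · exact Or.inr (α.injective (h.trans (map_c hD α).symm))

theorem eq_of_bar (hD : Dbl π c) {α α' : MulAut L} (h : ∀ k, π (α k) = π (α' k)) : α = α' := by
  have hp : ⁅(⊤ : Subgroup L), ⊤⁆ = ⊤ := hD.perf
  have h1 := D9.OuterOf.eq_of_central hp α.toMonoidHom α'.toMonoidHom (fun x _ => by
    apply Two.ker_central hD
    rw [map_mul, map_inv, inv_mul_eq_one]
    exact (h x).symm)
  ext x
  exact h1 x (mem_top x)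

/-! ### Elements of odd order -/

theorem c_pow (hD : Dbl π c) {n : ℕ} (hn : Odd n) : c ^ n = c := by
  obtain ⟨k, rfl⟩ := hn
  rw [pow_succ, pow_mul, pow_two, hD.sq, one_pow, one_mul]

theorem mul_c_pow (hD : Dbl π c) {n : ℕ} (hn : Odd n) (l : L) : (l * c) ^ n = l ^ n * c := by
  have h : Commute l c := (hD.cen l).symm
  rw [h.mul_pow, c_pow hD hn]

theorem exists_lift (hD : Dbl π c) {y : Suz} {n : ℕ} (hn : Odd n) (hy : y ^ n = 1) : ∃ l, π l = y ∧ l ^ n = 1 := by
  obtain ⟨l, rfl⟩ := hD.surj y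
  have h1 : π (l ^ n) = 1 := by rw [map_pow, hy]
  rcases (hD.ker _).1 h1 with h2 | h2
  · exact ⟨l, rfl, h2⟩
  · refine ⟨l * c, ?_, ?_⟩
    · rw [map_mul, (hD.ker c).2 (Or.inr rfl), mul_one]
    · rw [mul_c_pow hD hn, h2, hD.sq]

theorem fix_of_odd (hD : Dbl π c) {α : MulAut L} {n : ℕ} (hn : Odd n) {l : L} (hl : l ^ n = 1)
    (h : π (α l) = π l) : α l = l := by
  have h1 : π (l⁻¹ * α l) = 1 := by rw [map_mul, map_inv, h, inv_mul_cancel]
  rcases (hD.ker _).1 h1 with h2 | h2
  · rw [inv_mul_eq_one] at h2; exact h2.symm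
  · exfalso
    have h3 : α l = l * c := by rw [← h2, mul_inv_cancel_left]
    have h4 : (α l) ^ n = 1 := by rw [← map_pow, hl, map_one]
    rw [h3, mul_c_pow hD hn, hl, one_mul] at h4
    exact hD.ne h4

/-- `C(α) ≤ C(β)` gives the inclusion for the elements of odd order of `Suz` -/
theorem odd_incl (hD : Dbl π c) {α β : MulAut L} {a b : MulAut Suz} (ha : ∀ k, a (π k) = π (α k))
    (hb : ∀ k, b (π k) = π (β k)) (h : ∀ x, α x = x → β x = x) (y : Suz) (n : ℕ) (hn : Odd n) (hy : y ^ n = 1)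
    (hay : a y = y) : b y = y := by
  obtain ⟨l, rfl, hl⟩ := exists_lift hD hn hy
  rw [hb, h l (fix_of_odd hD hn hl (by rw [← ha, hay]))]

/-! ### Inner pairs -/

theorem conj_one_iff {s : Suz} : (MulAut.conj s : MulAut Suz) = 1 ↔ s = 1 :=
  ⟨SuzInvol.conj_eq_one, fun h => by rw [h, map_one]⟩

theorem comm_of_a (hD : Dbl π c) {x y : L} {g : Suz} (hx : π x = g * ia * g⁻¹) (hy : π y * π x = π x * π y) :
    x * y = y * x := by
  obtain ⟨h, rfl⟩ := hD.surj g
  have h1 := Two.comm_lift hD (x := h⁻¹ * x * h) (y := h⁻¹ * y * h)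
    (by rw [map_mul, map_mul, map_inv, hx, SuzY.z0_eq]; group)
    (by
      have e : z0 = (π h)⁻¹ * π x * π h := by rw [hx, SuzY.z0_eq]; group
      rw [e, map_mul, map_mul, map_inv]
      calc (π h)⁻¹ * π y * π h * ((π h)⁻¹ * π x * π h) = (π h)⁻¹ * (π y * π x) * π h := by group
        _ = (π h)⁻¹ * (π x * π y) * π h := by rw [hy]
        _ = _ := by group)
  calc x * y = h * ((h⁻¹ * x * h) * (h⁻¹ * y * h)) * h⁻¹ := by group
    _ = h * ((h⁻¹ * y * h) * (h⁻¹ * x * h)) * h⁻¹ := by rw [h1]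
    _ = y * x := by group

/-- **(I)** both automorphisms inner -/
theorem no_inner (hD : Dbl π c) {k m : L} (k2 : π k * π k = 1) (m2 : π m * π m = 1) (k1 : π k ≠ 1) (m1 : π m ≠ 1)
    (hne : π k ≠ π m) (h : ∀ x, k * x = x * k → m * x = x * m) : False := by
  have hcm : m * k = k * m := h k rfl
  rcases SporRec.SuzCl.two (π k) k2 k1 with ⟨g, hg⟩ | ⟨g, hg⟩
  · -- class 2A
    have h1 : ∀ y ∈ Q0, y * (g⁻¹ * π m * g) = (g⁻¹ * π m * g) * y := by
      intro y hy
      obtain ⟨x, hx⟩ := hD.surj (g * y * g⁻¹)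
      have hyC := mem_C1.1 (Q0_le hy)
      have h2 : k * x = x * k := by
        apply comm_of_a hD (g := g) hg.symm
        rw [hx, ← hg, ← SuzY.z0_eq]
        calc g * y * g⁻¹ * (g * z0 * g⁻¹) = g * (y * z0) * g⁻¹ := by group
          _ = g * (z0 * y) * g⁻¹ := by rw [hyC]
          _ = _ := by group
      have h3 := congrArg π (h x h2)
      rw [map_mul, map_mul, hx] at h3
      calc y * (g⁻¹ * π m * g) = g⁻¹ * ((g * y * g⁻¹) * π m) * g := by group
        _ = g⁻¹ * (π m * (g * y * g⁻¹)) * g := by rw [h3]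
        _ = _ := by group
    rcases SuzR.centralizer_R h1 with h2 | h2
    · apply m1
      calc π m = g * (g⁻¹ * π m * g) * g⁻¹ := by group
        _ = 1 := by rw [h2]; group
    · apply hne
      calc π k = g * z0 * g⁻¹ := by rw [← hg, SuzY.z0_eq]
        _ = g * (g⁻¹ * π m * g) * g⁻¹ := by rw [h2]
        _ = π m := by group
  · -- class 2B
    have hpcm : π m * π k = π k * π m := by rw [← map_mul, hcm, map_mul]
    have h7 : (g * u7 * g⁻¹) ^ 7 = 1 := by rw [conj_pow, SporRec.SuzCl.u7_pow]; group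
    have hF : (SporRec.SuzCl.Fx (g * u7 * g⁻¹)).card ≤ 4 := by
      rw [SporRec.SuzCl.card_Fx_conj]; exact Perm.card_u7
    have hk7 : (g * u7 * g⁻¹) * π k = π k * (g * u7 * g⁻¹) := by
      rw [← hg]
      calc g * u7 * g⁻¹ * (g * ie * g⁻¹) = g * (u7 * ie) * g⁻¹ := by group
        _ = g * (ie * u7) * g⁻¹ := by rw [SporRec.SuzCl.u7_comm]
        _ = _ := by group
    obtain ⟨l, hl, hl7⟩ := exists_lift hD (by decide : Odd 7) h7
    have hkl : k * l = l * k := by
      have h2 := fix_of_odd hD (α := MulAut.conj k) (by decide : Odd 7) hl7 (by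
        rw [MulAut.conj_apply, map_mul, map_mul, map_inv, hl, ← hk7, mul_inv_cancel_right])
      rw [MulAut.conj_apply] at h2
      exact mul_inv_eq_iff_eq_mul.1 h2
    have hm7 : (g * u7 * g⁻¹) * π m = π m * (g * u7 * g⁻¹) := by
      have h2 := congrArg π (h l hkl)
      rw [map_mul, map_mul, hl] at h2
      exact h2.symm
    have hmk7 : (g * u7 * g⁻¹) * π (m * k) = π (m * k) * (g * u7 * g⁻¹) := by
      rw [map_mul]
      calc (g * u7 * g⁻¹) * (π m * π k) = ((g * u7 * g⁻¹) * π m) * π k := by group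
        _ = (π m * (g * u7 * g⁻¹)) * π k := by rw [hm7]
        _ = π m * ((g * u7 * g⁻¹) * π k) := by group
        _ = π m * (π k * (g * u7 * g⁻¹)) := by rw [hk7]
        _ = _ := by group
    have hmk2 : π (m * k) * π (m * k) = 1 := by
      rw [map_mul]
      calc π m * π k * (π m * π k) = π m * (π k * π m) * π k := by group
        _ = π m * (π m * π k) * π k := by rw [hpcm]
        _ = (π m * π m) * (π k * π k) := by group
        _ = 1 := by rw [m2, k2, one_mul]
    have hmk1 : π (m * k) ≠ 1 := by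
      intro h1
      apply hne
      rw [map_mul] at h1
      calc π k = π m * π m * π k := by rw [m2, one_mul]
        _ = π m * (π m * π k) := by group
        _ = π m := by rw [h1, mul_one]
    obtain ⟨g1, hg1⟩ := Perm.two_b_of_seven m2 m1 h7 hm7 hF
    obtain ⟨g2, hg2⟩ := Perm.two_b_of_seven hmk2 hmk1 h7 hmk7 hF
    have s0 : k * k = c := Sq.sq_of_e hD hg.symm
    have s1 : m * m = c := Sq.sq_of_e hD hg1.symm
    have s2 : m * k * (m * k) = c := Sq.sq_of_e hD hg2.symm
    apply hD.ne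
    calc c = m * k * (m * k) := s2.symm
      _ = m * (k * m) * k := by group
      _ = m * (m * k) * k := by rw [hcm]
      _ = (m * m) * (k * k) := by group
      _ = 1 := by rw [s0, s1, hD.sq]

/-! ### (P1) -/

/-- **(P1) for `2.Suz`.** -/
theorem pairFree (hD : Dbl π c) : EvenCyc.PairFree L := by
  intro α β hα hβ hαβ hα1 hβ1 hne hC1 hC2
  obtain ⟨a, ha⟩ := exists_bar hD α
  obtain ⟨b, hb⟩ := exists_bar hD β
  have hαα : ∀ k, α (α k) = k := fun k => DFunLike.congr_fun hα k
  have hββ : ∀ k, β (β k) = k := fun k => DFunLike.congr_fun hβ k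
  have hcomm : ∀ k, α (β k) = β (α k) := fun k => DFunLike.congr_fun hαβ k
  have haa : ∀ y, a (a y) = y := by
    intro y; obtain ⟨k, rfl⟩ := hD.surj y
    rw [ha, ha, hαα]
  have hbb : ∀ y, b (b y) = y := by
    intro y; obtain ⟨k, rfl⟩ := hD.surj y
    rw [hb, hb, hββ]
  have hab' : ∀ y, a (b y) = b (a y) := by
    intro y; obtain ⟨k, rfl⟩ := hD.surj y
    rw [hb, ha, ha, hb, hcomm]
  have ha2 : a * a = 1 := by ext y; exact haa y
  have hab2 : (a * b) * (a * b) = 1 := by
    ext y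
    show a (b (a (b y))) = y
    rw [← hab' (b y), hbb, haa]
  have ha1 : a ≠ 1 := by
    rintro rfl
    apply hα1
    apply eq_of_bar hD
    intro k
    rw [← ha]; rfl
  have hb1 : b ≠ 1 := by
    rintro rfl
    apply hβ1
    apply eq_of_bar hD
    intro k
    rw [← hb]; rfl
  have hab1 : a ≠ b := by
    rintro rfl
    apply hne
    apply eq_of_bar hD
    intro k
    rw [← hb, ← ha]
  have hab : ∀ k, (a * b) (π k) = π ((α * β) k) := by
    intro k
    rw [MulAut.mul_apply, hb, ha, MulAut.mul_apply]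
  have i1 := odd_incl hD ha hb hC1
  have i2 := odd_incl hD hab hb (fun x hx => hC2 x hx)
  have hcj : ∀ s y : Suz, MulAut.conj s y = y → y * s = s * y := by
    intro s y h
    rw [MulAut.conj_apply, mul_inv_eq_iff_eq_mul] at h
    exact h.symm
  have hsq : ∀ s : Suz, (MulAut.conj s : MulAut Suz) * MulAut.conj s = 1 → s * s = 1 := by
    intro s h
    rw [← map_mul] at h
    exact conj_one_iff.1 h
  by_cases hai : ∃ s, a = MulAut.conj s
  · obtain ⟨s, hs⟩ := hai
    have s2 : s * s = 1 := hsq s (by rw [← hs]; exact ha2)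
    have s1 : s ≠ 1 := by
      rintro rfl
      exact ha1 (by rw [hs, map_one])
    by_cases hbi : ∃ r, b = MulAut.conj r
    · obtain ⟨r, hr⟩ := hbi
      obtain ⟨k, rfl⟩ := hD.surj s
      obtain ⟨m, rfl⟩ := hD.surj r
      have r2 : π m * π m = 1 := hsq _ (by rw [← hr]; ext y; exact hbb y)
      have r1 : π m ≠ 1 := by
        intro h
        exact hb1 (by rw [hr, h, map_one])
      have ea : α = MulAut.conj k := by
        apply eq_of_bar hD
        intro x
        rw [← ha, hs, MulAut.conj_apply, MulAut.conj_apply, map_mul, map_mul, map_inv]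
      have eb : β = MulAut.conj m := by
        apply eq_of_bar hD
        intro x
        rw [← hb, hr, MulAut.conj_apply, MulAut.conj_apply, map_mul, map_mul, map_inv]
      refine no_inner hD s2 r2 s1 r1 (fun h => hab1 (by rw [hs, hr, h])) ?_
      intro x hx
      have h1 := hC1 x (by rw [ea, MulAut.conj_apply, hx, mul_inv_cancel_right])
      rw [eb, MulAut.conj_apply] at h1
      exact mul_inv_eq_iff_eq_mul.1 h1
    · refine Perm.outer_claim (γ := a * b) hab2 ?_ s2 s1 ?_
      · intro t ht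
        apply hbi
        refine ⟨s⁻¹ * t, ?_⟩
        rw [map_mul, map_inv, ← hs, ← ht, inv_mul_cancel_left]
      · intro y n hn hy hy'
        apply hcj
        rw [← hs]
        have h1 := i2 y n hn hy hy'
        have h2 : a (b y) = y := hy'
        rw [h1] at h2
        exact h2
  · have hai' : ∀ s, a ≠ MulAut.conj s := fun s hs => hai ⟨s, hs⟩
    by_cases hbi : ∃ r, b = MulAut.conj r
    · obtain ⟨r, hr⟩ := hbi
      have r2 : r * r = 1 := hsq r (by rw [← hr]; ext y; exact hbb y)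
      have r1 : r ≠ 1 := by
        rintro rfl
        exact hb1 (by rw [hr, map_one])
      refine Perm.outer_claim ha2 hai' r2 r1 ?_
      intro y n hn hy hy'
      apply hcj
      rw [← hr]
      exact i1 y n hn hy hy'
    · have hbi' : ∀ s, b ≠ MulAut.conj s := fun s hs => hbi ⟨s, hs⟩
      have hti : ∃ t, a * b = MulAut.conj t := by
        rcases SuzOut.out_two a b with ⟨s, hs⟩ | ⟨s, hs⟩ | ⟨s, hs⟩
        · exact absurd hs.symm (hai' s)
        · exact absurd hs.symm (hbi' s)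
        · refine ⟨s, ?_⟩
          rw [hs, inv_eq_of_mul_eq_one_left ha2]
      obtain ⟨t, ht⟩ := hti
      have t2 : t * t = 1 := hsq t (by rw [← ht]; exact hab2)
      have t1 : t ≠ 1 := by
        rintro rfl
        apply hab1
        rw [map_one] at ht
        calc a = a * (b * b) := by
              have : b * b = 1 := by ext y; exact hbb y
              rw [this, mul_one]
          _ = b := by rw [← mul_assoc, ht, one_mul]
      refine Perm.outer_claim ha2 hai' t2 t1 ?_
      intro y n hn hy hy'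
      apply hcj
      rw [← ht, MulAut.mul_apply, i1 y n hn hy hy', hy']

/-! ### (P2) -/

/-- some `a(y)⁻¹ y` is of class 2A -/
theorem exists_dif {a : MulAut Suz} (ha2 : a * a = 1) (ha1 : a ≠ 1) : ∃ y g : Suz, g * ia * g⁻¹ = (a y)⁻¹ * y := by
  have key : ∀ (τ : MulAut Suz) (g y : Suz), a = MulAut.conj g * τ * (MulAut.conj g)⁻¹ →
      (∃ h, h * ia * h⁻¹ = (τ y)⁻¹ * y) → ∃ y g : Suz, g * ia * g⁻¹ = (a y)⁻¹ * y := by
    rintro τ g y hτ ⟨h, hh⟩
    refine ⟨g * y * g⁻¹, g * h, ?_⟩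
    have h1 : a (g * y * g⁻¹) = g * τ y * g⁻¹ := by
      rw [hτ, ← map_inv, MulAut.mul_apply, MulAut.mul_apply, MulAut.conj_apply, MulAut.conj_apply, inv_inv]
      have e : g⁻¹ * (g * y * g⁻¹) * g = y := by group
      rw [e]
    rw [h1]
    calc g * h * ia * (g * h)⁻¹ = g * (h * ia * h⁻¹) * g⁻¹ := by group
      _ = g * ((τ y)⁻¹ * y) * g⁻¹ := by rw [hh]
      _ = _ := by group
  by_cases hai : ∃ s, a = MulAut.conj s
  · obtain ⟨s, hs⟩ := hai
    have s2 : s * s = 1 := by
      rw [hs, ← map_mul] at ha2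
      exact conj_one_iff.1 ha2
    have s1 : s ≠ 1 := by
      rintro rfl
      exact ha1 (by rw [hs, map_one])
    rcases SporRec.SuzCl.two s s2 s1 with ⟨g, hg⟩ | ⟨g, hg⟩
    · refine key (MulAut.conj ia) g SuzOut.n0⁻¹ (by rw [hs, ← hg, map_mul, map_mul, map_inv]) ?_
      have haa : ia⁻¹ = ia := inv_eq_of_mul_eq_one_left SporRec.SuzCl.aa
      have hC : SuzOut.n0 * ia * SuzOut.n0⁻¹ ∈ C1 := by
        have := Q0_le SuzOut.n0_in
        rwa [SuzY.z0_eq] at this
      obtain ⟨h, hh⟩ := SporRec.SuzCl.comm ia (SuzOut.n0 * ia * SuzOut.n0⁻¹) ⟨1, by group⟩ ⟨SuzOut.n0, rfl⟩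
        (fun h => SuzOut.n0_ne (by rw [SuzY.z0_eq]; exact h.symm)) (by
          have := mem_C1.1 hC
          rw [SuzY.z0_eq] at this
          exact this.symm)
      refine ⟨h, ?_⟩
      rw [hh, MulAut.conj_apply]
      calc ia * (SuzOut.n0 * ia * SuzOut.n0⁻¹) = ia * SuzOut.n0 * ia⁻¹ * SuzOut.n0⁻¹ := by rw [haa]; group
        _ = _ := by group
    · exact key (MulAut.conj ie) g _ (by rw [hs, ← hg, map_mul, map_mul, map_inv]) Perm.dif_e_two
  · rcases SuzInvol.outer ha2 (fun s hs => hai ⟨s, hs⟩) with ⟨g, hg⟩ | ⟨g, hg⟩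
    · exact key _ g _ hg ⟨1, by rw [Perm.dif_rho]; group⟩
    · exact key _ g _ hg ⟨1, by rw [Perm.dif_rhoe]; group⟩

/-- **(P2) for `2.Suz`.** -/
theorem sqDiff (hD : Dbl π c) : EvenCyc.SqDiff L := by
  intro α hα hα1
  obtain ⟨a, ha⟩ := exists_bar hD α
  have hαα : ∀ k, α (α k) = k := fun k => DFunLike.congr_fun hα k
  have ha2 : a * a = 1 := by
    ext y; obtain ⟨k, rfl⟩ := hD.surj y
    show a (a (π k)) = π k
    rw [ha, ha, hαα]
  have ha1 : a ≠ 1 := by
    rintro rfl
    apply hα1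
    apply eq_of_bar hD
    intro k
    rw [← ha]; rfl
  obtain ⟨y, g, hg⟩ := exists_dif ha2 ha1
  obtain ⟨x, rfl⟩ := hD.surj y
  have h1 : π ((α x)⁻¹ * x) = g * ia * g⁻¹ := by rw [map_mul, map_inv, ← ha, hg]
  refine ⟨x, ?_, Two.sq_of_a hD h1⟩
  intro hc
  have h2 : π ((α x)⁻¹ * x) = 1 := by
    apply SuzInvol.center_triv
    intro y
    obtain ⟨k, rfl⟩ := hD.surj y
    rw [← map_mul, ← map_mul, (mem_center_iff.1 hc k).symm]
  rw [h1] at h2
  apply SporRec.SuzCl.a_ne
  calc ia = g⁻¹ * (g * ia * g⁻¹) * g := by group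
    _ = 1 := by rw [h2]; group

/-! ### The row -/

theorem mem_center_iff_of_card (h2 : Nat.card ↥(center L) = 2) {c : L} (hc : c ∈ center L) (hc1 : c ≠ 1) (x : L) :
    x ∈ center L ↔ x = 1 ∨ x = c := by
  constructor
  · intro hx
    by_cases hx1 : x = 1
    · exact Or.inl hx1
    · right
      obtain ⟨z, hz1, hz2⟩ := (Nat.card_eq_two_iff' (1 : center L)).1 h2
      have e1 := hz2 ⟨x, hx⟩ (fun h => hx1 (congrArg Subtype.val h))
      have e2 := hz2 ⟨c, hc⟩ (fun h => hc1 (congrArg Subtype.val h))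
      exact congrArg Subtype.val (e1.trans e2.symm)
  · rintro (rfl | rfl)
    · exact one_mem _
    · exact hc

/-- the double cover -/
theorem exists_dbl (hp : commutator L = ⊤) (h2 : Nat.card ↥(center L) = 2) (hS : IsoSuz (L ⧸ center L)) :
    ∃ (π : L →* Suz) (c : L), Dbl π c := by
  obtain ⟨e⟩ := hS
  obtain ⟨z, hz1, -⟩ := (Nat.card_eq_two_iff' (1 : center L)).1 h2
  have hc : (z : L) ∈ center L := z.2
  have hc1 : (z : L) ≠ 1 := fun h => hz1 (Subtype.ext h)
  have hm := mem_center_iff_of_card h2 hc hc1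
  refine ⟨e.toMonoidHom.comp (QuotientGroup.mk' (center L)), z, ⟨⟨hc1, ?_, ?_, hp⟩,
    e.surjective.comp (QuotientGroup.mk'_surjective _), ?_⟩⟩
  · rcases (hm (z * z)).1 (mul_mem hc hc) with h | h
    · exact h
    · exact absurd (mul_eq_left.1 h) hc1
  · intro x
    exact (mem_center_iff.1 hc x).symm
  · intro x
    show e (x : L ⧸ center L) = 1 ↔ _
    rw [e.map_eq_one_iff, QuotientGroup.eq_one_iff, hm]

/-- **The row `K = 2.Suz` of D4.** -/
theorem suz : Cut.Row0.{u} (fun K _ => D9.Cut.Two (fun X _ => IsoSuz X) K) := by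
  rintro G _ C K S hr ⟨h2, hS⟩
  obtain ⟨π, c, hD⟩ := exists_dbl (Cut.quasisimple S).1.commutator_eq_top h2 hS
  have hcyc : IsCyclic ↥(center ↥K) := by
    haveI : Fact (Nat.Prime 2) := ⟨Nat.prime_two⟩
    exact isCyclic_of_prime_card h2
  have hne : center ↥K ≠ ⊥ := by
    intro h
    rw [h, card_bot] at h2
    omega
  exact hr (EvenCyc.row C S hcyc hne (pairFree hD) (sqDiff hD))

end Cfsg.Agent.OddHalf.D4.Spor.TwoSuz
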