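import Cfsg.Agent.Co2Type.Quad
import Cfsg.Agent.KFacts.AutLarge

/-!
# A Sylow subgroup fixing a class of `Q/⟨z⟩` (helper865)

`Q` large extraspecial (`Large Q z`), `Q ≤ E ≤ C(z)`, `E` a 2-group whose only fixed vector on `Q/⟨z⟩` is the class of
`x₀`. Then some Sylow 2-subgroup `S` centralises `z` and normalises `{x₀, x₀ z}`.
-/

set_option autoImplicit false

namespace Cfsg.Agent.OddHalf.D4.Spor.LargeSyl

open Subgroup Cfsg.Agent.Co2Type.Quad Cfsg.Agent.KFacts.AutLarge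

variable {K : Type*} [Group K] {Q : Subgroup K} {z : K}

theorem exists_sylow_fix [Finite K] (h : Large Q z) {E : Subgroup K} (hE : IsPGroup 2 E) (hQE : Q ≤ E)
    (hne : ∃ x ∈ Q, x ≠ 1 ∧ x ≠ z) {x₀ : K}
    (hfix : ∀ y ∈ Q, (∀ e ∈ E, Eqz z (e * y * e⁻¹) y) → Eqz z y 1 ∨ Eqz z y x₀) :
    ∃ S : Sylow 2 K, (∀ s ∈ S, s * z = z * s) ∧ ∀ s ∈ S, Eqz z (s * x₀ * s⁻¹) x₀ := by
  have : Fact (Nat.Prime 2) := ⟨Nat.prime_two⟩
  obtain ⟨S, hS⟩ := hE.exists_le_sylow
  have hQS : Q ≤ S := hQE.trans hS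
  -- `z` is central in `S`
  have hzS : ∀ s ∈ S, s * z = z * s := by
    have : Nontrivial ↥S := ⟨⟨⟨z, hQS h.z_mem⟩, 1, fun e => h.z_ne (congrArg Subtype.val e)⟩⟩
    obtain ⟨w, hwc', hw⟩ := (nontrivial_iff_exists_ne_one (center ↥S)).1 (S.isPGroup'.center_nontrivial)
    have hwc : ∀ s ∈ S, s * (w : K) = w * s := fun s hs =>
      congrArg Subtype.val (mem_center_iff.1 hwc' ⟨s, hs⟩)
    have hwQ : (w : K) ∈ Q := h.self _ (hwc z (hQS h.z_mem)).symm fun y hy => (hwc y (hQS hy)).symm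
    rcases h.cent _ hwQ (fun y hy => (hwc y (hQS hy)).symm) with e | e
    · exact absurd (Subtype.ext e) hw
    · rw [← e]; exact hwc
  refine ⟨S, hzS, ?_⟩
  have hc : ∀ s : ↥S, (s : K) ∈ centralizer ({z} : Set K) := fun s => mem_centralizer_singleton_iff.2 (hzS s s.2)
  let act : MulAction ↥S h.V :=
    { smul := fun s v => h.act ⟨s, hc s⟩ v
      one_smul := fun v => by
        show h.act ⟨((1 : ↥S) : K), hc 1⟩ v = v
        have e : (⟨((1 : ↥S) : K), hc 1⟩ : centralizer ({z} : Set K)) = 1 := rfl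
        rw [e, map_one]; rfl
      mul_smul := fun s t v => by
        show h.act ⟨((s * t : ↥S) : K), hc _⟩ v = h.act ⟨s, hc s⟩ (h.act ⟨t, hc t⟩ v)
        have e : (⟨((s * t : ↥S) : K), hc _⟩ : centralizer ({z} : Set K)) = ⟨s, hc s⟩ * ⟨t, hc t⟩ := rfl
        rw [e, map_mul]; rfl }
  have hfin : Finite h.V := Finite.of_surjective _ h.pr_surjective
  have hsm : ∀ (s : ↥S) (v : h.V), s • v = h.act ⟨s, hc s⟩ v := fun _ _ => rfl
  have h2 : 2 ∣ Nat.card h.V := by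
    obtain ⟨n, hn⟩ := IsPGroup.iff_card.mp (hE.to_le hQE)
    obtain ⟨x, hx, hx1, hxz⟩ := hne
    have h3 : 1 < Nat.card h.V := Finite.one_lt_card_iff_nontrivial.mpr
      ⟨⟨h.pr ⟨x, hx⟩, 0, fun e => by
        rcases h.pr_eq_zero.1 e with e | e
        · exact hx1 e
        · exact hxz e⟩⟩
    have h4 := h.card_eq
    rw [hn] at h4
    rcases n with _ | n
    · omega
    · rw [pow_succ, mul_comm] at h4
      have h5 : 2 ^ n = Nat.card h.V := by omega
      rcases n with _ | n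
      · rw [pow_zero] at h5; omega
      · rw [← h5]; exact dvd_pow_self 2 (Nat.succ_ne_zero n)
  obtain ⟨v, hv, hv0⟩ := S.isPGroup'.exists_fixed_point_of_prime_dvd_card_of_fixed_point h.V h2
    (a := (0 : h.V)) (fun s => by rw [hsm, map_zero])
  obtain ⟨y, rfl⟩ := h.pr_surjective v
  have hfx : ∀ s (hs : s ∈ S), Eqz z (s * y * s⁻¹) y := by
    intro s hs
    have h3 := hv ⟨s, hs⟩
    rw [hsm, h.act_pr, h.pr_eq_pr] at h3
    exact h3
  rcases hfix y y.2 (fun e he => hfx e (hS he)) with h3 | h3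
  · exfalso
    apply hv0
    rw [eq_comm, h.pr_eq_zero]
    rcases h3 with h3 | h3
    · exact Or.inl h3
    · exact Or.inr (by rw [h3, one_mul])
  · intro s hs
    exact (((h3.symm h).conj (hzS s hs)).trans h (hfx s hs)).trans h h3

end Cfsg.Agent.OddHalf.D4.Spor.LargeSyl
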