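import Cfsg.Agent.OddHalf.D4.Spor.LatTwo

/-!
# The commutators of an involution of `Co0` fixing a minimal vector `u`, on `evn u / rad u`

`exists_move` : `[evn u / rad u, g]` is not contained in a group of order 4.
-/

set_option autoImplicit false

namespace Cfsg.Agent.OddHalf.D4.Spor.LatMove

open Cfsg Cfsg.Agent Cfsg.Agent.BabyM.CoTwoMod Cfsg.Agent.SporadicStructure.Co2RankThree
open Cfsg.Agent.SporadicA Cfsg.Agent.SporadicA.Co0Mono Cfsg.Agent.SporadicA.Xi
open Cfsg.Agent.OddHalf.D4.Spor.LatTwo Cfsg.Agent.Leech.Code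
open Cfsg.Agent.MonsterU.SmallComm (Fx mem_Fx res mem_Fx_sign Fx_sign_le res_apply word_mem L1 mem_L1)

/-! ### The sextet -/

/-- the coefficients of the words `T₀ ∪ T_k` (empty for `k = 0`) -/
def b (k t : Fin 6) : ℤ := if k = 0 then 0 else if t = 0 ∨ t = k then 1 else 0

theorem b_add : ∀ k l t : Fin 6, k ≠ l → (b k t - b l t) % 2 = if t = k ∨ t = l then 1 else 0 := by decide

theorem odd_cut {T : GolayPt → Fin 6} (hT : IsSextet T) {C : Finset GolayPt} (hC : C ∈ Words)
    (h0 : Odd (fib T 0 ∩ C).card) (k : Fin 6) : Odd (fib T k ∩ C).card := by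
  by_cases hk : k = 0
  · rw [hk]; exact h0
  have h1 := even_inter (hT.code 0 k (Ne.symm hk)) hC
  have h2 : ((fib T 0 ∪ fib T k) ∩ C).card = (fib T 0 ∩ C).card + (fib T k ∩ C).card := by
    rw [Finset.union_inter_distrib_right, Finset.card_union_of_disjoint]
    rw [Finset.disjoint_left]
    intro x hx hx'
    rw [Finset.mem_inter, mem_fib] at hx hx'
    exact hk (hx'.1.symm.trans hx.1)
  rw [h2] at h1
  rcases Nat.even_or_odd (fib T k ∩ C).card with h3 | h3
  · exfalso
    have h4 := (Nat.even_add.1 h1).2 h3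
    exact (Nat.not_even_iff_odd.2 h0) h4
  · exact h3

theorem not_mem_words {T : GolayPt → Fin 6} (hT : IsSextet T) {C : Finset GolayPt} (hC : C ∈ Words)
    (h0 : Odd (fib T 0 ∩ C).card) {k l : Fin 6} : (fib T k ∪ fib T l) ∩ C ∉ Words := by
  intro hmem
  have hk := odd_cut hT hC h0 k
  have hl := odd_cut hT hC h0 l
  have bd : ∀ m : Fin 6, Odd (fib T m ∩ C).card → (fib T m ∩ C).card ≤ 3 := by
    intro m hm
    have h1 : (fib T m ∩ C).card ≤ (fib T m).card := Finset.card_le_card Finset.inter_subset_left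
    rw [hT.card m] at h1
    rcases Nat.lt_or_ge (fib T m ∩ C).card 4 with h2 | h2
    · omega
    · have h3 : (fib T m ∩ C).card = 4 := by omega
      rw [h3] at hm
      exact absurd hm (by decide)
  have hne : ((fib T k ∪ fib T l) ∩ C).Nonempty := by
    obtain ⟨x, hx⟩ := Finset.card_pos.1 hk.pos
    rw [Finset.mem_inter] at hx
    exact ⟨x, Finset.mem_inter.2 ⟨Finset.mem_union_left _ hx.1, hx.2⟩⟩
  have h8 := eight_le_card hmem hne
  have h1 : ((fib T k ∪ fib T l) ∩ C).card ≤ (fib T k ∩ C).card + (fib T l ∩ C).card := by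
    rw [Finset.union_inter_distrib_right]
    exact Finset.card_union_le _ _
  have := bd k hk
  have := bd l hl
  omega

theorem exists_base {c : golayCode} {i j : GolayPt} (hi : (c : GolayPt → ZMod 2) i ≠ 0)
    (hj : (c : GolayPt → ZMod 2) j = 0) :
    ∃ T : GolayPt → Fin 6, IsSextet T ∧ Odd (fib T 0 ∩ support₂ (c : GolayPt → ZMod 2)).card := by
  have hC := support₂_mem c.2
  have hiC : i ∈ support₂ (c : GolayPt → ZMod 2) := (mem_support₂ _ _).2 hi
  have h8 := eight_le_card (compl_mem hC) ⟨j, by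
    rw [Finset.mem_compl, mem_support₂]
    exact fun h => h hj⟩
  obtain ⟨S, hS, hS3⟩ := Finset.exists_subset_card_eq (s := (support₂ (c : GolayPt → ZMod 2))ᶜ) (n := 3) (by omega)
  have hiS : i ∉ S := fun h => (Finset.mem_compl.1 (hS h)) hiC
  obtain ⟨T, hT, h0⟩ := XiSextet.exists_isSextet steiner (insert i S) (by
    rw [Finset.card_insert_of_notMem hiS, hS3])
  refine ⟨T, hT, ?_⟩
  rw [h0]
  have : insert i S ∩ support₂ (c : GolayPt → ZMod 2) = {i} := by
    ext x
    rw [Finset.mem_inter, Finset.mem_insert, Finset.mem_singleton]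
    constructor
    · rintro ⟨rfl | hx, hxC⟩
      · rfl
      · exact ((Finset.mem_compl.1 (hS hx)) hxC).elim
    · rintro rfl
      exact ⟨Or.inl rfl, hiC⟩
  rw [this, Finset.card_singleton]
  exact odd_one

/-- the vector `2` on the word `T₀ ∪ T_k` -/
theorem exists_vec {T : GolayPt → Fin 6} (hT : IsSextet T) (k : Fin 6) :
    ∃ v : leechLattice, ∀ m, (v : GolayPt → ℤ) m = 2 * b k (T m) := by
  by_cases hk : k = 0
  · refine ⟨0, fun m => ?_⟩
    rw [b, if_pos hk]
    rfl
  · obtain ⟨v, hv⟩ := Cfsg.Agent.MonsterU.SmallComm.exists_two (hT.code 0 k (Ne.symm hk))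
    refine ⟨v, fun m => ?_⟩
    rw [hv, b, if_neg hk]
    by_cases hm : T m = 0 ∨ T m = k
    · rw [if_pos hm, if_pos (by rwa [Finset.mem_union, mem_fib, mem_fib])]
      norm_num
    · rw [if_neg hm, if_neg (by rwa [Finset.mem_union, mem_fib, mem_fib])]
      norm_num

/-! ### 24 vectors incongruent modulo the fixed vectors -/

theorem exists_many {c : golayCode} {i j : GolayPt} (hi : (c : GolayPt → ZMod 2) i ≠ 0)
    (hj : (c : GolayPt → ZMod 2) j = 0) : ∃ F : Fin 6 × Bool × Bool → leechLattice,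
      ∀ s t, F s - F t ∈ Fx (signCo0 c) → s = t := by
  have hij : i ≠ j := by rintro rfl; exact hi hj
  obtain ⟨T, hT, h0⟩ := exists_base hi hj
  choose v hv using exists_vec hT
  obtain ⟨p, hp⟩ := Cfsg.Agent.MonsterU.SmallComm.exists_four i j
  have hu0 : ∀ m, (u0 : GolayPt → ℤ) m % 2 = 1 := by
    intro m
    rcases m with _ | s
    · rw [coe_u0_none]; rfl
    · rw [coe_u0_some]; rfl
  let bi : Bool → ℤ := fun x => if x then 1 else 0
  refine ⟨fun s => v s.1 + (bi s.2.1) • p + (bi s.2.2) • u0, ?_⟩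
  rintro ⟨k, a, e⟩ ⟨l, a', e'⟩ hF
  have co : ∀ m, ((v k + bi a • p + bi e • u0 - (v l + bi a' • p + bi e' • u0) : leechLattice) : GolayPt → ℤ) m =
      2 * (b k (T m) - b l (T m)) + (bi a - bi a') * (p : GolayPt → ℤ) m +
        (bi e - bi e') * (u0 : GolayPt → ℤ) m := by
    intro m
    have h1 : ((v k + bi a • p + bi e • u0 - (v l + bi a' • p + bi e' • u0) : leechLattice) : GolayPt → ℤ) m =
      ((v k : GolayPt → ℤ) m + bi a * (p : GolayPt → ℤ) m + bi e * (u0 : GolayPt → ℤ) m) -
      ((v l : GolayPt → ℤ) m + bi a' * (p : GolayPt → ℤ) m + bi e' * (u0 : GolayPt → ℤ) m) := rfl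
    rw [h1, hv, hv]
    ring
  generalize hδ : (v k + bi a • p + bi e • u0 - (v l + bi a' • p + bi e' • u0) : leechLattice) = δ at co
  have hF' : δ ∈ Fx (signCo0 c) := by rw [← hδ]; exact hF
  have hp2 : ∀ m, (p : GolayPt → ℤ) m % 4 = 0 := by
    intro m
    rw [hp]
    split_ifs <;> norm_num
  have hev := (mem_L1 δ).1 (Fx_sign_le hi hj hF')
  -- parity
  have hee : e = e' := by
    have h1 := hev i
    rw [co i] at h1
    have h2 := hu0 i
    have h3 := hp2 i
    generalize (p : GolayPt → ℤ) i = x at h1 h3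
    generalize (u0 : GolayPt → ℤ) i = y at h1 h2
    generalize b k (T i) - b l (T i) = w at h1
    cases e <;> cases e' <;> cases a <;> cases a' <;> simp [bi] at h1 ⊢ <;> omega
  subst hee
  simp only [sub_self, zero_mul, add_zero] at co
  have hres := (mem_Fx_sign c δ).1 hF'
  have hres2 : ∀ m, res c (δ : GolayPt → ℤ) m % 2 = 0 := by
    intro m
    rw [res_apply]
    split_ifs
    · norm_num
    · exact hev m
  have hkl : k = l := by
    by_contra hkl
    refine not_mem_words hT (support₂_mem c.2) h0 (k := k) (l := l) ?_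
    rw [mem_words_iff]
    have h1 := word_mem hres hres2
    convert h1 using 1
    funext m
    have hmem : m ∈ (fib T k ∪ fib T l) ∩ support₂ (c : GolayPt → ZMod 2) ↔
        (T m = k ∨ T m = l) ∧ (c : GolayPt → ZMod 2) m ≠ 0 := by
      rw [Finset.mem_inter, Finset.mem_union, mem_fib, mem_fib, mem_support₂]
    rw [ind_apply, res_apply]
    by_cases hm : (c : GolayPt → ZMod 2) m = 0
    · rw [if_pos hm, if_neg (fun h => (hmem.1 h).2 hm)]
      norm_num
    · rw [if_neg hm, co m]
      obtain ⟨q, hq⟩ : (4 : ℤ) ∣ (p : GolayPt → ℤ) m := Int.dvd_of_emod_eq_zero (hp2 m)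
      have h2 : (2 * (b k (T m) - b l (T m)) + (bi a - bi a') * (p : GolayPt → ℤ) m) / 2 =
          (b k (T m) - b l (T m)) + 2 * ((bi a - bi a') * q) := by
        rw [hq]
        have : 2 * (b k (T m) - b l (T m)) + (bi a - bi a') * (4 * q) =
          2 * ((b k (T m) - b l (T m)) + 2 * ((bi a - bi a') * q)) := by ring
        rw [this, Int.mul_ediv_cancel_left _ (by norm_num)]
      rw [h2]
      have h3 := b_add k l (T m) hkl
      have h4 : (((b k (T m) - b l (T m)) + 2 * ((bi a - bi a') * q) : ℤ) : ZMod 2) =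
          ((b k (T m) - b l (T m) : ℤ) : ZMod 2) := by
        rw [Int.cast_add, Int.cast_mul, Int.cast_ofNat]
        have : (2 : ZMod 2) = 0 := by decide
        rw [this, zero_mul, add_zero]
      rw [h4]
      have h5 : ((b k (T m) - b l (T m) : ℤ) : ZMod 2) = (((b k (T m) - b l (T m)) % 2 : ℤ) : ZMod 2) := by
        rw [ZMod.intCast_eq_intCast_iff]
        exact (Int.mod_modEq _ _).symm
      rw [h5, h3]
      by_cases ht : T m = k ∨ T m = l
      · rw [if_pos ht, if_pos (hmem.2 ⟨ht, hm⟩)]; rfl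
      · rw [if_neg ht, if_neg (fun h => ht (hmem.1 h).1)]; rfl
  subst hkl
  simp only [sub_self, mul_zero, zero_add] at co
  have haa : a = a' := by
    by_contra hne
    have h1 : ∀ m, (res c (δ : GolayPt → ℤ) m) ^ 2 = if m = i then 16 else 0 := by
      intro m
      rw [res_apply]
      by_cases hm : m = i
      · subst hm
        rw [if_neg hi, if_pos rfl, co m, hp, if_pos rfl, if_neg hij]
        cases a <;> cases a' <;> simp [bi] at hne ⊢
      · rw [if_neg hm]
        by_cases hm0 : (c : GolayPt → ZMod 2) m = 0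
        · rw [if_pos hm0]; norm_num
        · have : m ≠ j := by rintro rfl; exact hm0 hj
          rw [if_neg hm0, co m, hp, if_neg hm, if_neg this]
          norm_num
    have h2 := Cfsg.Agent.S0391.result _ hres (by
      intro h
      have h3 := h1 i
      rw [h, if_pos rfl] at h3
      norm_num at h3)
    have h3 : sqNorm (res c (δ : GolayPt → ℤ)) = 16 := by
      unfold sqNorm
      rw [Finset.sum_congr rfl fun m _ => h1 m, Finset.sum_ite_eq', if_pos (Finset.mem_univ _)]
    omega
  subst haa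
  rfl

/-- 24 vectors incongruent modulo the vectors fixed modulo `2Λ` by `g` -/
theorem exists_many' {g : Co0} (hg : g * g = 1) (hg1 : g ≠ 1) {u : leechLattice} (hu0 : u ≠ 0) (hgu : g • u = u) :
    ∃ F : Fin 6 × Bool × Bool → leechLattice, ∀ s t, F s - F t ∈ Fx g → s = t := by
  obtain ⟨k, c, hk⟩ := CoOneType.InvMain.conj_sign_of_sq_one g hg
  have hc : ∃ i, (c : GolayPt → ZMod 2) i ≠ 0 := by
    by_contra hcon
    push Not at hcon
    have : c = 0 := Subtype.ext (funext hcon)
    rw [this, signCo0_zero] at hk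
    apply hg1
    calc g = k⁻¹ * (k * g * k⁻¹) * k := by group
      _ = 1 := by rw [hk]; group
  obtain ⟨i, hi⟩ := hc
  have hc' : ∃ j, (c : GolayPt → ZMod 2) j = 0 := by
    by_contra hcon
    push Not at hcon
    have h1 : signCo0 c • (k • u) = -(k • u) := sign_neg fun m hm => absurd hm (hcon m)
    rw [← hk, mul_smul, mul_smul, inv_smul_smul, hgu] at h1
    have h2 := ne_neg_self (y := k • u) (by
      intro e
      apply hu0
      have h3 : k • u = k • (0 : leechLattice) := by
        rw [e]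
        exact (map_zero (Cfsg.Agent.MonsterU.SmallComm.hom k)).symm
      exact smul_left_cancel k h3)
    exact h2 h1
  obtain ⟨j, hj⟩ := hc'
  obtain ⟨F, hF⟩ := exists_many hi hj
  refine ⟨fun s => k⁻¹ • F s, fun s t hst => hF s t ?_⟩
  rw [← hk, Cfsg.Agent.MonsterU.SmallComm.Fx_conj]
  show k⁻¹ • (F s - F t) ∈ Fx g
  rw [smul_sub']
  exact hst

/-- **The commutators of `g` on `evn u / rad u` are not contained in a group of order 4.** -/
theorem exists_move {u : leechLattice} (hu : dt u u = 32) {g : Co0} (hgu : g • u = u) (hg : g * g = 1)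
    (hg1 : g ≠ 1) (c d : leechLattice) : ∃ x ∈ evn u, g • x - x ∉ rad u ∧ g • x - x - c ∉ rad u ∧
      g • x - x - d ∉ rad u ∧ g • x - x - (c + d) ∉ rad u := by
  classical
  by_contra hcon
  push Not at hcon
  have hu0 : u ≠ 0 := by
    rintro rfl
    rw [dt_zero_right] at hu
    norm_num at hu
  obtain ⟨F, hF⟩ := exists_many' hg hg1 hu0 hgu
  -- representatives in `evn u`
  obtain ⟨x₀, hx₀⟩ : ∃ x₀ : leechLattice, ∀ x, x ∉ evn u → x - x₀ ∈ evn u := by
    by_cases h : ∃ x₀ : leechLattice, x₀ ∉ evn u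
    · obtain ⟨x₀, h0⟩ := h
      refine ⟨x₀, fun x hx => ?_⟩
      rw [mem_evn] at h0 hx ⊢
      obtain ⟨a, ha⟩ := eight_dvd_dt u x
      obtain ⟨a₀, ha₀⟩ := eight_dvd_dt u x₀
      rw [dt_sub_right]
      omega
    · push Not at h
      exact ⟨0, fun x hx => absurd (h x) hx⟩
  let y : leechLattice → leechLattice := fun x => if x ∈ evn u then x else x - x₀
  have hy : ∀ x, y x ∈ evn u := by
    intro x
    show (if x ∈ evn u then x else x - x₀) ∈ evn u
    split_ifs with h
    · exact h
    · exact hx₀ x h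
  let cs : Fin 4 → leechLattice := ![0, c, d, c + d]
  have hcs : ∀ x, ∃ n : Fin 4, g • y x - y x - cs n ∈ rad u := by
    intro x
    by_cases h0 : g • y x - y x ∈ rad u
    · exact ⟨0, by simpa [cs] using h0⟩
    by_cases h1 : g • y x - y x - c ∈ rad u
    · exact ⟨1, by simpa [cs] using h1⟩
    by_cases h2 : g • y x - y x - d ∈ rad u
    · exact ⟨2, by simpa [cs] using h2⟩
    · exact ⟨3, by simpa [cs] using hcon _ (hy x) h0 h1 h2⟩
  choose n hn using hcs
  let lab : leechLattice → Bool × Fin 4 × Bool := fun x =>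
    (decide (x ∈ evn u), n x, decide (g • y x - y x - cs (n x) ∈ dbl))
  obtain ⟨s, t, hst, hlab⟩ := Fintype.exists_ne_map_eq_of_card_lt (fun s => lab (F s))
    (by simp only [Fintype.card_prod, Fintype.card_fin, Fintype.card_bool]; norm_num)
  apply hst
  apply hF
  have l1 := congrArg Prod.fst hlab
  have l2 := congrArg (fun p => p.2.1) hlab
  have l3 := congrArg (fun p => p.2.2) hlab
  simp only [lab, decide_eq_decide] at l1 l2 l3
  have e1 : y (F s) - y (F t) = F s - F t := by
    show (if F s ∈ evn u then F s else F s - x₀) - (if F t ∈ evn u then F t else F t - x₀) = _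
    by_cases h : F s ∈ evn u
    · rw [if_pos h, if_pos (l1.1 h)]
    · rw [if_neg h, if_neg (fun h' => h (l1.2 h'))]
      abel
  -- the difference of the two elements of `rad u`
  have hs := hn (F s)
  have ht := hn (F t)
  rw [← l2] at ht l3
  have e2 : g • (F s - F t) - (F s - F t) =
      (g • y (F s) - y (F s) - cs (n (F s))) - (g • y (F t) - y (F t) - cs (n (F s))) := by
    rw [← e1, smul_sub']; abel
  rw [mem_Fx]
  rw [e2]
  obtain ⟨w, hw⟩ := mem_rad.1 hs
  obtain ⟨w', hw'⟩ := mem_rad.1 ht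
  by_cases h3 : g • y (F s) - y (F s) - cs (n (F s)) ∈ dbl
  · obtain ⟨z, hz⟩ := mem_dbl.1 h3
    obtain ⟨z', hz'⟩ := mem_dbl.1 (l3.1 h3)
    exact ⟨z - z', by rw [hz, hz', _root_.smul_sub]⟩
  · have h4 : ¬ (g • y (F t) - y (F t) - cs (n (F s)) ∈ dbl) := fun h' => h3 (l3.2 h')
    rcases hw with hw | hw
    · exact (h3 (mem_dbl.2 ⟨w, hw⟩)).elim
    rcases hw' with hw' | hw'
    · exact (h4 (mem_dbl.2 ⟨w', hw'⟩)).elim
    exact ⟨w - w', by rw [hw, hw', _root_.smul_sub]; abel⟩

end Cfsg.Agent.OddHalf.D4.Spor.LatMove
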