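import Cfsg.Agent.OddHalf.D4.Spor.BabyHyp
import Cfsg.Agent.OddHalf.D4.Spor.LatMove

/-!
# `LargeBad.HypR` for the Baby Monster (helper667)
-/

set_option autoImplicit false

namespace Cfsg.Agent.OddHalf.D4.Spor.BabyR

open Cfsg Cfsg.Agent.BabyM Cfsg.Agent.BabyM.Model Cfsg.Agent.BabyU.ClosModel Cfsg.Agent.BabyU.ClosLane
open Cfsg.Agent.SporadicStructure.Co2RankThree Cfsg.Agent.BabyM.CoTwoMod Cfsg.Agent.BabyM.Co2GenStd
open Subgroup Cfsg.Agent.Co2Type.Quad

/-- `z` is 2-central -/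
theorem cen_of_large {K : Type*} [Group K] [Finite K] {Q : Subgroup K} {z : K} (h : Large Q z) : Cen z := by
  have : Fact (Nat.Prime 2) := ⟨Nat.prime_two⟩
  have hQ : IsPGroup 2 Q := by
    intro q
    refine ⟨2, Subtype.ext ?_⟩
    show (q : K) ^ (2 ^ 2) = 1
    have e : (q : K) ^ (2 ^ 2) = ((q : K) * q) * (q * q) := by
      rw [show (2 ^ 2 : ℕ) = 2 + 2 from rfl, pow_add, pow_two]
    rw [e]
    rcases h.sq q q.2 with h1 | h1
    · rw [h1, one_mul]
    · rw [h1, h.z_sq]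
  obtain ⟨S, hS⟩ := hQ.exists_le_sylow
  refine ⟨S, ?_⟩
  have : Nontrivial ↥S := ⟨⟨⟨z, hS h.z_mem⟩, 1, fun e => h.z_ne (congrArg Subtype.val e)⟩⟩
  obtain ⟨w, hwc', hw⟩ := (nontrivial_iff_exists_ne_one (center ↥S)).1 (S.isPGroup'.center_nontrivial)
  have hwc : ∀ s ∈ S, s * (w : K) = w * s := fun s hs =>
    congrArg Subtype.val (mem_center_iff.1 hwc' ⟨s, hs⟩)
  have hwQ : (w : K) ∈ Q := h.self _ (hwc z (hS h.z_mem)).symm fun y hy => (hwc y (hS hy)).symm
  rcases h.cent _ hwQ (fun y hy => (hwc y (hS hy)).symm) with e | e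
  · exact absurd (Subtype.ext e) hw
  · rw [← e]; exact hwc

/-- the fact behind (R) -/
theorem move : BabyHyp.Move l₀ := fun _ hg hgg hg1 c d => LatMove.exists_move GroupInst.dt_l₀ hg hgg hg1 c d

/-- **(R) and (LQ) for the Baby Monster**, from the fact behind (LQ). -/
theorem hypR_of (hn : BabyHyp.NoTriple l₀) : LargeBad.HypR (PP Inst.M) (zz A) where
  large := KFacts.Baby.Inst.large A
  cen := by
    have := A.finite_G
    exact cen_of_large (KFacts.Baby.Inst.large A)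
  r := BabyHyp.r move
  lq := BabyHyp.lq hn

end Cfsg.Agent.OddHalf.D4.Spor.BabyR
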