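import Cfsg.Agent.OddHalf.D4.Spor.Sheet
import Cfsg.Agent.OddHalf.D4.Spor.Transport
import Cfsg.Agent.Co2Type.Quad

/-!
# D4, sporadic components: a kill of `BadB` for groups with a large extraspecial subgroup (helper865)

`Large Q z`, `z` 2-central. Suppose

* (`r`) for `x ∈ C(z) - Q` with `x² ∈ Q`, `[Q, x]` modulo `⟨z⟩` has more than 4 elements; this implies
* (`mv`) for `x ∈ C(z) - Q` with `x² ∈ Q` and an involution `b ∈ Q`, not 2-central, `[C_Q(b), x] ≰ ⟨b⟩`
  (`mv_of`);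
* (`lq`) there is no four-group `V ≤ C(z)`, `V ∩ Q = 1`, with `C_Q(v)` equal for all `v ∈ V#`.

Then `BadB B D` is impossible if `B` contains a four-group (`not_badB`), in particular if all automorphisms are
inner (`HypR.not_badB_of_inn`). No class of involutions is used.

Proof: `V` a four-group of `B` centralized by `z`, `W = Q ∩ D`; `[W, V] ≤ B ∩ Q`. If `B ∩ Q ≠ 1`, then
`B ∩ Q = ⟨b⟩`, `W = C_Q(b)`, and `V ≤ Q` by (mv), so `V ≤ ⟨b⟩`. If `B ∩ Q = 1`, then `W` centralizes `V` and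
`C_Q(v) = W` for all involutions `v ∈ V`: (lq).
-/

set_option autoImplicit false

namespace Cfsg.Agent.OddHalf.D4.Spor.LargeBad

open Subgroup Cfsg.Agent.Co2Type.Quad

variable {X : Type*} [Group X] {Q B D : Subgroup X} {z : X}

/-- the hypotheses -/
structure Hyp (Q : Subgroup X) (z : X) : Prop where
  large : Large Q z
  cen : Cen z
  mv : ∀ b ∈ Q, b * b = 1 → b ≠ 1 → b ≠ z → ¬ Cen b → ∀ x : X, x * z = z * x → x ∉ Q → x * x ∈ Q →
    ∃ w ∈ Q, w * b = b * w ∧ w * x * w⁻¹ * x⁻¹ ≠ 1 ∧ w * x * w⁻¹ * x⁻¹ ≠ b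
  lq : ∀ a b : X, a * z = z * a → b * z = z * b → a * a = 1 → b * b = 1 → a * b = b * a → a ∉ Q → b ∉ Q →
    a * b ∉ Q → (∀ q ∈ Q, a * q = q * a → b * q = q * b) → (∀ q ∈ Q, b * q = q * b → a * q = q * a) →
    (∀ q ∈ Q, a * b * q = q * (a * b) → a * q = q * a) → False

/-- two elements of `Q` not commuting with `b` have a quotient commuting with `b` -/
theorem comm_mul (h : Large Q z) {b s t : X} (hb : b ∈ Q) (hs : s ∈ Q) (ht : t ∈ Q) (h1 : s * b ≠ b * s)
    (h2 : t * b ≠ b * t) : (s * t) * b = b * (s * t) := by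
  have e1 := (h.comm s hs b hb).resolve_left h1
  have e2 := (h.comm t ht b hb).resolve_left h2
  have hz := h.comm_z _ hb
  have hzt := h.comm_z _ ht
  calc (s * t) * b = s * (t * b) := by group
    _ = s * (b * t * z) := by rw [e2]
    _ = (s * b) * t * z := by group
    _ = (b * s * z) * t * z := by rw [e1]
    _ = b * s * (z * t) * z := by group
    _ = b * s * (t * z) * z := by rw [← hzt]
    _ = b * (s * t) * (z * z) := by group
    _ = b * (s * t) := by rw [h.z_sq, mul_one]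

/-- `C_Q(C_Q(b)) = ⟨b, z⟩` -/
theorem eq_of_cent (h : Large Q z) {b b' : X} (hb : b ∈ Q) (hb' : b' ∈ Q) (h1 : b' ≠ 1) (h2 : b' ≠ z)
    (hc : ∀ t ∈ Q, t * b = b * t → t * b' = b' * t) : b' * b⁻¹ = 1 ∨ b' * b⁻¹ = z := by
  apply h.cent _ (Q.mul_mem hb' (Q.inv_mem hb))
  -- some `t₀` does not commute with `b'`
  by_contra hcon
  have hne : ∃ t₀ ∈ Q, t₀ * b' ≠ b' * t₀ := by
    by_contra hall
    push Not at hall
    rcases h.cent b' hb' (fun y hy => (hall y hy).symm) with e | e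
    · exact h1 e
    · exact h2 e
  obtain ⟨t₀, ht₀, hn'⟩ := hne
  have hn : t₀ * b ≠ b * t₀ := fun e => hn' (hc t₀ ht₀ e)
  apply hcon
  intro y hy
  by_cases hyb : y * b = b * y
  · have e2 := hc y hy hyb
    have e1 : y * b⁻¹ = b⁻¹ * y := by
      calc y * b⁻¹ = b⁻¹ * (b * y) * b⁻¹ := by group
        _ = b⁻¹ * (y * b) * b⁻¹ := by rw [hyb]
        _ = b⁻¹ * y := by group
    calc b' * b⁻¹ * y = b' * (b⁻¹ * y) := by group
      _ = b' * (y * b⁻¹) := by rw [e1]
      _ = (b' * y) * b⁻¹ := by group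
      _ = (y * b') * b⁻¹ := by rw [e2]
      _ = y * (b' * b⁻¹) := by group
  · -- then `y` does not commute with `b'` either
    have hyb' : y * b' ≠ b' * y := by
      intro e
      have h3 := comm_mul h hb hy ht₀ hyb hn
      have h4 := hc _ (Q.mul_mem hy ht₀) h3
      apply hn'
      have h5 : y * (t₀ * b') = y * (b' * t₀) := by
        calc y * (t₀ * b') = (y * t₀) * b' := by group
          _ = b' * (y * t₀) := h4
          _ = (b' * y) * t₀ := by group
          _ = (y * b') * t₀ := by rw [e]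
          _ = y * (b' * t₀) := by group
      exact mul_left_cancel h5
    have e1 := (h.comm y hy b hb).resolve_left hyb
    have e2 := (h.comm y hy b' hb').resolve_left hyb'
    -- `y b y⁻¹ = b z`, `y b' y⁻¹ = b' z`
    have c1 : y * b * y⁻¹ = b * z := by
      rw [e1]
      calc b * y * z * y⁻¹ = b * (y * z) * y⁻¹ := by group
        _ = b * (z * y) * y⁻¹ := by rw [h.comm_z _ hy]
        _ = b * z := by group
    have c2 : y * b' * y⁻¹ = b' * z := by
      rw [e2]
      calc b' * y * z * y⁻¹ = b' * (y * z) * y⁻¹ := by group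
        _ = b' * (z * y) * y⁻¹ := by rw [h.comm_z _ hy]
        _ = b' * z := by group
    have c3 : y * (b' * b⁻¹) * y⁻¹ = b' * b⁻¹ := by
      calc y * (b' * b⁻¹) * y⁻¹ = (y * b' * y⁻¹) * (y * b * y⁻¹)⁻¹ := by group
        _ = (b' * z) * (b * z)⁻¹ := by rw [c1, c2]
        _ = b' * b⁻¹ := by group
    calc b' * b⁻¹ * y = (y * (b' * b⁻¹) * y⁻¹) * y := by rw [c3]
      _ = y * (b' * b⁻¹) := by group

/-- (mv) from: `[Q, x]` modulo `⟨z⟩` has more than 4 elements -/
theorem mv_of (h : Large Q z) {b x : X} (hb : b ∈ Q) (hx : x * z = z * x)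
    (hno : ∀ c ∈ Q, ∀ d ∈ Q, ∃ q ∈ Q, ∀ y, y = q * x * q⁻¹ * x⁻¹ →
      y ≠ 1 ∧ y ≠ z ∧ y ≠ c ∧ y ≠ c * z ∧ y ≠ d ∧ y ≠ d * z ∧ y ≠ c * d ∧ y ≠ c * d * z) :
    ∃ w ∈ Q, w * b = b * w ∧ w * x * w⁻¹ * x⁻¹ ≠ 1 ∧ w * x * w⁻¹ * x⁻¹ ≠ b := by
  by_contra hcon
  push Not at hcon
  have hQx : ∀ q ∈ Q, q * x * q⁻¹ * x⁻¹ ∈ Q := fun q hq => by
    have e : q * x * q⁻¹ * x⁻¹ = q * (x * q⁻¹ * x⁻¹) := by group
    rw [e]
    exact Q.mul_mem hq (h.conj_mem x hx _ (Q.inv_mem hq))
  by_cases hall : ∀ q ∈ Q, q * b = b * q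
  · obtain ⟨q, hq, hy⟩ := hno b hb 1 Q.one_mem
    obtain ⟨h1, -, h2, -⟩ := hy _ rfl
    exact h2 (hcon q hq (hall q hq) h1)
  · push Not at hall
    obtain ⟨q₀, hq₀, hn⟩ := hall
    obtain ⟨q, hq, hy⟩ := hno b hb _ (hQx q₀ hq₀)
    obtain ⟨h1, -, h2, -, h3, -, -, h4⟩ := hy _ rfl
    by_cases hqb : q * b = b * q
    · exact h2 (hcon q hq hqb h1)
    · have hn' : q₀⁻¹ * b ≠ b * q₀⁻¹ := by
        intro e
        apply hn
        calc q₀ * b = q₀ * (b * q₀⁻¹) * q₀ := by group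
          _ = q₀ * (q₀⁻¹ * b) * q₀ := by rw [e]
          _ = b * q₀ := by group
      have hw := comm_mul h hb (Q.inv_mem hq₀) hq hn' hqb
      have hwQ : q₀⁻¹ * q ∈ Q := Q.mul_mem (Q.inv_mem hq₀) hq
      -- `[q₀ w, x] = q₀ [w, x] q₀⁻¹ [q₀, x]`
      have e1 : q * x * q⁻¹ * x⁻¹ =
          q₀ * ((q₀⁻¹ * q) * x * (q₀⁻¹ * q)⁻¹ * x⁻¹) * q₀⁻¹ * (q₀ * x * q₀⁻¹ * x⁻¹) := by group
      by_cases hw1 : (q₀⁻¹ * q) * x * (q₀⁻¹ * q)⁻¹ * x⁻¹ = 1
      · apply h3
        rw [e1, hw1]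
        group
      · have hwb := hcon _ hwQ hw hw1
        apply h4
        have c1 : q₀ * b * q₀⁻¹ = b * z := by
          rw [(h.comm q₀ hq₀ b hb).resolve_left hn]
          calc b * q₀ * z * q₀⁻¹ = b * (q₀ * z) * q₀⁻¹ := by group
            _ = b * (z * q₀) * q₀⁻¹ := by rw [h.comm_z _ hq₀]
            _ = b * z := by group
        rw [e1, hwb, c1, mul_assoc b z, ← h.comm_z _ (hQx q₀ hq₀), ← mul_assoc]

/-- the main step -/
theorem core (h : Hyp Q z) (hB : BadB B D) {V : Subgroup X} (hVB : V ≤ B) (hV : IsPGroup 2 ↥V)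
    (hz : ∀ v ∈ V, v * z = z * v) {a b : X} (ha : a ∈ V) (hb : b ∈ V) (haa : a * a = 1)
    (ha1 : a ≠ 1) (hbb : b * b = 1) (hb1 : b ≠ 1) (hab : a ≠ b) (hcomm : a * b = b * a) : False := by
  have L := h.large
  have hzB : z ∉ B := fun hzB => hB.non z hzB L.z_sq L.z_ne h.cen
  -- commutators of `Q ∩ D` with `V`
  have hBQ : ∀ w ∈ Q, w ∈ D → ∀ v ∈ V, w * v * w⁻¹ * v⁻¹ ∈ B ∧ w * v * w⁻¹ * v⁻¹ ∈ Q := by
    intro w hw hwD v hv
    refine ⟨B.mul_mem (hB.norm w hwD v (hVB hv)) (B.inv_mem (hVB hv)), ?_⟩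
    have h1 := L.conj_mem v (hz v hv) w⁻¹ (Q.inv_mem hw)
    have e : w * v * w⁻¹ * v⁻¹ = w * (v * w⁻¹ * v⁻¹) := by group
    rw [e]
    exact Q.mul_mem hw h1
  by_cases hex : ∃ c ∈ B, c ∈ Q ∧ c ≠ 1
  · -- `B ∩ Q ≠ 1`
    -- elements of `B ∩ Q` are involutions
    have hinv : ∀ c ∈ B, c ∈ Q → c ≠ 1 → c * c = 1 ∧ c ≠ z ∧ ¬ Cen c := by
      intro c hcB hcQ hc1
      have hcc : c * c = 1 := by
        rcases L.sq c hcQ with e | e
        · exact e
        · exact absurd (e ▸ B.mul_mem hcB hcB) hzB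
      exact ⟨hcc, fun e => hzB (e ▸ hcB), hB.non c hcB hcc hc1⟩
    -- `Q ∩ D` centralizes `B ∩ Q`
    have hcen : ∀ c ∈ B, c ∈ Q → ∀ w ∈ Q, w ∈ D → w * c = c * w := by
      intro c hcB hcQ w hw hwD
      rcases L.comm w hw c hcQ with e | e
      · exact e
      · exfalso
        have h1 := hB.norm w hwD c hcB
        have h2 : w * c * w⁻¹ = c * z := by
          rw [e]
          calc c * w * z * w⁻¹ = c * (w * z) * w⁻¹ := by group
            _ = c * (z * w) * w⁻¹ := by rw [L.comm_z _ hw]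
            _ = c * z := by group
        rw [h2] at h1
        have h3 := B.mul_mem (B.inv_mem hcB) h1
        rw [inv_mul_cancel_left] at h3
        exact hzB h3
    obtain ⟨c, hcB, hcQ, hc1⟩ := hex
    obtain ⟨hcc, hcz, hcC⟩ := hinv c hcB hcQ hc1
    -- `B ∩ Q = {1, c}`
    have huniq : ∀ c' ∈ B, c' ∈ Q → c' = 1 ∨ c' = c := by
      intro c' hc'B hc'Q
      by_cases hc'1 : c' = 1
      · exact Or.inl hc'1
      · right
        obtain ⟨-, hc'z, -⟩ := hinv c' hc'B hc'Q hc'1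
        rcases eq_of_cent L hcQ hc'Q hc'1 hc'z (fun t ht htc =>
          hcen c' hc'B hc'Q t ht (hB.cent c hcB hcc hc1 t htc)) with e | e
        · exact mul_inv_eq_one.1 e
        · exfalso
          apply hzB
          rw [← e]
          exact B.mul_mem hc'B (B.inv_mem hcB)
    -- `V ≤ Q`
    have hVQ : ∀ v ∈ V, v ∈ Q := by
      intro v hv
      by_contra hvQ
      -- a power `x` of `v` with `x ∉ Q`, `x² ∈ Q`
      obtain ⟨k, hk⟩ := hV ⟨v, hv⟩
      have hk' : v ^ 2 ^ k = 1 := by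
        have := congrArg Subtype.val hk
        simpa using this
      have hex : ∃ n, v ^ 2 ^ n ∈ Q := ⟨k, by rw [hk']; exact Q.one_mem⟩
      classical
      obtain ⟨n, hn, hmin⟩ : ∃ n, v ^ 2 ^ n ∈ Q ∧ ∀ m < n, v ^ 2 ^ m ∉ Q :=
        ⟨Nat.find hex, Nat.find_spec hex, fun m hm => Nat.find_min hex hm⟩
      rcases n with _ | n
      · apply hvQ
        simpa using hn
      · have hx := hmin n (Nat.lt_succ_self n)
        have hxx : v ^ 2 ^ n * v ^ 2 ^ n ∈ Q := by
          rw [← pow_add, ← two_mul, ← pow_succ']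
          exact hn
        have hxV : v ^ 2 ^ n ∈ V := V.pow_mem hv _
        obtain ⟨w, hwQ, hwc, hw1, hw2⟩ := h.mv c hcQ hcc hc1 hcz hcC (v ^ 2 ^ n) (hz _ hxV) hx hxx
        have hwD := hB.cent c hcB hcc hc1 w hwc
        obtain ⟨hm1, hm2⟩ := hBQ w hwQ hwD _ hxV
        rcases huniq _ hm1 hm2 with e | e
        · exact hw1 e
        · exact hw2 e
    -- `V ≤ {1, c}`
    rcases huniq a (hVB ha) (hVQ a ha) with e | e
    · exact ha1 e
    · rcases huniq b (hVB hb) (hVQ b hb) with e' | e'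
      · exact hb1 e'
      · exact hab (e.trans e'.symm)
  · -- `B ∩ Q = 1`
    push Not at hex
    have hW : ∀ w ∈ Q, w ∈ D → ∀ v ∈ V, v * w = w * v := by
      intro w hw hwD v hv
      obtain ⟨h1, h2⟩ := hBQ w hw hwD v hv
      have h3 := hex _ h1 h2
      have h4 : w * v = v * w := by
        calc w * v = (w * v * w⁻¹ * v⁻¹) * (v * w) := by group
          _ = v * w := by rw [h3, one_mul]
      exact h4.symm
    have hab1 : a * b ≠ 1 := by
      intro e
      apply hab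
      calc a = a * (b * b) := by rw [hbb, mul_one]
        _ = (a * b) * b := by group
        _ = b := by rw [e, one_mul]
    have habab : a * b * (a * b) = 1 := by
      calc a * b * (a * b) = a * (b * a) * b := by group
        _ = a * (a * b) * b := by rw [hcomm]
        _ = (a * a) * (b * b) := by group
        _ = 1 := by rw [haa, hbb, one_mul]
    have habV : a * b ∈ V := V.mul_mem ha hb
    refine h.lq a b (hz a ha) (hz b hb) haa hbb hcomm (fun e => ha1 (hex a (hVB ha) e))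
      (fun e => hb1 (hex b (hVB hb) e)) (fun e => hab1 (hex _ (hVB habV) e)) ?_ ?_ ?_
    · intro q hq hqa
      exact hW q hq (hB.cent a (hVB ha) haa ha1 q hqa.symm) b hb
    · intro q hq hqb
      exact hW q hq (hB.cent b (hVB hb) hbb hb1 q hqb.symm) a ha
    · intro q hq hqab
      exact hW q hq (hB.cent (a * b) (hVB habV) habab hab1 q hqab.symm) a ha

/-- **No `BadB`** for a group with a large extraspecial subgroup and (mv), (lq). -/
theorem not_badB [Finite X] (h : Hyp Q z) (hB : BadB B D)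
    (hf : ∃ a ∈ B, ∃ b ∈ B, a * a = 1 ∧ a ≠ 1 ∧ b * b = 1 ∧ b ≠ 1 ∧ a ≠ b ∧ a * b = b * a) : False := by
  have : Fact (Nat.Prime 2) := ⟨Nat.prime_two⟩
  obtain ⟨a, haB, b, hbB, haa, ha1, hbb, hb1, hab, hcomm⟩ := hf
  have hia : a⁻¹ = a := inv_eq_of_mul_eq_one_left haa
  have hib : b⁻¹ = b := inv_eq_of_mul_eq_one_left hbb
  have h1 : a * (a * b) = b := by rw [← mul_assoc, haa, one_mul]
  have h2 : b * (a * b) = a := by rw [hcomm, ← mul_assoc, hbb, one_mul]
  have h3 : a * b * a = b := by rw [hcomm, mul_assoc, haa, mul_one]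
  have h4 : a * b * b = a := by rw [mul_assoc, hbb, mul_one]
  have h5 : a * b * (a * b) = 1 := by rw [mul_assoc, h2, haa]
  let F : Subgroup X :=
    { carrier := {x | x = 1 ∨ x = a ∨ x = b ∨ x = a * b}
      one_mem' := Or.inl rfl
      mul_mem' := by
        rintro x y (rfl | rfl | rfl | rfl) (rfl | rfl | rfl | rfl) <;>
          simp [haa, hbb, h1, h2, h3, h4, h5, ← hcomm]
      inv_mem' := by
        rintro x (rfl | rfl | rfl | rfl)
        · simp
        · simp [hia]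
        · simp [hib]
        · simp [hia, hib, ← hcomm] }
  have hFsq : ∀ x ∈ F, x * x = 1 := by
    rintro x (rfl | rfl | rfl | rfl)
    · simp
    · exact haa
    · exact hbb
    · exact h5
  have hF2 : IsPGroup 2 ↥F := by
    intro x
    refine ⟨1, ?_⟩
    rw [pow_one, pow_two]
    exact Subtype.ext (hFsq x x.2)
  have hFB : F ≤ B := by
    rintro x (rfl | rfl | rfl | rfl)
    · exact B.one_mem
    · exact haB
    · exact hbB
    · exact B.mul_mem haB hbB
  have haF : a ∈ F := Or.inr (Or.inl rfl)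
  have hbF : b ∈ F := Or.inr (Or.inr (Or.inl rfl))
  obtain ⟨S, hS⟩ := h.cen
  obtain ⟨P, hP⟩ := hF2.exists_le_sylow
  obtain ⟨g, hg⟩ := MulAction.exists_smul_eq X S P
  let e : X ≃* X := MulAut.conj g
  have hesymm : ∀ x : X, e.symm x = g⁻¹ * x * g := fun x => by
    show (MulAut.conj g).symm x = _
    rw [MulAut.conj_symm_apply]
  have hz : ∀ v ∈ F.map e.symm.toMonoidHom, v * z = z * v := by
    rintro _ ⟨x, hx, rfl⟩
    apply hS
    have h6 : x ∈ ((g • S : Sylow 2 X) : Subgroup X) := by rw [hg]; exact hP hx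
    rw [Sylow.coe_subgroup_smul] at h6
    show e.symm x ∈ (S : Subgroup X)
    rw [hesymm]
    obtain ⟨y, hy, hyx⟩ := Subgroup.mem_map.1 h6
    have h7 : g * y * g⁻¹ = x := hyx
    have h8 : g⁻¹ * x * g = y := by rw [← h7]; group
    rw [h8]
    exact hy
  have hne : ∀ x : X, x ≠ 1 → e.symm x ≠ 1 := fun x hx h0 => hx (by
    have := congrArg e h0
    rwa [e.apply_symm_apply, map_one] at this)
  refine core h (BadB.map_symm e hB) (Subgroup.map_mono hFB) (hF2.map _) hz
    (a := e.symm a) (b := e.symm b) ⟨a, haF, rfl⟩ ⟨b, hbF, rfl⟩ ?_ (hne a ha1) ?_ (hne b hb1) ?_ ?_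
  · rw [← map_mul, haa, map_one]
  · rw [← map_mul, hbb, map_one]
  · exact fun h0 => hab (e.symm.injective h0)
  · rw [← map_mul, hcomm, map_mul]

/-! ### `B` without four-groups -/

/-- linear algebra: if `ker N` has index at most two in `ker N²` and `N⁴ = 0`, then `N²` has at most four values -/
theorem small {V : Type*} [AddCommGroup V] (N : V →+ V)
    (h1 : ∀ x y, N (N x) = 0 → N (N y) = 0 → N x = 0 ∨ N y = 0 ∨ N (x - y) = 0)
    (h4 : ∀ x, N (N (N (N x))) = 0) :
    ∃ c d, ∀ x, N (N x) = 0 ∨ N (N x) = c ∨ N (N x) = d ∨ N (N x) = c + d := by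
  have h2 : ∀ x y, N (N (N x)) = 0 → N (N (N y)) = 0 → N (N x) = 0 ∨ N (N y) = 0 ∨ N (N (x - y)) = 0 := by
    intro x y hx hy
    rcases h1 (N x) (N y) hx hy with e | e | e
    · exact Or.inl e
    · exact Or.inr (Or.inl e)
    · exact Or.inr (Or.inr (by rw [map_sub]; exact e))
  have h3 : ∀ x y, N (N (N x)) = 0 ∨ N (N (N y)) = 0 ∨ N (N (N (x - y))) = 0 := by
    intro x y
    rcases h2 (N x) (N y) (h4 x) (h4 y) with e | e | e
    · exact Or.inl e
    · exact Or.inr (Or.inl e)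
    · exact Or.inr (Or.inr (by rw [map_sub]; exact e))
  obtain ⟨k₄, hk₄⟩ : ∃ k₄, ∀ x, N (N (N x)) = 0 ∨ N (N (N (x - k₄))) = 0 := by
    by_cases hex : ∃ k, N (N (N k)) ≠ 0
    · obtain ⟨k, hk⟩ := hex
      exact ⟨k, fun x => (h3 x k).imp_right fun h => h.resolve_left hk⟩
    · push Not at hex
      exact ⟨0, fun x => Or.inl (hex x)⟩
  obtain ⟨k₃, hk₃⟩ : ∃ k₃, ∀ x, N (N (N x)) = 0 → N (N x) = 0 ∨ N (N (x - k₃)) = 0 := by
    by_cases hex : ∃ k, N (N (N k)) = 0 ∧ N (N k) ≠ 0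
    · obtain ⟨k, hk, hk'⟩ := hex
      exact ⟨k, fun x hx => (h2 x k hx hk).imp_right fun h => h.resolve_left hk'⟩
    · push Not at hex
      exact ⟨0, fun x hx => Or.inl (hex x hx)⟩
  refine ⟨N (N k₃), N (N k₄), fun x => ?_⟩
  have hsub : ∀ a b, N (N (a - b)) = 0 → N (N a) = N (N b) := by
    intro a b hab
    rw [map_sub, map_sub, sub_eq_zero] at hab
    exact hab
  rcases hk₄ x with e | e
  · rcases hk₃ x e with e' | e'
    · exact Or.inl e'
    · exact Or.inr (Or.inl (hsub _ _ e'))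
  · rcases hk₃ _ e with e' | e'
    · exact Or.inr (Or.inr (Or.inl (hsub _ _ e')))
    · right; right; right
      have h5 := hsub _ _ e'
      rw [map_sub, map_sub, sub_eq_iff_eq_add] at h5
      exact h5

/-- (R): `[Q, x]` modulo `⟨z⟩` has more than four elements -/
def Rk (Q : Subgroup X) (z x : X) : Prop :=
  ∀ c ∈ Q, ∀ d ∈ Q, ∃ q ∈ Q, ∀ y, y = q * x * q⁻¹ * x⁻¹ →
    y ≠ 1 ∧ y ≠ z ∧ y ≠ c ∧ y ≠ c * z ∧ y ≠ d ∧ y ≠ d * z ∧ y ≠ c * d ∧ y ≠ c * d * z

/-- no element `v` of order 4 with `C_Q(v) = C_Q(v²)` -/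
theorem no_four (h : Large Q z) {v : X} (hv : v * z = z * v) (hbb : v * v * (v * v) = 1)
    (hC : ∀ q ∈ Q, v * v * q = q * (v * v) → v * q = q * v) (hr : Rk Q z (v * v)) : False := by
  let g : centralizer ({z} : Set X) := ⟨v, mem_centralizer_singleton_iff.2 hv⟩
  let N : h.V →+ h.V :=
    { toFun := fun x => h.act g x + x
      map_zero' := by rw [map_zero, add_zero]
      map_add' := fun x y => by rw [map_add]; abel }
  have hN : ∀ x, N x = h.act g x + x := fun _ => rfl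
  have hgg : ∀ x, h.act g (h.act g x) = h.act (g * g) x := fun x => by rw [map_mul]; rfl
  have hNN : ∀ x, N (N x) = h.act (g * g) x + x := by
    intro x
    rw [hN, hN, map_add, hgg]
    have e : h.act (g * g) x + h.act g x + (h.act g x + x) =
        h.act (g * g) x + x + (h.act g x + h.act g x) := by abel
    rw [e, h.add_self, add_zero]
  have hggc : ((g * g : centralizer ({z} : Set X)) : X) = v * v := rfl
  have h4 : ∀ x, N (N (N (N x))) = 0 := by
    intro x
    rw [hNN, hNN, map_add]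
    have e1 : h.act (g * g) (h.act (g * g) x) = x := by
      have : h.act (g * g) (h.act (g * g) x) = h.act (g * g * (g * g)) x := by rw [map_mul (h.act) (g * g) (g * g)]; rfl
      rw [this]
      have e2 : g * g * (g * g) = 1 := Subtype.ext hbb
      rw [e2, map_one]
      rfl
    rw [e1]
    have e : x + h.act (g * g) x + (h.act (g * g) x + x) =
        (x + x) + (h.act (g * g) x + h.act (g * g) x) := by abel
    rw [e, h.add_self, h.add_self, add_zero]
  -- elements of `Q` over `ker N²`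
  have hker : ∀ q : Q, N (N (h.pr q)) = 0 → v * v * q = q * (v * v) ∨ v * v * q = q * (v * v) * z := by
    intro q hq
    rw [hNN, h.act_pr, add_eq_zero_iff_eq_neg, h.neg_eq, h.pr_eq_pr] at hq
    rcases hq with e | e
    · left
      have e' : v * v * q * (v * v)⁻¹ = q := e
      rwa [mul_inv_eq_iff_eq_mul] at e'
    · right
      have e' : v * v * q * (v * v)⁻¹ = q * z := e
      rw [mul_inv_eq_iff_eq_mul] at e'
      rw [e', mul_assoc, mul_assoc]
      congr 1
      calc z * (v * v) = (z * v) * v := by group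
        _ = (v * z) * v := by rw [hv]
        _ = v * (z * v) := by group
        _ = v * (v * z) := by rw [hv]
        _ = v * v * z := by group
  have hN0 : ∀ q : Q, v * v * q = q * (v * v) → N (h.pr q) = 0 := by
    intro q hq
    have h5 := hC q q.2 hq
    rw [hN, h.act_pr, add_eq_zero_iff_eq_neg, h.neg_eq, h.pr_eq_pr]
    left
    show v * q * v⁻¹ = q
    rw [h5, mul_inv_cancel_right]
  obtain ⟨c, d, hcd⟩ := small N (by
    intro x y hx hy
    obtain ⟨p, rfl⟩ := h.pr_surjective x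
    obtain ⟨q, rfl⟩ := h.pr_surjective y
    rcases hker p hx with e | e
    · exact Or.inl (hN0 p e)
    · rcases hker q hy with e' | e'
      · exact Or.inr (Or.inl (hN0 q e'))
      · right; right
        rw [sub_eq_add_neg, h.neg_eq, ← h.pr_mul]
        apply hN0
        show v * v * (p * q) = p * q * (v * v)
        calc v * v * (p * q) = (v * v * p) * q := by group
          _ = (p * (v * v) * z) * q := by rw [e]
          _ = p * (v * v) * (z * q) := by group
          _ = p * (v * v) * (q * z) := by rw [h.comm_z _ q.2]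
          _ = p * (v * v * q) * z := by group
          _ = p * (q * (v * v) * z) * z := by rw [e']
          _ = p * q * (v * v) * (z * z) := by group
          _ = p * q * (v * v) := by rw [h.z_sq, mul_one]) h4
  obtain ⟨c', rfl⟩ := h.pr_surjective c
  obtain ⟨d', rfl⟩ := h.pr_surjective d
  obtain ⟨q, hq, hy⟩ := hr c' c'.2 d' d'.2
  obtain ⟨y1, y2, y3, y4, y5, y6, y7, y8⟩ := hy _ rfl
  have hyQ : q * (v * v) * q⁻¹ * (v * v)⁻¹ ∈ Q := by
    have e : q * (v * v) * q⁻¹ * (v * v)⁻¹ = q * ((v * v) * q⁻¹ * (v * v)⁻¹) := by group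
    rw [e]
    exact Q.mul_mem hq (h.conj_mem (v * v) (by rw [mul_assoc, hv, ← mul_assoc, hv, mul_assoc]) _ (Q.inv_mem hq))
  have hpr : h.pr ⟨_, hyQ⟩ = N (N (h.pr ⟨q, hq⟩)) := by
    rw [hNN, h.act_pr]
    have e : (⟨_, hyQ⟩ : Q) = ⟨q, hq⟩ * (h.conjQ (g * g) ⟨q, hq⟩)⁻¹ := by
      apply Subtype.ext
      show q * (v * v) * q⁻¹ * (v * v)⁻¹ = q * ((v * v) * q * (v * v)⁻¹)⁻¹
      generalize v * v = w
      group
    rw [e, h.pr_mul, h.pr_inv, h.neg_eq, add_comm]
  rcases hcd (h.pr ⟨q, hq⟩) with e | e | e | e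
  · rw [← hpr, h.pr_eq_zero] at e
    rcases e with e | e
    · exact y1 e
    · exact y2 e
  · rw [← hpr, h.pr_eq_pr] at e
    rcases e with e | e
    · exact y3 e
    · exact y4 e
  · rw [← hpr, h.pr_eq_pr] at e
    rcases e with e | e
    · exact y5 e
    · exact y6 e
  · rw [← hpr, ← h.pr_mul, h.pr_eq_pr] at e
    rcases e with e | e
    · exact y7 e
    · exact y8 e

/-- the hypotheses (R), (LQ) -/
structure HypR (Q : Subgroup X) (z : X) : Prop where
  large : Large Q z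
  cen : Cen z
  r : ∀ x : X, x * z = z * x → x ∉ Q → x * x ∈ Q → Rk Q z x
  lq : ∀ a b : X, a * z = z * a → b * z = z * b → a * a = 1 → b * b = 1 → a * b = b * a → a ∉ Q → b ∉ Q →
    a * b ∉ Q → (∀ q ∈ Q, a * q = q * a → b * q = q * b) → (∀ q ∈ Q, b * q = q * b → a * q = q * a) →
    (∀ q ∈ Q, a * b * q = q * (a * b) → a * q = q * a) → False

theorem HypR.hyp (h : HypR Q z) : Hyp Q z where
  large := h.large
  cen := h.cen
  mv := fun _ hb _ _ _ _ x hx hxQ hxx => mv_of h.large hb hx (h.r x hx hxQ hxx)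
  lq := h.lq

/-- no `BadB` if all automorphisms are inner -/
theorem not_badB_of_inn [Finite X] (h : Hyp Q z) (hi : ∀ α : MulAut X, Inn α) (hB : BadB B D) : False :=
  not_badB h hB (hB.four_group hi)

/-- no `BadB` if all automorphisms are inner, from (R) and (LQ) -/
theorem HypR.not_badB_of_inn [Finite X] (h : HypR Q z) (hi : ∀ α : MulAut X, Inn α) (hB : BadB B D) : False :=
  not_badB h.hyp hB (hB.four_group hi)

end Cfsg.Agent.OddHalf.D4.Spor.LargeBad
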