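import Cfsg.Agent.Co2Type.Quad
import Cfsg.Agent.UGT.End.CoreE
import Cfsg.Agent.Transfer.ThompsonTransfer

/-!
# The field `bal` of the sheet for groups of large extraspecial type

`Q` large extraspecial (`Large Q z`), `z` is 2-central, a Sylow 2-subgroup `S` normalises a four-group `⟨z, z₁⟩` whose
involutions are conjugate to `z`, `K` has no subgroup of index 2. Then `O(C(a)) = 1` for every involution `a`.

Proof: by Thompson's transfer lemma `a` is conjugate to an element of `C_S(z₁)`. So `a` commutes with a four-group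
`V = ⟨z, z₁⟩`, and for `v ∈ V#` the conjugate `Q_v` of `Q` is normalised by `a` and by `C_I(v)`, `I = O(C(a))`:
Thompson's `A × B` lemma gives `C_I(v) ≤ C(Q_v)`, so `C_I(v) = 1` for all `v ∈ V#`.
-/

set_option autoImplicit false

namespace Cfsg.Agent.OddHalf.D4.Spor.LargeBal

open Subgroup Cfsg Cfsg.Agent.Co2Type.Quad

variable {K : Type*} [Group K] {Q : Subgroup K} {z : K}

theorem isPGroup (h : Large Q z) : IsPGroup 2 Q := by
  intro x
  refine ⟨2, Subtype.ext ?_⟩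
  show (x : K) ^ 2 ^ 2 = 1
  have e : (x : K) ^ 2 ^ 2 = ((x : K) * x) * ((x : K) * x) := by
    rw [show (2 : ℕ) ^ 2 = 2 + 2 by norm_num, pow_add, pow_two]
  rw [e]
  rcases h.sq x x.2 with h1 | h1
  · rw [h1, one_mul]
  · rw [h1, h.z_sq]

/-- `O(C(a)) = 1` if `a` commutes with a four-group all of whose involutions are conjugate to `z`. -/
theorem bal_of_four [Finite K] (h : Large Q z) {a z₁ z₂ : K} (haa : a * a = 1) (h₁ : ∃ g, g * z * g⁻¹ = z₁)
    (h₂ : ∃ g, g * z * g⁻¹ = z₂) (h₃ : ∃ g, g * z * g⁻¹ = z₁ * z₂) (hc : z₁ * z₂ = z₂ * z₁)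
    (hne : z₁ ≠ z₂) (ha₁ : a * z₁ = z₁ * a) (ha₂ : a * z₂ = z₂ * a) {I : Subgroup K}
    (hI : ∀ i ∈ I, i * a = a * i) (hn : ∀ c : K, c * a = a * c → ∀ i ∈ I, c * i * c⁻¹ ∈ I)
    (ho : Odd (Nat.card ↥I)) : I = ⊥ := by
  have conj : ∀ v : K, (∃ g, g * z * g⁻¹ = v) → v * v = 1 ∧ v ≠ 1 := by
    rintro v ⟨g, rfl⟩
    refine ⟨?_, ?_⟩
    · calc g * z * g⁻¹ * (g * z * g⁻¹) = g * (z * z) * g⁻¹ := by group
        _ = 1 := by rw [h.z_sq]; group
    · intro h1
      apply h.z_ne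
      calc z = g⁻¹ * (g * z * g⁻¹) * g := by group
        _ = 1 := by rw [h1]; group
  obtain ⟨e1, n1⟩ := conj z₁ h₁
  obtain ⟨e2, n2⟩ := conj z₂ h₂
  have i1 : z₁⁻¹ = z₁ := inv_eq_of_mul_eq_one_left e1
  have i2 : z₂⁻¹ = z₂ := inv_eq_of_mul_eq_one_left e2
  have f1 : z₁ * (z₁ * z₂) = z₂ := by rw [← mul_assoc, e1, one_mul]
  have f2 : z₂ * (z₁ * z₂) = z₁ := by rw [hc, ← mul_assoc, e2, one_mul]
  have f3 : z₁ * z₂ * z₁ = z₂ := by rw [hc, mul_assoc, e1, mul_one]
  have f4 : z₁ * z₂ * z₂ = z₁ := by rw [mul_assoc, e2, mul_one]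
  have f5 : z₁ * z₂ * (z₁ * z₂) = 1 := by rw [← mul_assoc, f3, e2]
  let V : Subgroup K :=
    { carrier := {1, z₁, z₂, z₁ * z₂}
      one_mem' := by simp
      mul_mem' := by
        intro x y hx hy
        simp only [Set.mem_insert_iff, Set.mem_singleton_iff] at hx hy ⊢
        rcases hx with rfl | rfl | rfl | rfl <;> rcases hy with rfl | rfl | rfl | rfl <;>
          simp [e1, e2, f1, f2, f3, f4, f5, hc.symm]
      inv_mem' := by
        intro x hx
        simp only [Set.mem_insert_iff, Set.mem_singleton_iff] at hx ⊢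
        rcases hx with rfl | rfl | rfl | rfl
        · simp
        · rw [i1]; simp
        · rw [i2]; simp
        · rw [mul_inv_rev, i1, i2, ← hc]; simp }
  have memV : ∀ x, x ∈ V ↔ x = 1 ∨ x = z₁ ∨ x = z₂ ∨ x = z₁ * z₂ := by
    intro x
    show x ∈ ({1, z₁, z₂, z₁ * z₂} : Set K) ↔ _
    simp only [Set.mem_insert_iff, Set.mem_singleton_iff]
  have hVa : ∀ v ∈ V, v * a = a * v := by
    intro v hv
    rcases (memV v).1 hv with rfl | rfl | rfl | rfl
    · rw [one_mul, mul_one]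
    · exact ha₁.symm
    · exact ha₂.symm
    · rw [mul_assoc, ← ha₂, ← mul_assoc, ← ha₁, mul_assoc]
  have hVc : ∀ v ∈ V, v ≠ 1 → ∃ g, g * z * g⁻¹ = v := by
    intro v hv hv1
    rcases (memV v).1 hv with rfl | rfl | rfl | rfl
    · exact absurd rfl hv1
    · exact h₁
    · exact h₂
    · exact h₃
  have hVs : ∀ v ∈ V, v * v = 1 := by
    intro v hv
    by_cases hv1 : v = 1
    · rw [hv1, one_mul]
    · exact (conj v (hVc v hv hv1)).1
  have hVE : IsElementaryAbelian 2 V := by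
    refine ⟨⟨⟨fun x y => Subtype.ext ?_⟩⟩, fun x hx => by rw [pow_two]; exact hVs x hx⟩
    show (x : K) * y = y * x
    have h1 := hVs _ (V.mul_mem x.2 y.2)
    calc (x : K) * y = ((x : K) * y)⁻¹ := eq_inv_of_mul_eq_one_left h1
      _ = (y : K)⁻¹ * (x : K)⁻¹ := mul_inv_rev _ _
      _ = y * x := by rw [inv_eq_of_mul_eq_one_left (hVs x x.2), inv_eq_of_mul_eq_one_left (hVs y y.2)]
  have hV4 : 4 ≤ Nat.card V := by
    classical
    have hsub : (({1, z₁, z₂, z₁ * z₂} : Finset K) : Set K) ⊆ V := by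
      intro t ht
      simp only [Finset.coe_insert, Finset.coe_singleton, Set.mem_insert_iff, Set.mem_singleton_iff] at ht
      exact (memV t).2 ht
    have h2 := Set.ncard_le_ncard hsub (Set.toFinite _)
    have n3 : z₁ * z₂ ≠ 1 := by
      intro h3
      apply hne
      rw [mul_eq_one_iff_eq_inv, i2] at h3
      exact h3
    rw [Set.ncard_coe_finset, Finset.card_insert_of_notMem, Finset.card_insert_of_notMem,
      Finset.card_insert_of_notMem, Finset.card_singleton] at h2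
    · exact h2
    · simp only [Finset.mem_singleton]
      exact fun h3 => n1 (by simpa using h3.symm)
    · simp only [Finset.mem_insert, Finset.mem_singleton, not_or]
      exact ⟨hne, fun h3 => n2 (by simpa using h3.symm)⟩
    · simp only [Finset.mem_insert, Finset.mem_singleton, not_or]
      exact ⟨fun h3 => n1 h3.symm, fun h3 => n2 h3.symm, fun h3 => n3 h3.symm⟩
  refine UGT.End.CoreE.eq_bot_of_family haa (H := ⊤) hVE hV4 le_top hVa ho hI (fun c _ => hn c) ?_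
  intro v hv hv1
  obtain ⟨k, hk⟩ := hVc v hv hv1
  -- conjugation by `k`
  have hcm : ∀ x : K, x * v = v * x → (k⁻¹ * x * k) * z = z * (k⁻¹ * x * k) := by
    intro x hx
    rw [← hk] at hx
    calc k⁻¹ * x * k * z = k⁻¹ * (x * (k * z * k⁻¹)) * k := by group
      _ = z * (k⁻¹ * x * k) := by rw [hx]; group
  have memF : ∀ x, x ∈ Q.map (MulAut.conj k).toMonoidHom ↔ k⁻¹ * x * k ∈ Q := by
    intro x
    constructor
    · rintro ⟨y, hy, rfl⟩
      show k⁻¹ * (k * y * k⁻¹) * k ∈ Q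
      rwa [show k⁻¹ * (k * y * k⁻¹) * k = y by group]
    · intro hx
      exact ⟨_, hx, by show k * (k⁻¹ * x * k) * k⁻¹ = x; group⟩
  have hconj : ∀ x : K, x * v = v * x → ∀ e ∈ Q.map (MulAut.conj k).toMonoidHom,
      x * e * x⁻¹ ∈ Q.map (MulAut.conj k).toMonoidHom := by
    intro x hx e he
    rw [memF] at he ⊢
    have h1 := h.conj_mem _ (hcm x hx) _ he
    rwa [show k⁻¹ * x * k * (k⁻¹ * e * k) * (k⁻¹ * x * k)⁻¹ = k⁻¹ * (x * e * x⁻¹) * k by group] at h1
  refine ⟨Q.map (MulAut.conj k).toMonoidHom, le_top, (isPGroup h).map _, hconj a (hVa v hv).symm,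
    fun r _ hrv => hconj r hrv, fun r hr hrv hre => ?_⟩
  have h1 : k⁻¹ * r * k ∈ Q := by
    refine h.self _ (hcm r hrv) fun x hx => ?_
    have h2 := hre (k * x * k⁻¹) ⟨x, hx, rfl⟩
    calc k⁻¹ * r * k * x = k⁻¹ * (r * (k * x * k⁻¹)) * k := by group
      _ = x * (k⁻¹ * r * k) := by rw [h2]; group
  exact UGT.End.CoreE.eq_one_of_mem_both ((isPGroup h).map (MulAut.conj k).toMonoidHom) ho
    ((memF r).2 h1) hr

/-- **The field `bal`** for a group of large extraspecial type. -/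
theorem bal [Finite K] (h : Large Q z) (hG : ∀ H : Subgroup K, H.index ≠ 2) {S : Sylow 2 K}
    (hS : ∀ s ∈ S, s * z = z * s) {z₁ : K} (hz₁ : z₁ ≠ z) (h₁ : ∃ g, g * z * g⁻¹ = z₁)
    (h₂ : ∃ g, g * z * g⁻¹ = z * z₁) (hc : z * z₁ = z₁ * z)
    (hS₁ : ∀ s ∈ S, s * z₁ * s⁻¹ = z₁ ∨ s * z₁ * s⁻¹ = z * z₁) :
    ∀ a : K, a * a = 1 → a ≠ 1 → ∀ I : Subgroup K, (∀ i ∈ I, i * a = a * i) →
      (∀ c : K, c * a = a * c → ∀ i ∈ I, c * i * c⁻¹ ∈ I) → Odd (Nat.card ↥I) → I = ⊥ := by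
  have : Fact (Nat.Prime 2) := ⟨Nat.prime_two⟩
  intro a haa ha1 I hI hn ho
  -- `a` is conjugate to an element of `S ∩ C(z₁)`
  obtain ⟨g, hgS, hg₁⟩ : ∃ g : K, g * a * g⁻¹ ∈ S ∧ g * a * g⁻¹ * z₁ = z₁ * (g * a * g⁻¹) := by
    by_cases hall : ∀ s ∈ S, s * z₁ = z₁ * s
    · have h2 : IsPGroup 2 (zpowers a) := UGT.End.CoreE.isPGroup_zpowers haa
      obtain ⟨T, hT⟩ := h2.exists_le_sylow
      obtain ⟨g, hg⟩ := MulAction.exists_smul_eq K T S
      have h3 : g * a * g⁻¹ ∈ S := by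
        rw [← hg]
        exact ⟨a, hT (mem_zpowers a), rfl⟩
      exact ⟨g, h3, hall _ h3⟩
    · push Not at hall
      obtain ⟨s₀, hs₀, hs₀n⟩ := hall
      have key : ∀ s ∈ S, s * z₁ ≠ z₁ * s → s * z₁ * s⁻¹ = z * z₁ := by
        intro s hs hsn
        refine (hS₁ s hs).resolve_left fun h3 => hsn ?_
        calc s * z₁ = s * z₁ * s⁻¹ * s := by group
          _ = z₁ * s := by rw [h3]
      have hidx : (S ⊓ centralizer ({z₁} : Set K) : Subgroup K).relIndex (S : Subgroup K) = 2 := by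
        rw [relIndex, index_eq_two_iff]
        refine ⟨⟨s₀, hs₀⟩, fun b => ?_⟩
        have hb := b.2
        have m1 : ∀ x : S, x ∈ (S ⊓ centralizer ({z₁} : Set K) : Subgroup K).subgroupOf (S : Subgroup K) ↔
            (x : K) * z₁ = z₁ * x := by
          intro x
          rw [mem_subgroupOf, mem_inf, mem_centralizer_singleton_iff]
          exact ⟨fun h3 => h3.2, fun h3 => ⟨x.2, h3⟩⟩
        rw [m1, m1]
        have hz : (b : K) * z = z * b := hS b hb
        by_cases hb1 : (b : K) * z₁ = z₁ * b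
        · right
          refine ⟨hb1, fun h3 => hs₀n ?_⟩
          have h3 : (b : K) * s₀ * z₁ = z₁ * (b * s₀) := h3
          calc s₀ * z₁ = (b : K)⁻¹ * (b * s₀ * z₁) := by group
            _ = (b : K)⁻¹ * (z₁ * b) * s₀ := by rw [h3]; group
            _ = z₁ * s₀ := by rw [← hb1]; group
        · left
          refine ⟨?_, hb1⟩
          show (b : K) * s₀ * z₁ = z₁ * (b * s₀)
          have h4 := key _ hb hb1
          have h5 := key _ hs₀ hs₀n
          calc (b : K) * s₀ * z₁ = b * (s₀ * z₁ * s₀⁻¹) * s₀ := by group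
            _ = (b * z) * z₁ * s₀ := by rw [h5]; group
            _ = z * (b * z₁ * (b : K)⁻¹) * b * s₀ := by rw [hz]; group
            _ = (z * z) * z₁ * (b * s₀) := by rw [h4]; group
            _ = z₁ * (b * s₀) := by rw [h.z_sq, one_mul]
      rcases Transfer.ThompsonTransfer.thompson_transfer S (S ⊓ centralizer ({z₁} : Set K)) inf_le_left hidx a
        (by rw [pow_two]; exact haa) with ⟨M, -, hM, -⟩ | ⟨g, hg⟩
      · exact absurd hM (hG M)
      · exact ⟨g, hg.1, mem_centralizer_singleton_iff.1 hg.2⟩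
  -- conjugate `I`
  have h1 : I.map (MulAut.conj g).toMonoidHom = ⊥ := by
    refine bal_of_four h (a := g * a * g⁻¹) (z₁ := z) (z₂ := z₁) ?_ ⟨1, by group⟩ h₁ h₂ hc hz₁.symm
      (hS _ hgS) hg₁ ?_ ?_ ?_
    · calc g * a * g⁻¹ * (g * a * g⁻¹) = g * (a * a) * g⁻¹ := by group
        _ = 1 := by rw [haa]; group
    · rintro _ ⟨i, hi, rfl⟩
      show g * i * g⁻¹ * (g * a * g⁻¹) = g * a * g⁻¹ * (g * i * g⁻¹)
      calc g * i * g⁻¹ * (g * a * g⁻¹) = g * (i * a) * g⁻¹ := by group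
        _ = g * a * g⁻¹ * (g * i * g⁻¹) := by rw [hI i hi]; group
    · rintro c hc _ ⟨i, hi, rfl⟩
      refine ⟨(g⁻¹ * c * g) * i * (g⁻¹ * c * g)⁻¹, hn _ ?_ i hi, ?_⟩
      · calc g⁻¹ * c * g * a = g⁻¹ * (c * (g * a * g⁻¹)) * g := by group
          _ = a * (g⁻¹ * c * g) := by rw [hc]; group
      · show g * ((g⁻¹ * c * g) * i * (g⁻¹ * c * g)⁻¹) * g⁻¹ = c * (g * i * g⁻¹) * c⁻¹
        group
    · rw [Nat.card_congr (I.equivMapOfInjective _ (MulAut.conj g).injective).toEquiv.symm]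
      exact ho
  rw [eq_bot_iff]
  intro i hi
  have h2 : g * i * g⁻¹ ∈ I.map (MulAut.conj g).toMonoidHom := ⟨i, hi, rfl⟩
  rw [h1, mem_bot] at h2
  rw [mem_bot]
  calc i = g⁻¹ * (g * i * g⁻¹) * g := by group
    _ = 1 := by rw [h2]; group

end Cfsg.Agent.OddHalf.D4.Spor.LargeBal
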