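import Cfsg.Agent.KFacts.SheetInner
import Cfsg.Agent.OddHalf.D4.Spor.LargeBad
import Cfsg.Agent.OddHalf.D4.Spor.LargeBal
import Cfsg.Agent.OddHalf.D4.Spor.OfBasic

/-!
# D4, sporadic components: the sheet of a group with a large extraspecial subgroup and `Out = 1` (helper865)

`sheet_of_data` : from `SheetInner.Data Q z L` (D8), (R) and (LQ) (`LargeBad.HypR`), and a Sylow 2-subgroup of `C(z)`
fixing the class of a conjugate `x₀ ≠ z` of `z` in `Q`.
-/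

set_option autoImplicit false

namespace Cfsg.Agent.OddHalf.D4.Spor.LargeSheet

open Subgroup Cfsg.Agent.Co2Type.Quad Cfsg.Agent.KFacts.AutLarge Cfsg.Agent.KFacts Cfsg.Agent.OddHalf.D4.Spor.LargeBad

variable {K : Type*} [Group K] {Q : Subgroup K} {z : K} {L : Type*} [Group L]

theorem sheet_of_data [Finite K] (D : SheetInner.Data Q z L) (hR : HypR Q z)
    (hG : ∀ H : Subgroup K, H.index ≠ 2) {S : Sylow 2 K} (hS : ∀ s ∈ S, s * z = z * s) {x₀ : K} (hx₀ : x₀ ∈ Q)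
    (hxz : x₀ ≠ z) (hg₀ : ∃ g, g * z * g⁻¹ = x₀) (hSx : ∀ s ∈ S, Eqz z (s * x₀ * s⁻¹) x₀) : Spor.Sheet K := by
  have h := D.large
  have hi : ∀ α : MulAut K, Inn α := D.allInner
  obtain ⟨g₀, hg₀⟩ := hg₀
  have hx1 : x₀ ≠ 1 := by
    rintro rfl
    apply h.z_ne
    calc z = g₀⁻¹ * (g₀ * z * g₀⁻¹) * g₀ := by group
      _ = 1 := by rw [hg₀]; group
  -- `z x₀` is conjugate to `x₀`
  obtain ⟨q, hq, hqx⟩ : ∃ q ∈ Q, q * x₀ ≠ x₀ * q := by
    by_contra hcon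
    push Not at hcon
    rcases h.cent x₀ hx₀ (fun y hy => (hcon y hy).symm) with e | e
    · exact hx1 e
    · exact hxz e
  have e1 := (h.comm q hq x₀ hx₀).resolve_left hqx
  have e2 : q * x₀ * q⁻¹ = z * x₀ := by
    rw [e1]
    calc x₀ * q * z * q⁻¹ = x₀ * (q * z) * q⁻¹ := by group
      _ = x₀ * (z * q) * q⁻¹ := by rw [h.comm_z _ hq]
      _ = x₀ * z := by group
      _ = z * x₀ := h.comm_z _ hx₀
  refine Sheet.of_basic_tab D.sheet.basic ?_ (out2_of_inn hi)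
    (tab_of_not_badB fun B D' hB => hR.not_badB_of_inn hi hB)
  refine LargeBal.bal h hG hS hxz ⟨g₀, hg₀⟩ ⟨q * g₀, ?_⟩ (h.comm_z _ hx₀).symm fun s hs => ?_
  · rw [← e2, ← hg₀]; group
  · rcases hSx s hs with e | e
    · exact Or.inl e
    · exact Or.inr (e.trans (h.comm_z _ hx₀))

end Cfsg.Agent.OddHalf.D4.Spor.LargeSheet
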