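import Cfsg.Agent.OddHalf.D4.Spor.Fi22Tri
import Cfsg.Agent.OddHalf.D4.Spor.OfBasic
import Cfsg.Agent.OddHalf.D4.Spor.Transport
import Cfsg.Agent.OddHalf.D8.Fi22.KAll

/-!
# ODD half, D4: the fact sheet of `Fi22` (helper368)
-/

set_option autoImplicit false
set_option linter.unusedSectionVars false

namespace Cfsg.Agent.OddHalf.D4.Spor.Fi22

open Subgroup Cfsg Cfsg.Agent.R01.FiFusion Cfsg.Agent.R01.FiFacts Cfsg.Agent.StdFi22.TLev
open Cfsg.Agent.OddHalf.D8.Fi22

section lev

variable {P : Type*} [Group P] [Finite P] {F : Type*} [Field F] [Fintype F]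
  {hF : Fintype.card F = 2 ^ 2} {T : Set P} (B : Bas hF T) {N : Subgroup P}
  (no : ∀ x ∈ T, ∀ y ∈ T, x ≠ y → x * y = y * x → x * y ∉ N)
include B no

theorem mem_of {n t : P} (ht : t ∈ T) (hn : n ∈ N) (h : t * n * t⁻¹ ∈ N) : t * (n * t * n⁻¹) ∈ N := by
  have h1 : t * n * t⁻¹ * n⁻¹ ∈ N := mul_mem h (inv_mem hn)
  rw [B.inv_self ht] at h1
  have e : t * (n * t * n⁻¹) = t * n * t * n⁻¹ := by group
  rwa [e]

theorem comm_of {n t : P} (ht : t ∈ T) (h : t * (n * t * n⁻¹) ∈ N)
    (hc : t * (n * t * n⁻¹) = n * t * n⁻¹ * t) : n * t = t * n := by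
  by_cases he : t = n * t * n⁻¹
  · calc n * t = n * t * n⁻¹ * n := by group
      _ = t * n := by rw [← he]
  · exact absurd h (no t ht _ (B.conjT n ht) he hc)

/-- the case of a transposition -/
theorem main_one {a : P} (ha : a ∈ T) (hN : ∀ n ∈ N, n * a = a * n)
    (norm : ∀ g : P, g * a = a * g → ∀ n ∈ N, g * n * g⁻¹ ∈ N) :
    ∀ n ∈ N, ∀ t ∈ T, t * a = a * t → n * t = t * n := by
  intro n hn t ht hta
  have yT : n * t * n⁻¹ ∈ T := B.conjT n ht
  have hty := mem_of B no ht hn (norm t hta n hn)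
  by_cases hc : t * (n * t * n⁻¹) = n * t * n⁻¹ * t
  · exact comm_of B no ht hty hc
  · exfalso
    have ya := conj_comm_of hta (hN n hn)
    obtain ⟨g, hg, ga, gne, gt, gy⟩ := Opp.exists_opp_mem B ha yT ht ya hta hc
    exact gy (bridge B ht yT hg hty gt gne (norm g ga) no)

/-- the case of a product of two transpositions -/
theorem main_two {a b : P} (ha : a ∈ T) (hb : b ∈ T) (hab : a ≠ b) (cab : a * b = b * a)
    (hN : ∀ n ∈ N, n * (a * b) = a * b * n)
    (norm : ∀ g : P, g * (a * b) = a * b * g → ∀ n ∈ N, g * n * g⁻¹ ∈ N) : ∀ n ∈ N, n * n = 1 := by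
  have cw : ∀ {t : P}, t * a = a * t → t * b = b * t → t * (a * b) = a * b * t := by
    intro t h1 h2
    calc t * (a * b) = (t * a) * b := by group
      _ = a * (t * b) := by rw [h1]; group
      _ = a * b * t := by rw [h2]; group
  have fix : ∀ t ∈ T, t * (a * b) = a * b * t → (t = a ∨ t = b) → ∀ n ∈ N, n * t = t * n := by
    intro t ht htw htab n hn
    have hty := mem_of B no ht hn (norm t htw n hn)
    apply comm_of B no ht hty
    have yT : n * t * n⁻¹ ∈ T := B.conjT n ht
    obtain ⟨h1, h2⟩ := B.comm_of_pair ha hb yT hab cab (conj_comm_of htw (hN n hn))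
    rcases htab with rfl | rfl
    · exact h1.symm
    · exact h2.symm
  have fa := fix a ha (cw rfl cab) (Or.inl rfl)
  have fb := fix b hb (cw cab.symm rfl) (Or.inr rfl)
  obtain ⟨c, htri⟩ := B.third ha hb hab cab
  intro n hn
  refine sq_one B htri fun t ht ta tb _ => ?_
  have yT : n * t * n⁻¹ ∈ T := B.conjT n ht
  have hty := mem_of B no ht hn (norm t (cw ta tb) n hn)
  by_cases hcm : t * (n * t * n⁻¹) = n * t * n⁻¹ * t
  · exact comm_of B no ht hty hcm
  · exfalso
    have ya := conj_comm_of ta (fa n hn)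
    have yb := conj_comm_of tb (fb n hn)
    obtain ⟨g, hg, ga, gb, gt, gne, gy, -⟩ := exists_bridge B ha hb ht yT hab cab ta tb ya yb hcm
    exact gy (bridge B ht yT hg hty gt gne (norm g (cw ga gb)) no)

end lev

/-! ### The group `Fi22` -/

open Cfsg.Agent.StdFi22.MainFi22 (bas)
open Cfsg.Agent.R08.AutT (T)

theorem kt : KTrans Spor.Fi22 T := kTrans0

/-- products of two commuting transpositions are 2-central -/
theorem cen_two {a b : Spor.Fi22} (ha : a ∈ T) (hb : b ∈ T) (hab : a ≠ b) (cab : a * b = b * a) :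
    Cen (a * b) := by
  have hT : ∀ x ∈ T, x ∈ (MulEquiv.refl Spor.Fi22).symm '' Cfsg.Agent.R01.Fi22Facts.T :=
    fun x hx => ⟨x, hx, rfl⟩
  obtain ⟨R, hR⟩ := all_of_iso (MulEquiv.refl Spor.Fi22) (hT a ha) (hT b hb) hab cab
  obtain ⟨S, -, hS, -⟩ := hR.basic.syl
  exact ⟨S, hS⟩

/-- the involutions -/
theorem inv_cases {w : Spor.Fi22} (h : w * w = 1) (h1 : w ≠ 1) : w ∈ T ∨
    (∃ a ∈ T, ∃ b ∈ T, a ≠ b ∧ a * b = b * a ∧ w = a * b) ∨ ∃ a b c, Tri T a b c ∧ w = a * b * c := by
  rcases Cfsg.Agent.R08.AutT.tFacts.inv w h (Cfsg.Agent.R08.AutT.hfix w h) with h2 | h2 | h2 | h2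
  · exact absurd h2 h1
  · exact Or.inl h2
  · exact Or.inr (Or.inl h2)
  · exact Or.inr (Or.inr h2)

/-- an element commuting with the transpositions which commute with `a` -/
theorem eq_of_comm {a n : Spor.Fi22} (ha : a ∈ T) (h : ∀ t ∈ T, t * a = a * t → n * t = t * n) :
    n = 1 ∨ n = a := by
  have hc := Cfsg.Agent.StdFi22.MainFi22.center_eq
  rcases kt.cJ ha (MulAut.conj n) (fun c hc h1 => by
    rw [MulAut.conj_apply, h c hc h1, mul_inv_cancel_right]) with h1 | h1
  · left
    apply hc n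
    intro x
    have h2 : n * x * n⁻¹ = x := DFunLike.congr_fun h1 x
    calc n * x = n * x * n⁻¹ * n := by group
      _ = x * n := by rw [h2]
  · right
    have h3 : a⁻¹ * n = 1 := by
      apply hc
      intro x
      have h2 : n * x * n⁻¹ = a * x * a⁻¹ := DFunLike.congr_fun h1 x
      calc a⁻¹ * n * x = a⁻¹ * (n * x * n⁻¹) * n := by group
        _ = a⁻¹ * (a * x * a⁻¹) * n := by rw [h2]
        _ = x * (a⁻¹ * n) := by group
    calc n = a * (a⁻¹ * n) := by group
      _ = a := by rw [h3, mul_one]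

theorem odd_sq {X : Type*} [Group X] {I : Subgroup X} (hI : Odd (Nat.card I)) {n : X} (hn : n ∈ I)
    (h : n * n = 1) : n = 1 := by
  have h1 : orderOf (⟨n, hn⟩ : I) ∣ 2 := orderOf_dvd_of_pow_eq_one (by
    rw [pow_two]; exact Subtype.ext h)
  have h2 : orderOf (⟨n, hn⟩ : I) ∣ Nat.card I := orderOf_dvd_natCard _
  have h3 : orderOf (⟨n, hn⟩ : I) = 1 := Nat.eq_one_of_dvd_coprimes hI.coprime_two_left h1 h2
  exact congrArg Subtype.val (orderOf_eq_one_iff.1 h3)

theorem mul_sq_of {X : Type*} [Group X] {a b : X} (ha : a * a = 1) (hb : b * b = 1) (h : a * b = b * a) :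
    a * b * (a * b) = 1 := by
  calc a * b * (a * b) = a * (b * a) * b := by group
    _ = (a * a) * (b * b) := by rw [← h]; group
    _ = 1 := by rw [ha, hb, one_mul]

/-- `O(C(a)) = 1` -/
theorem bal (a : Spor.Fi22) (ha : a * a = 1) (ha1 : a ≠ 1) (I : Subgroup Spor.Fi22)
    (hI : ∀ i ∈ I, i * a = a * i) (norm : ∀ c : Spor.Fi22, c * a = a * c → ∀ i ∈ I, c * i * c⁻¹ ∈ I)
    (hodd : Odd (Nat.card ↥I)) : I = ⊥ := by
  have hfin : Finite Spor.Fi22 := Cfsg.Agent.R01.Fi22Facts.finite
  have no : ∀ x ∈ T, ∀ y ∈ T, x ≠ y → x * y = y * x → x * y ∉ I := by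
    intro x hx y hy hne hc hxy
    have h1 := odd_sq hodd hxy (mul_sq_of (bas.sq hx) (bas.sq hy) hc)
    apply hne
    rw [← bas.inv_self hy]
    exact eq_inv_of_mul_eq_one_left h1
  rw [eq_bot_iff]
  intro n hn
  rw [mem_bot]
  rcases inv_cases ha ha1 with h | ⟨x, hx, y, hy, hne, hc, rfl⟩ | ⟨x, y, z, h, rfl⟩
  · rcases eq_of_comm h (main_one bas no h hI norm n hn) with h1 | h1
    · exact h1
    · exact odd_sq hodd hn (by rw [h1]; exact ha)
  · exact odd_sq hodd hn (main_two bas no hx hy hne hc hI norm n hn)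
  · exact odd_sq hodd hn (sq_N bas h hI norm no n hn)

theorem card_le {X : Type*} [Group X] [Finite X] {N : Subgroup X} {w : X} (h : ∀ n ∈ N, n = 1 ∨ n = w) :
    Nat.card N ≤ 2 := by
  have hle : (N : Set X) ⊆ {1, w} := by
    intro n hn
    rcases h n hn with h | h
    · exact Or.inl h
    · exact Or.inr h
  have h1 : (N : Set X).ncard ≤ ({1, w} : Set X).ncard := Set.ncard_le_ncard hle (Set.toFinite _)
  have h2 : ({1, w} : Set X).ncard ≤ 2 := Set.ncard_insert_le _ _ |>.trans (by rw [Set.ncard_singleton])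
  exact h1.trans h2

theorem not_bad (w : Spor.Fi22) (N : Subgroup Spor.Fi22) : ¬ Bad w N := by
  intro hb
  have hfin : Finite Spor.Fi22 := Cfsg.Agent.R01.Fi22Facts.finite
  have no : ∀ x ∈ T, ∀ y ∈ T, x ≠ y → x * y = y * x → x * y ∉ N := by
    intro x hx y hy hne hc hxy
    refine hb.non _ hxy (mul_sq_of (bas.sq hx) (bas.sq hy) hc) ?_ (cen_two hx hy hne hc)
    intro h1
    apply hne
    rw [← bas.inv_self hy]
    exact eq_inv_of_mul_eq_one_left h1
  have key : ∀ n ∈ N, n = 1 ∨ n = w := by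
    rcases inv_cases hb.sq hb.ne with h | ⟨x, hx, y, hy, hne, hc, rfl⟩ | ⟨x, y, z, h, rfl⟩
    · exact fun n hn => eq_of_comm h (main_one bas no h hb.le hb.norm n hn)
    · exact absurd hb.mem (no x hx y hy hne hc)
    · exact eq_w bas h hb.le hb.norm no hb.mem
  have h1 := card_le key
  have h2 := Nat.le_of_dvd Nat.card_pos hb.four
  omega

theorem out2 (α : MulAut Spor.Fi22) (hα : ¬ Inn α) (w : Spor.Fi22) (hw : w * w = 1) (hw1 : w ≠ 1)
    (hcen : ¬ Cen w) (hαw : α w = w) (h : ∀ c : Spor.Fi22, c * w = w * c → α c = c ∨ α c = w * c) : False := by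
  have hfin : Finite Spor.Fi22 := Cfsg.Agent.R01.Fi22Facts.finite
  rcases inv_cases hw hw1 with hT | ⟨x, hx, y, hy, hne, hc, rfl⟩ | ⟨x, y, z, ht, rfl⟩
  · -- `w` is a transposition
    have key : ∀ c ∈ T, c * w = w * c → α c = c := by
      intro c hc hcw
      by_cases hne : c = w
      · rw [hne, hαw]
      rcases h c hcw with h1 | h1
      · exact h1
      · exfalso
        apply bas.tf.two w hT c hc (Ne.symm hne) hcw.symm
        rw [← h1]
        exact kt.aut α c hc
    rcases kt.cJ hT α key with h1 | h1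
    · exact hα ⟨1, by rw [h1, map_one]⟩
    · exact hα ⟨w, h1⟩
  · exact hcen (cen_two hx hy hne hc)
  · -- `w` is a product of three commuting transpositions
    obtain ⟨l, hodd, h1, h2, h3⟩ := Cfsg.Agent.StdFi22.TLev.Bas.hept bas ht
    obtain ⟨k, hk⟩ := SylAut.inner_of_fix (β := α) hodd (fun c hc => (h1 c hc).1) h3 (fun c hc => by
      obtain ⟨hcT, cx, cy, cz⟩ := h1 c hc
      have hcw := comm_w bas ht cx cy cz
      rcases h c hcw with h4 | h4
      · exact h4
      · exfalso
        have hT' : x * y * z * c ∈ T := by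
          rw [← h4]
          exact kt.aut α c hcT
        -- `w = (w c) c` would be a product of two commuting transpositions
        apply hcen
        have hcc := bas.sq hcT
        have e : x * y * z = x * y * z * c * c := by rw [mul_assoc _ c c, hcc, mul_one]
        have hcomm : x * y * z * c * c = c * (x * y * z * c) := by
          rw [← e]
          calc x * y * z = x * y * z * c * c := e
            _ = c * (x * y * z) * c := by rw [hcw]
            _ = _ := by group
        have hne : x * y * z * c ≠ c := by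
          intro h5
          apply hw1
          exact mul_eq_right.1 h5
        rw [e]
        exact cen_two hT' hcT hne hcomm)
    exact hα ⟨k, hk⟩

/-- **The fact sheet of `Fi22`.** -/
theorem sheet0 : Sheet Spor.Fi22 := by
  have hfin : Finite Spor.Fi22 := Cfsg.Agent.R01.Fi22Facts.finite
  obtain ⟨T', d, d', R, hA⟩ := exists_all (K := Spor.Fi22) ⟨MulEquiv.refl _⟩
  refine Sheet.of_basic_tab hA.basic bal ?_ (tab_of_not_bad not_bad)
  intro α hα _ w hw hw1 hcen hαw h _ _ _ _ _
  exact out2 α hα w hw hw1 hcen hαw h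

theorem sheet {X : Type*} [Group X] (h : Spor.IsoFi22 X) : Sheet X := by
  obtain ⟨e⟩ := h
  exact Sheet.of_equiv e.symm sheet0

end Cfsg.Agent.OddHalf.D4.Spor.Fi22
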