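import Mathlib
import Cfsg.Agent.OddHalf.D4.Spor.Gam
import Cfsg.Agent.KFacts.FiTTh.Gam

/-!
# ODD half, D4, sporadic components: the fact sheet of `Fi₂₃`
-/

set_option autoImplicit false

namespace Cfsg.Agent.OddHalf.D4.Spor.Fi23

open Cfsg Cfsg.Agent.OddHalf.D4.Spor

theorem sheetG : SheetG Spor.Fi23 where
  inn := fun α => Cfsg.Agent.KFacts.FiTTh.Has.inn α
  gam := Cfsg.Agent.KFacts.FiTTh.Gam.gam

end Cfsg.Agent.OddHalf.D4.Spor.Fi23
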