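import Cfsg.Agent.OddHalf.D4.Spor.FiTF
import Cfsg.Agent.KFacts.FiTF.SheetF

/-!
# ODD half, D4, sporadic components: the fact sheet of `Fi24'` (helper267)

The conclusion of `FiTF.sheet_of` with helper750's sheet of type (E) and `Aut(Fi24') = Fi24`.
-/

set_option autoImplicit false

namespace Cfsg.Agent.OddHalf.D4.Spor.Fi24

open Cfsg Cfsg.Agent.OddHalf

/-- **the fact sheet of `Fi24'`** -/
theorem sheet : Spor.Sheet Cfsg.Spor.Fi24' := by
  have := Cfsg.Agent.R08.FiTwentyFour.finite_Fi24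
  have : Finite Cfsg.Spor.Fi24' := inferInstance
  exact FiTF.sheet_of Cfsg.Agent.KFacts.FiTF.sheetE.basic Cfsg.Agent.KFacts.FiTF.exists_conj

end Cfsg.Agent.OddHalf.D4.Spor.Fi24
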