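import Cfsg.Agent.KFacts.HS.DFour

set_option autoImplicit false

/-!
# ODD half, D4: the sheet of `HS` (helper937)
-/

namespace Cfsg.Agent.OddHalf.D4.Spor.HS

open Cfsg.Agent Cfsg.Agent.KFacts.HS

/-- transport of balance -/
theorem bal_move {L : Type*} [Group L] {u a c : L} (hc : c * u * c⁻¹ = a)
    (h : ∀ I : Subgroup L, (∀ i ∈ I, i * u = u * i) → (∀ d : L, d * u = u * d → ∀ i ∈ I, d * i * d⁻¹ ∈ I) →
      Odd (Nat.card ↥I) → I = ⊥)
    (I : Subgroup L) (hI : ∀ i ∈ I, i * a = a * i) (hn : ∀ d : L, d * a = a * d → ∀ i ∈ I, d * i * d⁻¹ ∈ I)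
    (hodd : Odd (Nat.card ↥I)) : I = ⊥ := by
  obtain ⟨h1, h2⟩ := DFour.move hc hI hn
  have hcard : Nat.card ↥(I.comap (MulAut.conj c).toMonoidHom) = Nat.card ↥I := by
    refine Nat.card_congr (Equiv.ofBijective
      (fun m => (⟨(MulAut.conj c).toMonoidHom (m : L), m.2⟩ : I)) ⟨?_, ?_⟩)
    · intro x y hxy
      apply Subtype.ext
      exact (MulAut.conj c).injective (congrArg Subtype.val hxy)
    · rintro ⟨y, hy⟩
      have e : (MulAut.conj c).toMonoidHom (c⁻¹ * y * c) = y := by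
        change c * (c⁻¹ * y * c) * c⁻¹ = y
        group
      refine ⟨⟨c⁻¹ * y * c, ?_⟩, Subtype.ext e⟩
      rw [Subgroup.mem_comap, e]
      exact hy
  have h3 := h _ h1 h2 (by rw [hcard]; exact hodd)
  rw [eq_bot_iff]
  intro i hi
  have e : c * (c⁻¹ * i * c) * c⁻¹ = i := by group
  have h4 : c⁻¹ * i * c ∈ I.comap (MulAut.conj c).toMonoidHom := by
    change c * (c⁻¹ * i * c) * c⁻¹ ∈ I
    rwa [e]
  rw [h3, Subgroup.mem_bot] at h4
  rw [Subgroup.mem_bot, ← e, h4]
  group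

/-- perfect groups of automorphisms are inner -/
theorem schreier {L : Type*} [Group L] (D : KFacts.HS.Mod L) (P : Subgroup (MulAut L)) (hP : ⁅P, P⁆ = P) :
    P ≤ (MulAut.conj : L →* MulAut L).range := by
  obtain ⟨s, hs⟩ := D.exists_sign
  intro α hα
  have h1 : P ≤ s.ker := by
    conv_lhs => rw [← hP]
    rw [Subgroup.commutator_le]
    intro x _ y _
    rw [MonoidHom.mem_ker, map_commutatorElement, commutatorElement_eq_one_iff_mul_comm]
    exact mul_comm _ _
  obtain ⟨h, rfl⟩ := D.au_surj α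
  have h2 := h1 hα
  rw [MonoidHom.mem_ker, hs] at h2
  exact D.au_mem_inner.2 h2

/-- **the sheet of `HS`** -/
theorem sheet {L : Type*} [Group L] (h : Cfsg.Spor.IsoHS L) : Sheet L := by
  obtain ⟨D⟩ := exists_mod h
  have := DFour.fin D
  exact
  { out := by rw [D.index_inn]; omega
    schreier := schreier D
    sylAut := fun S α _ hα => DFour.sylAut D S α hα
    z1 := fun S x hx hxx hx1 hxc y hy hyy hy1 hyc => DFour.z1 D S x hx hxx hx1 hxc y hy hyy hy1 hyc
    bal := fun a ha ha1 I hI hn hodd => by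
      rcases DFour.inv_cases D a ha ha1 with ⟨c, hc⟩ | ⟨c, hc⟩
      · exact bal_move hc (DFour.odd_A D) I hI hn hodd
      · exact bal_move hc (DFour.odd_B D) I hI hn hodd
    out2 := fun α hα _ w hw hw1 hwc hαw hαc N hwN _ hn h2 =>
      DFour.out2 D α hα w hw hw1 hwc hαw hαc N hwN hn h2
    tab := tab_of_not_bad (DFour.not_bad D) }

end Cfsg.Agent.OddHalf.D4.Spor.HS
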