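import Cfsg.Agent.OddHalf.D4.Spor.HeSheet
import Cfsg.Agent.Schreier.He

/-!
# ODD half, D4: the fact sheet of the Held group (helper40)
-/

set_option autoImplicit false

namespace Cfsg.Agent.OddHalf.D4.Spor.He

/-- **The fact sheet of D4 of the Held group.** -/
theorem sheet : Spor.Sheet Cfsg.Spor.He := HeSheet.sheet_of_sch Schreier.He.sch

theorem sheet_of_iso {X : Type*} [Group X] (h : Cfsg.Spor.IsoHe X) : Spor.Sheet X := by
  obtain ⟨e⟩ := h
  exact sheet.of_equiv e.symm

end Cfsg.Agent.OddHalf.D4.Spor.He
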