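import Mathlib
import Cfsg.Prelude.Def_Spor_J1
import Cfsg.Agent.SporadicB.J1.Main
import Cfsg.Agent.SignalizersComponents.BalEndJ1

/-!
# ODD half, D4, sporadic components: the fact `gam` for `J₁`

A subgroup `D` of `J₁` which contains the centralizers of the involutions of a subgroup `B` normalized by `D`
is the whole group if `B` contains a four-group: conjugate the four-group into the Sylow 2-subgroup `E`; an element
of order 3 of `C(e 1)` shows `E ≤ B`, and `J₁` is generated by elements of the centralizers `C(e i)`.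
-/

set_option autoImplicit false

namespace Cfsg.Agent.OddHalf.D4.Spor.J1Gam

open Cfsg Subgroup
open Cfsg.Agent.SporadicB.J1.Mat Cfsg.Agent.SporadicB.J1.Main
open Cfsg.Spor (J1)
open Cfsg.Agent.SignalizersComponents.BalEndJ1 (card_J1 n conj_pow_e perm perm_trans)

/-- an element of order 3 of `C(e 1)` normalizing `E` -/
def h : J1 := ev [0, 3, 3, 0, 3, 3, 0, 1, 1, 2]

theorem rep_h : Rep h (evC [0, 3, 3, 0, 3, 3, 0, 1, 1, 2]) := rep_ev _

def ph : Fin 8 → Fin 8 := ![0, 1, 6, 7, 3, 2, 5, 4]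

theorem code_h : ∀ i : Fin 8, mulC (evC [0, 3, 3, 0, 3, 3, 0, 1, 1, 2]) (ce i) =
    mulC (ce (ph i)) (evC [0, 3, 3, 0, 3, 3, 0, 1, 1, 2]) := by decide +kernel

theorem h_mul (i : Fin 8) : h * e i = e (ph i) * h := (rep_h.mul (rep_e i)).eq ((rep_e (ph i)).mul rep_h) (code_h i)

def xr (i j : Fin 8) : Fin 8 := i ^^^ j

theorem code_xr : ∀ i j : Fin 8, mulC (ce i) (ce j) = ce (xr i j) := by decide +kernel

theorem e_mul (i j : Fin 8) : e i * e j = e (xr i j) := ((rep_e i).mul (rep_e j)).eq (rep_e _) (code_xr i j)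

theorem span : ∀ j : Fin 8, j ≠ 0 → j ≠ 1 → ∀ m : Fin 8, ∃ a ∈ [0, 1], ∃ b ∈ [0, j], ∃ c ∈ [0, ph j],
    m = xr a (xr b c) := by decide

theorem e_ne (i : Fin 8) (hi : i ≠ 0) : e i ≠ 1 := fun h1 => hi (data.he (h1.trans rfl))

/-- `J₁` is generated by elements of the centralizers of the involutions of `E`. -/
theorem top_of_cen (D : Subgroup J1) (hD : ∀ i : Fin 8, i ≠ 0 → ∀ c : J1, c * e i = e i * c → c ∈ D) : D = ⊤ := by
  have key : ∀ (w : List Nat) (i : Fin 8), i ≠ 0 → mulC (evC w) (ce i) = mulC (ce i) (evC w) → ev w ∈ D := by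
    intro w i hi hw
    exact hD i hi _ (((rep_ev w).mul (rep_e i)).eq ((rep_e i).mul (rep_ev w)) hw)
  have x1 : ev [3, 2] ∈ D := key _ 1 (by decide) (by decide +kernel)
  have x2 : ev [0, 1, 1, 0, 3, 0, 0] ∈ D := key _ 7 (by decide) (by decide +kernel)
  have x3 : ev [2, 1, 0, 3, 0, 0] ∈ D := key _ 1 (by decide) (by decide +kernel)
  have y1 : ev [3, 2, 3, 2] ∈ D := key _ 1 (by decide) (by decide +kernel)
  have y2 : ev [0, 1, 0, 1, 2, 3, 2] ∈ D := key _ 7 (by decide) (by decide +kernel)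
  have y3 : ev [0, 1, 0, 1] ∈ D := key _ 1 (by decide) (by decide +kernel)
  have hX : X = ev [3, 2] * (ev [0, 1, 1, 0, 3, 0, 0] * ev [2, 1, 0, 3, 0, 0]) :=
    repX.eq ((rep_ev _).mul ((rep_ev _).mul (rep_ev _))) (by decide +kernel)
  have hY : Y = ev [3, 2, 3, 2] * (ev [0, 1, 0, 1, 2, 3, 2] * ev [0, 1, 0, 1]) :=
    repY.eq ((rep_ev _).mul ((rep_ev _).mul (rep_ev _))) (by decide +kernel)
  have hgen : Subgroup.closure {X, Y} = (⊤ : Subgroup J1) := data.hgen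
  rw [eq_top_iff, ← hgen, closure_le]
  rintro _ (rfl | rfl)
  · rw [hX]; exact D.mul_mem x1 (D.mul_mem x2 x3)
  · show Y ∈ D
    rw [hY]; exact D.mul_mem y1 (D.mul_mem y2 y3)

/-- a four-group is conjugate to `⟨e 1, e j⟩` -/
theorem exists_conj_pair (x y : J1) (hx : x * x = 1) (hx1 : x ≠ 1) (hy : y * y = 1) (hxy : x * y = y * x) :
    ∃ g : J1, ∃ j : Fin 8, g * x * g⁻¹ = e 1 ∧ g * y * g⁻¹ = e j := by
  have : Fact (Nat.Prime 2) := ⟨Nat.prime_two⟩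
  have : Finite J1 := Nat.finite_of_card_ne_zero (by rw [card_J1]; norm_num)
  -- `E` is a Sylow 2-subgroup
  have hE : Nat.card data.E = 8 := by
    have h : Nat.card (Set.range data.e) = 8 := by
      rw [Nat.card_congr (Equiv.ofInjective data.e data.he).symm]
      simp
    exact h
  have hmul : Nat.card data.E = 2 ^ (Nat.card J1).factorization 2 := by
    rw [hE, card_J1, show (175560 : ℕ) = 2 ^ 3 * 21945 by norm_num,
      Nat.factorization_mul (by norm_num) (by norm_num), Nat.Prime.factorization_pow Nat.prime_two]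
    rw [Finsupp.add_apply, Finsupp.single_eq_same,
      Nat.factorization_eq_zero_of_not_dvd (by norm_num : ¬ 2 ∣ 21945)]
    norm_num
  let P : Sylow 2 J1 := Sylow.ofCard data.E hmul
  -- the 2-group `⟨x, y⟩`
  have hzx : IsPGroup 2 ↥(zpowers x) := by
    rintro ⟨_, m, rfl⟩
    refine ⟨1, Subtype.ext ?_⟩
    show (x ^ m) ^ 2 ^ 1 = 1
    rw [pow_one, ← zpow_natCast, ← zpow_mul, mul_comm, zpow_mul, zpow_natCast, pow_two, hx, one_zpow]
  have hzy : IsPGroup 2 ↥(zpowers y) := by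
    rintro ⟨_, m, rfl⟩
    refine ⟨1, Subtype.ext ?_⟩
    show (y ^ m) ^ 2 ^ 1 = 1
    rw [pow_one, ← zpow_natCast, ← zpow_mul, mul_comm, zpow_mul, zpow_natCast, pow_two, hy, one_zpow]
  have hsup : IsPGroup 2 ↥(zpowers x ⊔ zpowers y) := by
    apply hzx.to_sup_of_normal_left' hzy
    rw [zpowers_le]
    apply mem_normalizer_iff.mpr
    intro a
    constructor
    · rintro ⟨m, rfl⟩
      refine ⟨m, ?_⟩
      have hc : Commute y (x ^ m) := (show Commute y x from hxy.symm).zpow_right m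
      show x ^ m = y * x ^ m * y⁻¹
      rw [hc.eq, mul_inv_cancel_right]
    · rintro ⟨m, hm⟩
      refine ⟨m, ?_⟩
      have hc : Commute y (x ^ m) := (show Commute y x from hxy.symm).zpow_right m
      have h2 : x ^ m = y * a * y⁻¹ := hm
      have h3 : a = y⁻¹ * x ^ m * y := by rw [h2]; group
      show x ^ m = a
      rw [h3, mul_assoc, ← hc.eq, inv_mul_cancel_left]
  obtain ⟨Q, hQ⟩ := hsup.exists_le_sylow
  obtain ⟨g, hg⟩ := MulAction.exists_smul_eq J1 Q P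
  have hmem : ∀ z ∈ zpowers x ⊔ zpowers y, ∃ i : Fin 8, g * z * g⁻¹ = e i := by
    intro z hz
    have h1 : g * z * g⁻¹ ∈ (P : Subgroup J1) := by
      rw [← hg]
      have h2 : z ∈ (Q : Subgroup J1) := hQ hz
      exact smul_mem_pointwise_smul _ (MulAut.conj g) _ h2
    obtain ⟨i, hi⟩ : g * z * g⁻¹ ∈ Set.range data.e := h1
    exact ⟨i, hi.symm⟩
  obtain ⟨i, hi⟩ := hmem x (mem_sup_left (mem_zpowers x))
  obtain ⟨j, hj⟩ := hmem y (mem_sup_right (mem_zpowers y))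
  have hi0 : i ≠ 0 := by
    rintro rfl
    apply hx1
    have h3 : g * x * g⁻¹ = 1 := hi
    rwa [conj_eq_one_iff] at h3
  obtain ⟨k, -, hk⟩ := perm_trans i 1 hi0 (by decide)
  refine ⟨n ^ k * g, perm^[k] j, ?_, ?_⟩
  · have h1 : n ^ k * g * x * (n ^ k * g)⁻¹ = n ^ k * (g * x * g⁻¹) * (n ^ k)⁻¹ := by group
    rw [h1, hi, conj_pow_e, hk]
  · have h1 : n ^ k * g * y * (n ^ k * g)⁻¹ = n ^ k * (g * y * g⁻¹) * (n ^ k)⁻¹ := by group
    rw [h1, hj, conj_pow_e]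

/-- the case `x = e 1`, `y = e j` -/
theorem gam_aux (B D : Subgroup J1) (hB : ∀ b ∈ B, b * b = 1 → b ≠ 1 → ∀ c : J1, c * b = b * c → c ∈ D)
    (hD : ∀ d ∈ D, ∀ n ∈ B, d * n * d⁻¹ ∈ B) (h1 : e 1 ∈ B) (j : Fin 8) (hj : e j ∈ B) (hj0 : j ≠ 0)
    (hj1 : j ≠ 1) : D = ⊤ := by
  have hsq : ∀ i : Fin 8, e i * e i = 1 := by
    intro i
    rw [e_mul]
    have : xr i i = 0 := by revert i; decide
    rw [this]; rfl
  have hp : ph 1 = 1 := by decide
  have hm : h * e 1 = e 1 * h := by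
    have h2 := h_mul 1
    rwa [hp] at h2
  have hh : h ∈ D := hB _ h1 (hsq 1) (e_ne 1 (by decide)) h hm
  have hpj : e (ph j) ∈ B := by
    have h2 := hD h hh _ hj
    rwa [h_mul, mul_inv_cancel_right] at h2
  have hE : ∀ m : Fin 8, e m ∈ B := by
    intro m
    obtain ⟨a, ha, b, hb, c, hc, rfl⟩ := span j hj0 hj1 m
    rw [← e_mul, ← e_mul]
    have h0 : e 0 ∈ B := B.one_mem
    refine B.mul_mem ?_ (B.mul_mem ?_ ?_)
    · rcases List.mem_pair.mp ha with rfl | rfl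
      · exact h0
      · exact h1
    · rcases List.mem_pair.mp hb with rfl | rfl
      · exact h0
      · exact hj
    · rcases List.mem_pair.mp hc with rfl | rfl
      · exact h0
      · exact hpj
  exact top_of_cen D fun i hi c hc => hB _ (hE i) (hsq i) (e_ne i hi) c hc

/-- **the fact `gam` for `J₁`** -/
theorem gam : ∀ B D : Subgroup Cfsg.Spor.J1, (∀ b ∈ B, b * b = 1 → b ≠ 1 → ∀ c : Cfsg.Spor.J1, c * b = b * c →
    c ∈ D) → (∀ d ∈ D, ∀ n ∈ B, d * n * d⁻¹ ∈ B) → ∀ x ∈ B, x * x = 1 → x ≠ 1 → ∀ y ∈ B, y * y = 1 → y ≠ 1 →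
    x * y = y * x → x ≠ y → D = ⊤ := by
  intro B D hB hD x hx hxx hx1 y hy hyy hy1 hxy hne
  obtain ⟨g, j, hgx, hgy⟩ := exists_conj_pair x y hxx hx1 hyy hxy
  have hx' : g⁻¹ * e 1 * g = x := by rw [← hgx]; group
  have hy' : g⁻¹ * e j * g = y := by rw [← hgy]; group
  have key := gam_aux (B.comap (MulAut.conj g⁻¹).toMonoidHom) (D.comap (MulAut.conj g⁻¹).toMonoidHom) ?_ ?_ ?_ j
    ?_ ?_ ?_
  · rw [eq_top_iff]
    intro d _
    have h1 : g * d * g⁻¹ ∈ D.comap (MulAut.conj g⁻¹).toMonoidHom := by rw [key]; trivial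
    have h2 : g⁻¹ * (g * d * g⁻¹) * g⁻¹⁻¹ ∈ D := h1
    have h3 : g⁻¹ * (g * d * g⁻¹) * g⁻¹⁻¹ = d := by group
    rwa [h3] at h2
  · intro b hb hbb hb1 c hc
    have hb' : g⁻¹ * b * g⁻¹⁻¹ ∈ B := hb
    show g⁻¹ * c * g⁻¹⁻¹ ∈ D
    refine hB _ hb' ?_ ?_ _ ?_
    · calc g⁻¹ * b * g⁻¹⁻¹ * (g⁻¹ * b * g⁻¹⁻¹) = g⁻¹ * (b * b) * g := by group
        _ = 1 := by rw [hbb]; group
    · intro h1
      rw [conj_eq_one_iff] at h1
      exact hb1 h1
    · calc g⁻¹ * c * g⁻¹⁻¹ * (g⁻¹ * b * g⁻¹⁻¹) = g⁻¹ * (c * b) * g := by group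
        _ = g⁻¹ * b * g⁻¹⁻¹ * (g⁻¹ * c * g⁻¹⁻¹) := by rw [hc]; group
  · intro d hd b hb
    have hd' : g⁻¹ * d * g⁻¹⁻¹ ∈ D := hd
    have hb' : g⁻¹ * b * g⁻¹⁻¹ ∈ B := hb
    have h1 := hD _ hd' _ hb'
    show g⁻¹ * (d * b * d⁻¹) * g⁻¹⁻¹ ∈ B
    have h2 : g⁻¹ * (d * b * d⁻¹) * g⁻¹⁻¹ = g⁻¹ * d * g⁻¹⁻¹ * (g⁻¹ * b * g⁻¹⁻¹) * (g⁻¹ * d * g⁻¹⁻¹)⁻¹ := by group
    rwa [h2]
  · show g⁻¹ * e 1 * g⁻¹⁻¹ ∈ B
    rw [inv_inv, hx']; exact hx
  · show g⁻¹ * e j * g⁻¹⁻¹ ∈ B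
    rw [inv_inv, hy']; exact hy
  · rintro rfl
    apply hy1
    rw [← hy']
    show g⁻¹ * 1 * g = 1
    group
  · rintro rfl
    exact hne (hx'.symm.trans hy')

end Cfsg.Agent.OddHalf.D4.Spor.J1Gam
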