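import Cfsg.Agent.OddHalf.D4.Spor.Gam
import Cfsg.Agent.OddHalf.D4.Spor.J1Gam
import Cfsg.Agent.OddHalf.D4.Spor.J1Out

/-!
# ODD half, D4, sporadic components: the sheet of `J₁` (helper283)

All automorphisms are inner (`J1Out.inn`), and `gam` (helper480).
-/

set_option autoImplicit false

namespace Cfsg.Agent.OddHalf.D4.Spor.J1

open Subgroup Cfsg

/-- the sheet of `J₁` -/
theorem sheet : Spor.SheetG Cfsg.Spor.J1 where
  inn := fun α => J1Out.inn α
  gam := J1Gam.gam

theorem sheet_of_iso {X : Type*} [Group X] (h : Cfsg.Spor.IsoJ1 X) : Spor.SheetG X := by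
  obtain ⟨e⟩ := h
  exact SheetG.of_equiv e.symm sheet

end Cfsg.Agent.OddHalf.D4.Spor.J1
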