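import Cfsg.Agent.OddHalf.D4.Spor.OfBasic
import Cfsg.Agent.KFacts.J3
import Cfsg.Agent.KFacts.J3Sheet

/-!
# ODD half, D4, sporadic components: the sheet of `J₃` (helper283)
-/

set_option autoImplicit false

namespace Cfsg.Agent.OddHalf.D4.Spor.J3

open Subgroup Cfsg Cfsg.Agent.J3Type.OneClass Cfsg.Agent.J2Type.Model
open Cfsg.Agent.J2Type.CStruct Cfsg.Agent.KFacts

/-- the sheet of `J₃` -/
theorem sheet {K : Type*} [Group K] (h : Spor.IsoJ3 K) : Spor.Sheet K := by
  obtain ⟨-, z, Q, v, ρ, n, u, F⟩ := Cfsg.Agent.KFacts.J3.exists_facts h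
  have hfin : Finite K := by
    apply Nat.finite_of_card_ne_zero
    rw [F.card_K]; norm_num
  have M := F.model
  have hcl : ∀ x : K, x * x = 1 → x ≠ 1 → ∃ g : K, g * z * g⁻¹ = x := fun x h1 h2 => F.one x h2 h1
  have hone : ∀ x y : K, orderOf x = 2 → orderOf y = 2 → IsConj x y := by
    have h1 : ∀ x : K, orderOf x = 2 → IsConj z x := by
      intro x hx
      obtain ⟨g, hg⟩ := F.one x (fun e => by rw [e, orderOf_one] at hx; omega) (by
        rw [← pow_two, ← hx, pow_orderOf_eq_one])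
      exact isConj_iff.2 ⟨g, hg⟩
    intro x y hx hy
    exact (h1 x hx).symm.trans (h1 y hy)
  have hvne : ∀ i, (v i : K) ≠ z := by
    intro i h
    apply zv_ne_z M 0 i
    rw [zp_zero, one_mul]
    exact Subtype.ext h
  have hin : n * z * n⁻¹ ∈ Q.map (centralizer ({z} : Set K)).subtype := by
    rw [F.nz]
    exact ⟨v 0, M.v_mem 0, rfl⟩
  have hnz : n * z * n⁻¹ ≠ z := by
    rw [F.nz]; exact hvne 0
  exact Sheet.of_sheetE (J3Sheet.sheetE F.card_C M hone hin hnz F.gen) hcl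

end Cfsg.Agent.OddHalf.D4.Spor.J3
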