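import Cfsg.Agent.KFacts.J2.SheetX
import Cfsg.Agent.KFacts.J2.Aut
import Cfsg.Agent.OddHalf.D4.Spor.Transport

/-!
# ODD half, D4, sporadic components: the fact sheet of `J₂`

`sheet_of_dat`: `Sheet X` for a group with the data `Dat t u Q v ρ`; `sheet_of_iso`: for every group isomorphic to `J₂`;
`sheet`: for the model. The subgroup `V` of the field `tab` is the four-group of `C(u) = V × A₅` (kind `Sig`).
-/

set_option autoImplicit false
set_option linter.unusedVariables false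

namespace Cfsg.Agent.OddHalf.D4.Spor.JTwo

open Subgroup Cfsg.Agent.J2Type.Model Cfsg.Agent.J2Type.SPFacts Cfsg.Agent.J2Type.CStruct
open Cfsg.Agent.J3Type.OneClass Cfsg.Agent.J2Type.Base Cfsg.Agent.KFacts.J2.Basic
open Cfsg.Agent.Co2Type.Quad Cfsg.Agent.KFacts.AutLarge Cfsg.Agent.KFacts.J3Sheet
open Cfsg.Agent.KFacts Cfsg.Agent.OddHalf.D4.Spor
open scoped commutatorElement

variable {X : Type*} [Group X] {t u : X} {Q : Subgroup (centralizer ({t} : Set X))}
  {v : Fin 5 → centralizer ({t} : Set X)} {ρ : centralizer ({t} : Set X) →* SP}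

/-- a Sylow 2-subgroup between `Q` and `C(t)` -/
theorem exists_T [Finite X] (D : Dat t u Q v ρ) : ∃ T : Sylow 2 X, (T : Subgroup X) ≤ centralizer ({t} : Set X) ∧
    Q.map (centralizer ({t} : Set X)).subtype ≤ T := by
  have hL := large D.cardC D.M
  obtain ⟨T, hT⟩ := AutLarge.exists_sylow (Cfsg.Agent.KFacts.J2.SheetX.odd_index D)
  exact ⟨T, hT, AutLarge.le_sylow hL T hT⟩

/-- all Sylow subgroups are conjugate, elementwise -/
theorem exists_conj_sylow [Finite X] (S T : Sylow 2 X) : ∃ g : X, ∀ x : X, x ∈ S ↔ g⁻¹ * x * g ∈ T := by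
  have : Fact (Nat.Prime 2) := ⟨Nat.prime_two⟩
  obtain ⟨g, hg⟩ := MulAction.exists_smul_eq X T S
  refine ⟨g, fun x => ?_⟩
  rw [← hg]
  have h1 : x ∈ g • T ↔ (MulAut.conj g)⁻¹ • x ∈ (T : Subgroup X) :=
    Subgroup.mem_pointwise_smul_iff_inv_smul_mem
  rw [h1, ← map_inv]
  show g⁻¹ * x * g⁻¹⁻¹ ∈ (T : Subgroup X) ↔ _
  rw [inv_inv]
  rfl

/-- an element commuting with `Q` is `1` or `t` -/
theorem cen_Q [Finite X] (D : Dat t u Q v ρ) {x : X} (h : ∀ r ∈ Q.map (centralizer ({t} : Set X)).subtype, x * r = r * x) :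
    x = 1 ∨ x = t :=
  (QMinus.sheet D.cardC D.M).cen x h

theorem t_mem_Q (D : Dat t u Q v ρ) : t ∈ Q.map (centralizer ({t} : Set X)).subtype := ⟨_, D.M.z_mem, rfl⟩

/-- an element centralising a Sylow 2-subgroup, of square one -/
theorem eq_of_cen [Finite X] (D : Dat t u Q v ρ) (S : Sylow 2 X) : ∃ g : X,
    ∀ a : X, (∀ s ∈ S, s * a = a * s) → a = 1 ∨ a = g * t * g⁻¹ := by
  obtain ⟨T, hT, hQT⟩ := exists_T D
  obtain ⟨g, hg⟩ := exists_conj_sylow S T
  refine ⟨g, fun a ha => ?_⟩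
  have h1 : g⁻¹ * a * g = 1 ∨ g⁻¹ * a * g = t := by
    apply cen_Q D
    intro r hr
    have h2 := ha (g * r * g⁻¹) ((hg _).mpr (by
      have : g⁻¹ * (g * r * g⁻¹) * g = r := by group
      rw [this]; exact hQT hr))
    calc g⁻¹ * a * g * r = g⁻¹ * (a * (g * r * g⁻¹)) * g := by group
      _ = g⁻¹ * (g * r * g⁻¹ * a) * g := by rw [h2]
      _ = r * (g⁻¹ * a * g) := by group
  rcases h1 with h1 | h1
  · left
    calc a = g * (g⁻¹ * a * g) * g⁻¹ := by group
      _ = 1 := by rw [h1]; group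
  · right
    rw [← h1]; group

theorem cen_t [Finite X] (D : Dat t u Q v ρ) : Cen t := by
  obtain ⟨T, hT, -⟩ := exists_T D
  exact ⟨T, fun s hs => mem_cent.1 (hT hs)⟩

theorem cen_conj {w : X} (h : Cen w) (g : X) : Cen (g * w * g⁻¹) := Cen.map (MulAut.conj g) h

theorem cen_of_isConj [Finite X] (D : Dat t u Q v ρ) {w : X} (h : IsConj t w) : Cen w := by
  obtain ⟨g, rfl⟩ := isConj_iff.1 h
  exact cen_conj (cen_t D) g

theorem isConj_of_cen [Finite X] (D : Dat t u Q v ρ) {w : X} (hw : w ≠ 1) (h : Cen w) : IsConj t w := by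
  obtain ⟨S, hS⟩ := h
  obtain ⟨g, hg⟩ := eq_of_cen D S
  rcases hg w hS with h | h
  · exact absurd h hw
  · exact isConj_iff.2 ⟨g, h.symm⟩

/-- an involution which is not 2-central is conjugate to `u` -/
theorem isConj_of_not_cen [Finite X] (D : Dat t u Q v ρ) {w : X} (hww : w * w = 1) (hw : w ≠ 1) (h : ¬ Cen w) :
    IsConj u w := by
  rcases D.F.cover w (orderOf_two hww hw) with h1 | h1
  · exact absurd (cen_of_isConj D h1) h
  · exact h1

theorem not_cen_u [Finite X] (D : Dat t u Q v ρ) : ¬ Cen u := fun h => D.F.nconj (isConj_of_cen D D.u_ne h)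

/-! ### `C(u)` -/

section U

open Cfsg.Agent.J2Type.CentU Cfsg.Agent.J2Type.Cent5

variable {f : X} {U V H0 : Subgroup X}

theorem card_H0 [Finite X] (D : Dat t u Q v ρ) (F : Full t u f U V H0) : Nat.card H0 = 60 :=
  (Cfsg.Agent.J2Type.Order.order_of_fus D.F F.str).2.2.1

theorem equiv_H0 [Finite X] (D : Dat t u Q v ρ) (F : Full t u f U V H0) :
    Nonempty (H0 ≃* alternatingGroup (Fin 5)) :=
  (Cfsg.Agent.J2Type.Order.order_of_fus D.F F.str).2.2.2

/-- `H0` is simple -/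
theorem simple_H0 [Finite X] (D : Dat t u Q v ρ) (F : Full t u f U V H0) : IsSimpleGroup H0 := by
  obtain ⟨e⟩ := equiv_H0 D F
  have : IsSimpleGroup (alternatingGroup (Fin 5)) := alternatingGroup.isSimpleGroup (by simp)
  exact e.isSimpleGroup

/-- a subgroup normalised by `H0` contains `H0` or meets it trivially -/
theorem inf_H0 [Finite X] (D : Dat t u Q v ρ) (F : Full t u f U V H0) {N : Subgroup X}
    (hN : ∀ c ∈ H0, ∀ n ∈ N, c * n * c⁻¹ ∈ N) : H0 ≤ N ∨ ∀ n ∈ N, n ∈ H0 → n = 1 := by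
  have hs := simple_H0 D F
  have hn : (N.subgroupOf H0).Normal := ⟨fun n hn g => by
    rw [mem_subgroupOf] at hn ⊢
    exact hN g g.2 n hn⟩
  rcases hn.eq_bot_or_eq_top with h | h
  · right
    intro n hn hn0
    have h1 : (⟨n, hn0⟩ : H0) ∈ N.subgroupOf H0 := mem_subgroupOf.2 hn
    rw [h, mem_bot] at h1
    exact congrArg Subtype.val h1
  · left
    exact subgroupOf_eq_top.1 h

/-- a normal subgroup of `C(u)` not containing `H0` lies in `V` -/
theorem le_V [Finite X] (D : Dat t u Q v ρ) (F : Full t u f U V H0) {N : Subgroup X}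
    (hle : ∀ n ∈ N, n * u = u * n) (hN : ∀ c : X, c * u = u * c → ∀ n ∈ N, c * n * c⁻¹ ∈ N)
    (h : ∀ n ∈ N, n ∈ H0 → n = 1) : N ≤ V := by
  have hs := simple_H0 D F
  have h60 := card_H0 D F
  intro n hn
  obtain ⟨a, ha, b, hb, rfl⟩ := exists_mul F (mem_cent.2 (hle n hn))
  -- `a b` commutes with `H0`
  have h1 : ∀ c ∈ H0, a * b * c = c * (a * b) := by
    intro c hc
    have hcu : c * u = u * c := mem_cent.1 (F.str.le hc)
    have h2 : c * (a * b) * c⁻¹ * (a * b)⁻¹ ∈ N := N.mul_mem (hN c hcu _ hn) (N.inv_mem hn)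
    have h3 : c * (a * b) * c⁻¹ * (a * b)⁻¹ ∈ H0 := by
      have h4 := F.str.conj_mem (a * b) (mem_cent.2 (hle _ hn)) c⁻¹ (H0.inv_mem hc)
      have h5 := H0.mul_mem hc h4
      have e : c * (a * b * c⁻¹ * (a * b)⁻¹) = c * (a * b) * c⁻¹ * (a * b)⁻¹ := by group
      rwa [e] at h5
    have h6 := h _ h2 h3
    calc a * b * c = (c * (a * b) * c⁻¹ * (a * b)⁻¹)⁻¹ * (c * (a * b)) := by group
      _ = c * (a * b) := by rw [h6]; group
  have h2 : ∀ c ∈ H0, b * c = c * b := by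
    intro c hc
    have h3 := V_comm D.F F h60 ha hc
    have h4 : a * (b * c) = a * (c * b) := by
      calc a * (b * c) = a * b * c := by group
        _ = c * (a * b) := h1 c hc
        _ = c * a * b := by group
        _ = a * (c * b) := by rw [← h3]; group
    exact mul_left_cancel h4
  have h3 : (⟨b, hb⟩ : H0) ∈ center H0 := mem_center_iff.2 fun c => Subtype.ext (h2 c c.2).symm
  have h4 : center H0 = ⊥ := by
    obtain ⟨e⟩ := equiv_H0 D F
    rcases (inferInstance : (center H0).Normal).eq_bot_or_eq_top with h | h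
    · exact h
    · exfalso
      have h5 := F.f_ne t F.zU D.t_ne
      apply h5
      have h6 : (⟨f, F.f_mem⟩ : H0) ∈ center H0 := by rw [h]; trivial
      exact (congrArg Subtype.val (mem_center_iff.1 h6 ⟨t, F.U_le F.zU⟩)).symm
  rw [h4, mem_bot] at h3
  have h5 : b = 1 := congrArg Subtype.val h3
  rw [h5, mul_one]
  exact ha

theorem odd_eq_one [Finite X] {I : Subgroup X} (ho : Odd (Nat.card ↥I)) {i : X} (hi : i ∈ I) (h : i * i = 1) :
    i = 1 := by
  by_contra h1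
  have h2 : orderOf i = 2 := orderOf_two h h1
  have h3 : orderOf (⟨i, hi⟩ : I) = 2 := by rw [← orderOf_coe]; exact h2
  have h4 : 2 ∣ Nat.card ↥I := by rw [← h3]; exact orderOf_dvd_natCard _
  rw [Nat.odd_iff] at ho
  omega

/-- `O(C(u)) = 1` -/
theorem bal_u [Finite X] (D : Dat t u Q v ρ) {I : Subgroup X} (hI : ∀ i ∈ I, i * u = u * i)
    (hn : ∀ c : X, c * u = u * c → ∀ i ∈ I, c * i * c⁻¹ ∈ I) (ho : Odd (Nat.card ↥I)) : I = ⊥ := by
  obtain ⟨f, U, V, H0, F⟩ := Cfsg.Agent.J2Type.CentU.main D.F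
  have h60 := card_H0 D F
  rcases inf_H0 D F (N := I) (fun c hc => hn c (mem_cent.1 (F.str.le hc))) with h | h
  · exfalso
    exact D.t_ne (odd_eq_one ho (h (F.U_le F.zU)) D.tt)
  · have h1 := le_V D F hI hn h
    rw [eq_bot_iff]
    intro i hi
    rw [mem_bot]
    exact odd_eq_one ho hi (sq_V D.F F (h1 hi))

/-- the field `VFacts` -/
theorem vfacts [Finite X] (D : Dat t u Q v ρ) (F : Full t u f U V H0) : VFacts V H0 := by
  have h60 := card_H0 D F
  have hA5 := equiv_H0 D F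
  refine ⟨fun a ha b hb => comm_V D.F F ha hb, ?_, fun l hl w hw => (V_comm D.F F h60 hw hl).symm, ?_, Or.inr ⟨?_, ?_⟩⟩
  · -- perfect
    obtain ⟨e⟩ := hA5
    have h1 : commutator (alternatingGroup (Fin 5)) = ⊤ := by
      have h2 := commutator_alternatingGroup_eq_self (α := Fin 5) (by simp)
      rw [eq_top_iff]
      intro x _
      have h3 : (x : Equiv.Perm (Fin 5)) ∈ (commutator (alternatingGroup (Fin 5))).map
          (alternatingGroup (Fin 5)).subtype := by
        rw [_root_.commutator_def, map_commutator, ← MonoidHom.range_eq_map, range_subtype, h2]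
        exact x.2
      obtain ⟨y, hy, hyx⟩ := h3
      have : y = x := Subtype.ext hyx
      rw [← this]; exact hy
    have h2 : commutator H0 = ⊤ := by
      have h3 := congrArg (Subgroup.map e.symm.toMonoidHom) h1
      rw [_root_.commutator_def, map_commutator, ← MonoidHom.range_eq_map,
        MonoidHom.range_eq_top.2 e.symm.surjective] at h3
      exact h3
    have h3 := congrArg (Subgroup.map H0.subtype) h2
    rw [_root_.commutator_def, map_commutator, ← MonoidHom.range_eq_map, range_subtype] at h3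
    exact h3
  · -- maximal
    intro P hP hPV
    have h1 : ∀ p ∈ P, ∃ a ∈ V, ∃ b ∈ H0, p = a * b := fun p hp =>
      exists_mul F (mem_cent.2 (hPV p hp u F.uV))
    rw [← hP, commutator_le]
    intro p hp q hq
    obtain ⟨a, ha, b, hb, rfl⟩ := h1 p hp
    obtain ⟨a', ha', b', hb', rfl⟩ := h1 q hq
    have c1 : ∀ x ∈ V, ∀ y ∈ H0, x * y = y * x := fun x hx y hy => V_comm D.F F h60 hx hy
    have c2 : ∀ x ∈ V, ∀ y ∈ V, x * y = y * x := fun x hx y hy => comm_V D.F F hx hy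
    have e : ⁅a * b, a' * b'⁆ = ⁅b, b'⁆ := by
      rw [commutatorElement_def, commutatorElement_def]
      have hai := V.inv_mem ha
      have ha'i := V.inv_mem ha'
      have hbi := H0.inv_mem hb
      have hb'i := H0.inv_mem hb'
      calc a * b * (a' * b') * (a * b)⁻¹ * (a' * b')⁻¹ = a * (b * a') * b' * b⁻¹ * a⁻¹ * b'⁻¹ * a'⁻¹ := by group
        _ = a * (a' * b) * b' * b⁻¹ * a⁻¹ * b'⁻¹ * a'⁻¹ := by rw [c1 a' ha' b hb]
        _ = (a * a') * (b * b' * b⁻¹) * a⁻¹ * b'⁻¹ * a'⁻¹ := by group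
        _ = (a * a') * ((b * b' * b⁻¹) * a⁻¹) * b'⁻¹ * a'⁻¹ := by group
        _ = (a * a') * (a⁻¹ * (b * b' * b⁻¹)) * b'⁻¹ * a'⁻¹ := by
            rw [c1 a⁻¹ hai _ (H0.mul_mem (H0.mul_mem hb hb') hbi)]
        _ = (a * a') * a⁻¹ * ((b * b' * b⁻¹ * b'⁻¹) * a'⁻¹) := by group
        _ = (a * a') * a⁻¹ * (a'⁻¹ * (b * b' * b⁻¹ * b'⁻¹)) := by
            rw [c1 a'⁻¹ ha'i _ (H0.mul_mem (H0.mul_mem (H0.mul_mem hb hb') hbi) hb'i)]
        _ = (a' * a) * a⁻¹ * (a'⁻¹ * (b * b' * b⁻¹ * b'⁻¹)) := by rw [c2 a ha a' ha']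
        _ = b * b' * b⁻¹ * b'⁻¹ := by group
    rw [e, commutatorElement_def]
    exact H0.mul_mem (H0.mul_mem (H0.mul_mem hb hb') (H0.inv_mem hb)) (H0.inv_mem hb')
  · -- `w ∼ w t`
    intro w hw hww hw1
    have h1 : IsConj u w := isConj_of_mem_V D.F F hw hw1
    have hwt : w * t = t * w := ((F.memV w).mp hw).1
    have hne : w ≠ t := by
      rintro rfl
      exact D.F.nconj h1.symm
    have h2 : IsConj u (w * t) := by
      rcases D.F.cover (w * t) (orderOf_two (by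
        calc w * t * (w * t) = w * (t * w) * t := by group
          _ = (w * w) * (t * t) := by rw [← hwt]; group
          _ = 1 := by rw [hww, D.tt, one_mul]) (fun h => hne (by
        calc w = w * t * t := by rw [mul_assoc, D.tt, mul_one]
          _ = t := by rw [h, one_mul]))) with h | h
      · exfalso
        have h3 := D.F.mul_z (w * t) t h (IsConj.refl t) (by rw [← mul_assoc t w t, ← hwt]) (by
          intro h4
          apply hw1
          calc w = w * t * t⁻¹ := by group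
            _ = 1 := by rw [h4]; group)
        rw [mul_assoc, D.tt, mul_one] at h3
        exact D.F.nconj (h3.trans h1.symm)
      · exact h
    obtain ⟨k, hk⟩ := isConj_iff.1 (h1.symm.trans h2)
    refine ⟨k, ⟨t, F.U_le F.zU⟩, D.t_ne, hk, ?_⟩
    -- `t` is 2-central in `H0`
    have : Fact (Nat.Prime 2) := ⟨Nat.prime_two⟩
    have hc4 : Nat.card (U.subgroupOf H0) = 4 := by
      rw [Nat.card_congr (subgroupOfEquivOfLe F.U_le).toEquiv, F.cardU]
    have hp : IsPGroup 2 (U.subgroupOf H0) := IsPGroup.of_card (n := 2) (by rw [hc4]; norm_num)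
    have hidx : ¬ 2 ∣ (U.subgroupOf H0).index := by
      have h5 := (U.subgroupOf H0).card_mul_index
      rw [hc4, h60] at h5
      omega
    refine ⟨hp.toSylow hidx, fun s hs => Subtype.ext ?_⟩
    exact comm_U D.F F (mem_subgroupOf.1 hs) F.zU
  · intro l hll hl1 _
    have h1 : (l : X) ≠ 1 := fun h => hl1 (Subtype.ext h)
    exact cen_of_isConj D (F.str.invol l l.2 (orderOf_two (congrArg Subtype.val hll) h1))

/-- normal subgroups of `C(u)` without 2-central involutions -/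
theorem le_V_of_non [Finite X] (D : Dat t u Q v ρ) (F : Full t u f U V H0) {N : Subgroup X}
    (hle : ∀ n ∈ N, n * u = u * n) (hN : ∀ c : X, c * u = u * c → ∀ n ∈ N, c * n * c⁻¹ ∈ N)
    (hnon : ∀ b ∈ N, b * b = 1 → b ≠ 1 → ¬ Cen b) : N ≤ V := by
  rcases inf_H0 D F (N := N) (fun c hc => hN c (mem_cent.1 (F.str.le hc))) with h | h
  · exact absurd (cen_t D) (hnon t (h (F.U_le F.zU)) D.tt D.t_ne)
  · exact le_V D F hle hN h

end U

/-! ### The fields -/

/-- `O(C(t)) = 1` -/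
theorem bal_t [Finite X] (D : Dat t u Q v ρ) {I : Subgroup X} (hI : ∀ i ∈ I, i * t = t * i)
    (hn : ∀ c : X, c * t = t * c → ∀ i ∈ I, c * i * c⁻¹ ∈ I) (ho : Odd (Nat.card ↥I)) : I = ⊥ := by
  have S := QMinus.sheet D.cardC D.M
  have hR2 : IsPGroup 2 (Q.map (centralizer ({t} : Set X)).subtype) := by
    rw [IsPGroup.iff_card]
    exact ⟨5, by rw [S.card]; norm_num⟩
  have hint : ∀ x ∈ Q.map (centralizer ({t} : Set X)).subtype, x ∈ I → x = 1 := by
    intro x hx hxI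
    obtain ⟨n, hn⟩ := hR2 ⟨x, hx⟩
    have h1 : x ^ 2 ^ n = 1 := congrArg Subtype.val hn
    have h2 : orderOf x ∣ 2 ^ n := orderOf_dvd_of_pow_eq_one h1
    have h3 : orderOf x ∣ Nat.card ↥I := by
      have h4 : orderOf (⟨x, hxI⟩ : I) = orderOf x := by rw [← orderOf_coe]
      rw [← h4]; exact orderOf_dvd_natCard _
    have h4 : Nat.Coprime (2 ^ n) (Nat.card ↥I) := Nat.Coprime.pow_left n (Nat.coprime_two_left.2 ho)
    have h5 : orderOf x = 1 := Nat.eq_one_of_dvd_coprimes h4 h2 h3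
    exact orderOf_eq_one_iff.1 h5
  rw [eq_bot_iff]
  intro i hi
  rw [mem_bot]
  have h1 : i = 1 ∨ i = t := by
    apply cen_Q D
    intro r hr
    have hrt : r * t = t * r := by
      obtain ⟨q, -, rfl⟩ := hr
      exact mem_cent.1 q.2
    have h2 : i * r * i⁻¹ * r⁻¹ ∈ I := by
      have h3 := I.mul_mem hi (hn r hrt i⁻¹ (I.inv_mem hi))
      have e : i * (r * i⁻¹ * r⁻¹) = i * r * i⁻¹ * r⁻¹ := by group
      rwa [e] at h3
    have h3 : i * r * i⁻¹ * r⁻¹ ∈ Q.map (centralizer ({t} : Set X)).subtype :=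
      mul_mem (S.norm i (hI i hi) r hr) (inv_mem hr)
    have h4 := hint _ h3 h2
    calc i * r = (i * r * i⁻¹ * r⁻¹) * (r * i) := by group
      _ = r * i := by rw [h4, one_mul]
  rcases h1 with h1 | h1
  · exact h1
  · exact odd_eq_one ho hi (by rw [h1, D.tt])

theorem bal [Finite X] (D : Dat t u Q v ρ) (a : X) (haa : a * a = 1) (ha1 : a ≠ 1) (I : Subgroup X)
    (hI : ∀ i ∈ I, i * a = a * i) (hn : ∀ c : X, c * a = a * c → ∀ i ∈ I, c * i * c⁻¹ ∈ I)
    (ho : Odd (Nat.card ↥I)) : I = ⊥ := by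
  obtain ⟨b, hb, g, rfl⟩ : ∃ b, (b = t ∨ b = u) ∧ ∃ g, g * b * g⁻¹ = a := by
    rcases D.F.cover a (orderOf_two haa ha1) with h | h
    · exact ⟨t, Or.inl rfl, isConj_iff.1 h⟩
    · exact ⟨u, Or.inr rfl, isConj_iff.1 h⟩
  set J : Subgroup X := I.map (MulAut.conj g⁻¹).toMonoidHom with hJ
  have hmem : ∀ x, x ∈ J ↔ g * x * g⁻¹ ∈ I := by
    intro x
    constructor
    · rintro ⟨y, hy, rfl⟩
      have : g * ((MulAut.conj g⁻¹).toMonoidHom y) * g⁻¹ = y := by
        show g * (g⁻¹ * y * g⁻¹⁻¹) * g⁻¹ = y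
        group
      rw [this]; exact hy
    · intro h
      refine ⟨_, h, ?_⟩
      show g⁻¹ * (g * x * g⁻¹) * g⁻¹⁻¹ = x
      group
  have hcard : Nat.card ↥J = Nat.card ↥I :=
    (Nat.card_congr (I.equivMapOfInjective _ (MulAut.conj g⁻¹).injective).toEquiv).symm
  have h1 : ∀ i ∈ J, i * b = b * i := by
    intro i hi
    have h2 := hI _ ((hmem i).1 hi)
    calc i * b = g⁻¹ * (g * i * g⁻¹ * (g * b * g⁻¹)) * g := by group
      _ = g⁻¹ * (g * b * g⁻¹ * (g * i * g⁻¹)) * g := by rw [h2]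
      _ = b * i := by group
  have h2 : ∀ c : X, c * b = b * c → ∀ i ∈ J, c * i * c⁻¹ ∈ J := by
    intro c hc i hi
    rw [hmem] at hi ⊢
    have h3 := hn (g * c * g⁻¹) (by
      calc g * c * g⁻¹ * (g * b * g⁻¹) = g * (c * b) * g⁻¹ := by group
        _ = g * (b * c) * g⁻¹ := by rw [hc]
        _ = g * b * g⁻¹ * (g * c * g⁻¹) := by group) _ hi
    have e : g * c * g⁻¹ * (g * i * g⁻¹) * (g * c * g⁻¹)⁻¹ = g * (c * i * c⁻¹) * g⁻¹ := by group
    rwa [e] at h3
  have h3 : J = ⊥ := by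
    rcases hb with rfl | rfl
    · exact bal_t D h1 h2 (by rw [hcard]; exact ho)
    · exact bal_u D h1 h2 (by rw [hcard]; exact ho)
  rw [eq_bot_iff]
  intro i hi
  have h4 : g⁻¹ * i * g ∈ J := by
    rw [hmem]
    have : g * (g⁻¹ * i * g) * g⁻¹ = i := by group
    rwa [this]
  rw [h3, mem_bot] at h4
  rw [mem_bot]
  calc i = g * (g⁻¹ * i * g) * g⁻¹ := by group
    _ = 1 := by rw [h4]; group

theorem z1 [Finite X] (D : Dat t u Q v ρ) (S : Sylow 2 X) (a : X) (_ : a ∈ S) (_ : a * a = 1) (ha1 : a ≠ 1)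
    (ha : ∀ s ∈ S, s * a = a * s) (b : X) (_ : b ∈ S) (_ : b * b = 1) (hb1 : b ≠ 1)
    (hb : ∀ s ∈ S, s * b = b * s) : a = b := by
  obtain ⟨g, hg⟩ := eq_of_cen D S
  rw [(hg a ha).resolve_left ha1, (hg b hb).resolve_left hb1]

/-- conjugate of an automorphism -/
theorem inn_of_conj {α : MulAut X} {g : X} (h : Inn (MulAut.conj g⁻¹ * α * (MulAut.conj g⁻¹)⁻¹)) : Inn α := by
  obtain ⟨k, hk⟩ := h
  refine ⟨g * k * g⁻¹, ?_⟩
  rw [map_mul, map_mul, ← hk, map_inv]
  group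

theorem conj_apply' (g : X) (α : MulAut X) (x : X) :
    (MulAut.conj g⁻¹ * α * (MulAut.conj g⁻¹)⁻¹) x = g⁻¹ * α (g * x * g⁻¹) * g := by
  rw [J2.Aut.conj_conj, inv_inv]

theorem sylAut [Finite X] (D : Dat t u Q v ρ) (S : Sylow 2 X) (α : MulAut X) (_ : IsPGroup 2 ↥(zpowers α))
    (h : ∀ x ∈ S, α x = x) : Inn α := by
  obtain ⟨T, hT, hQT⟩ := exists_T D
  obtain ⟨g, hg⟩ := exists_conj_sylow S T
  apply inn_of_conj (g := g)
  set β := MulAut.conj g⁻¹ * α * (MulAut.conj g⁻¹)⁻¹ with hβ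
  have hβT : ∀ x ∈ T, β x = x := by
    intro x hx
    rw [hβ, conj_apply', h (g * x * g⁻¹) ((hg _).mpr (by
      have : g⁻¹ * (g * x * g⁻¹) * g = x := by group
      rw [this]; exact hx))]
    group
  have hβt : β t = t := hβT t (hQT (t_mem_Q D))
  have hβv : ∀ i, β (v i) = v i := fun i => hβT _ (hQT ⟨v i, D.M.v_mem i, rfl⟩)
  exact D.inner_of_even β hβt 1 (fun _ => 0) (fun i => by
    rw [hβv i, zp_zero, one_mul]; rfl) (by simp)

theorem out2 [Finite X] (D : Dat t u Q v ρ) (α : MulAut X) (hα : ¬ Inn α) (hαα : α * α = 1) (w : X)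
    (hww : w * w = 1) (hw1 : w ≠ 1) (hw : ¬ Cen w) (hαw : α w = w)
    (hC : ∀ c : X, c * w = w * c → α c = c ∨ α c = w * c) : False := by
  obtain ⟨g, rfl⟩ := isConj_iff.1 (isConj_of_not_cen D hww hw1 hw)
  set β := MulAut.conj g⁻¹ * α * (MulAut.conj g⁻¹)⁻¹ with hβ
  have hβx : ∀ x, β x = g⁻¹ * α (g * x * g⁻¹) * g := fun x => by rw [hβ, conj_apply']
  have hβu : β u = u := by rw [hβx, hαw]; group
  have hββ : ∀ x, β (β x) = x := by
    intro x
    have h1 : β * β = 1 := by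
      rw [hβ]
      calc MulAut.conj g⁻¹ * α * (MulAut.conj g⁻¹)⁻¹ * (MulAut.conj g⁻¹ * α * (MulAut.conj g⁻¹)⁻¹)
          = MulAut.conj g⁻¹ * (α * α) * (MulAut.conj g⁻¹)⁻¹ := by group
        _ = 1 := by rw [hαα]; group
    exact DFunLike.congr_fun h1 x
  have hβC : ∀ c : X, c * u = u * c → β c = c ∨ β c = u * c := by
    intro c hc
    have h1 := hC (g * c * g⁻¹) (by
      calc g * c * g⁻¹ * (g * u * g⁻¹) = g * (c * u) * g⁻¹ := by group
        _ = g * (u * c) * g⁻¹ := by rw [hc]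
        _ = g * u * g⁻¹ * (g * c * g⁻¹) := by group)
    rcases h1 with h1 | h1
    · left; rw [hβx, h1]; group
    · right; rw [hβx, h1]; group
  -- conjugates of `t` in `C(t) ∩ C(u)` are fixed
  have hfix : ∀ c : X, c ∈ Q.map (centralizer ({t} : Set X)).subtype → IsConj t c → c * u = u * c → β c = c := by
    intro c hcQ hc hcu
    rcases hβC c hcu with h | h
    · exact h
    · exfalso
      have h1 : IsConj t (β c) := (D.isConj_aut β).trans (isConj_map β hc)
      rw [h] at h1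
      obtain ⟨q, hq, rfl⟩ := hcQ
      set y : centralizer ({t} : Set X) := ⟨u, D.u_mem⟩ * q with hy
      have h2 : y ∈ Q := D.mem_Q_of_isConj (x := y) h1
      apply D.u_notMem
      have h3 := Q.mul_mem h2 (Q.inv_mem hq)
      have e : y * q⁻¹ = ⟨u, D.u_mem⟩ := by rw [hy]; group
      rwa [e] at h3
  refine J2.Aut.no_outer_u D (α := β) ?_ hββ (hfix t (t_mem_Q D) (IsConj.refl t) D.F.comm) hβu ?_
  · intro k hk
    exact hα (inn_of_conj ⟨k, hk⟩)
  · intro i hi
    exact hfix _ ⟨v i, D.M.v_mem i, rfl⟩ (D.isConj_v i) hi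

theorem tab_elt [Finite X] (D : Dat t u Q v ρ) (w : X) (N : Subgroup X) (hN : Bad w N) (V : Subgroup X)
    (hVN : V ≤ N) (h4 : 4 ∣ Nat.card ↥V) : ∃ L : Subgroup X, VFacts V L := by
  obtain ⟨f, U, V0, H0, F⟩ := Cfsg.Agent.J2Type.CentU.main D.F
  obtain ⟨g, rfl⟩ := isConj_iff.1 (isConj_of_not_cen D hN.sq hN.ne (hN.non w hN.mem hN.sq hN.ne))
  set N' : Subgroup X := N.map (MulAut.conj g).symm.toMonoidHom with hN'
  have hmem : ∀ (P : Subgroup X) (x : X), x ∈ P.map (MulAut.conj g).symm.toMonoidHom ↔ g * x * g⁻¹ ∈ P := fun P x =>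
    mem_map_symm (MulAut.conj g) P x
  have h1 : N' ≤ V0 := by
    apply le_V_of_non D F
    · intro n hn
      have h2 := hN.le _ ((hmem N n).1 hn)
      calc n * u = g⁻¹ * (g * n * g⁻¹ * (g * u * g⁻¹)) * g := by group
        _ = g⁻¹ * (g * u * g⁻¹ * (g * n * g⁻¹)) * g := by rw [h2]
        _ = u * n := by group
    · intro c hc n hn
      rw [hN', hmem] at hn ⊢
      have h3 := hN.norm (g * c * g⁻¹) (by
        calc g * c * g⁻¹ * (g * u * g⁻¹) = g * (c * u) * g⁻¹ := by group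
          _ = g * (u * c) * g⁻¹ := by rw [hc]
          _ = g * u * g⁻¹ * (g * c * g⁻¹) := by group) _ hn
      have e : g * c * g⁻¹ * (g * n * g⁻¹) * (g * c * g⁻¹)⁻¹ = g * (c * n * c⁻¹) * g⁻¹ := by group
      rwa [e] at h3
    · intro b hb hbb hb1 hbc
      rw [hN', hmem] at hb
      exact hN.non _ hb (by
        calc g * b * g⁻¹ * (g * b * g⁻¹) = g * (b * b) * g⁻¹ := by group
          _ = 1 := by rw [hbb]; group) (fun h => hb1 (conj_eq_one_iff.1 h)) (cen_conj hbc g)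
  have h2 : V.map (MulAut.conj g).symm.toMonoidHom = V0 := by
    apply Subgroup.eq_of_le_of_card_ge ((map_mono hVN).trans h1)
    rw [F.cardV]
    have h3 : Nat.card ↥(V.map (MulAut.conj g).symm.toMonoidHom) = Nat.card ↥V :=
      (Nat.card_congr (V.equivMapOfInjective _ (MulAut.conj g).symm.injective).toEquiv).symm
    rw [h3]
    exact Nat.le_of_dvd Nat.card_pos h4
  refine ⟨H0.map (MulAut.conj g).toMonoidHom, ?_⟩
  have h3 := (vfacts D F).map (MulAut.conj g)
  rw [← h2, map_map_symm] at h3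
  exact h3

/-- **The fact sheet of a group of Hall–Janko type.** -/
theorem sheet_of_dat [Finite X] (D : Dat t u Q v ρ) : Sheet X where
  out := by
    rcases Cfsg.Agent.KFacts.J2.SheetX.index_le D with h | h <;> rw [h] <;> norm_num
  schreier := by
    obtain ⟨n, hn⟩ := (Cfsg.Agent.KFacts.J2.SheetX.sheetX D).schreier
    exact schreier_of_iterate hn
  sylAut := sylAut D
  z1 := z1 D
  bal := bal D
  out2 := fun α h1 h2 w h3 h4 h5 h6 h7 _ _ _ _ _ => out2 D α h1 h2 w h3 h4 h5 h6 h7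
  tab := tab_of_elt fun w N hN V hVN _ _ _ _ h4 => tab_elt D w N hN V hVN h4

/-- **The fact sheet of every group isomorphic to `J₂`.** -/
theorem sheet_of_iso [Finite X] (h : Cfsg.Spor.IsoJ2 X) : Sheet X := by
  obtain ⟨t, u, Q, v, ρ, D⟩ := Cfsg.Agent.KFacts.J2.Facts.exists_dat_of h
  exact sheet_of_dat D

/-- **The fact sheet of the model.** -/
theorem sheet : Sheet Cfsg.Spor.J2 := by
  have hfin : Finite Cfsg.Spor.J2 :=
    Nat.finite_of_card_ne_zero (by rw [Cfsg.Agent.S1619.result.2.2.2]; norm_num)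
  exact sheet_of_iso ⟨MulEquiv.refl _⟩

end Cfsg.Agent.OddHalf.D4.Spor.JTwo
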