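import Cfsg.Agent.BabyM.CoTwoMod
import Cfsg.Agent.Co2Type.TData
import Cfsg.Agent.Co2Type.Mono
import Cfsg.Agent.LeechMat.Elements

/-!
# Lattice vectors for the involutions of `Co2` (data)

For the sign changes on `c = my` (octad) and `c = mv` (dodecad): `r_j = w_j - A w_j`, `w_j`, `Y_k` in `evn a0`,
`(Y_k, r_j) / 8 = δ_kj` modulo 2, `j, k < 8`.  For `mz` six vectors.
-/

set_option autoImplicit false

namespace Cfsg.Agent.OddHalf.D4.Spor.LatData

open Cfsg Cfsg.Agent.LeechMat.Elements

def wy : List ℕ :=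
  [0x84a1094210841ce83a10841d284a10,
   0x842108421084210841908421484210,
   0x8424e84a5084210842527421094210,
   0x841d08420e8420e83a10939d084a10,
   0x7c5f17c5ef9c62f7be318c5ef8be31,
   0x84250841d083a50941d08421093a10,
   0x7c6318bdf18c5ef7c5f17c6318b631,
   0x8be317be2f7be337c6317be2f8c62f]

def ry : List ℕ :=
  [0x84210842108418c842108421084210,
   0x842108421084210841108421084210,
   0x842108421084210842948421084210,
   0x84210842108420c842108321084210,
   0x842108421084a4e7425284a1084250,
   0x842108421083290a41908421084210,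
   0x8421084210849ce741d284a1084250,
   0x842108421083a567425283a1084250]

def Yy : List ℕ :=
  [0x83a508420e84250842528421094250,
   0x7c5f17be2f8bdf18c6337bdf18be31,
   0x942108421074210842129424e841ce,
   0x84a129421084a109421074a10841d0,
   0x84250841d0841d294210849ce84210,
   0x84250942108421074a10941ce841d0,
   0x83a1083a1084210741d2941d0841d0,
   0x849d0849d084a10942107420e84210]

def wv : List ℕ :=
  [0x841ce8425274210842107425284210,
   0x8421083a108421283a0e83a5284250,
   0x73a1074a108421083a108421094a12,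
   0x83a0e849ce841d0842107421084250,
   0x93a1083a1094210741d08420e8420e,
   0x7be718c5ef7c6318c62f8c5ef7bdf1,
   0x84a1284250839d294a108421084210,
   0xa42108421084210842108421064210]

def rv : List ℕ :=
  [0x8418c8421084210842106429084210,
   0x842108421084214832108329084210,
   0x8321064210842108321084210a4210,
   0x8320c8421084190842106421084210,
   0x832108421084210642108421084210,
   0x83ad2942108425294a10949d074210,
   0x852148421084194a52108421084210,
   0x842108421084210842108421044210]

def Yv : List ℕ :=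
  [0x83a10842109425274250841d074210,
   0x8421283a129421084a107421094a10,
   0x839d0849d084a10742107420e84210,
   0x8425083a10841d2841ce841d083a10,
   0x842108425083a1093a1083a0e741d0,
   0x842108421084290842108421084290,
   0x83a10941d0841d0742508420e841d0,
   0x7be2f8c5f17be318c5b18c62f8c5f1]

def rz : List ℕ :=
  [0x842108421084210842108421065210,
   0x8421084210842108321084210a4210,
   0x842108321084210852108421084210,
   0x842106521084210842108421084210,
   0x83210a421084210842108421084210,
   0x73a1094a108421084a108421094a12]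

def ty : List ℕ := [42232, 115766, 180636, 198058, 208020, 231532, 301236, 361272, 427666, 463064, 475812, 504864, 560668, 628112, 692282, 722544, 742412, 762504, 792232, 804052, 843820, 855332, 861210, 884962, 919694, 926128, 951624, 1722420]

def tv : List ℕ :=
  [42232, 277580, 535268, 555160, 580704, 602472, 668866, 792232, 1060490, 1070536, 1121336, 1161408, 1192108, 1445088, 1573998, 1584464, 1608104, 1664160, 1710664, 1849378, 2101096, 2126890, 2168036, 2242672, 2268296, 2435240, 2624690, 2631052, 2664522, 2702848, 2769128, 2890176, 3147996, 3154402, 3168928, 3189796, 3351624, 3421328, 3444840, 3678776, 3698756, 3704512, 3739786, 3806496, 3951624]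

/-- the ten points off the dodecad and the pair -/
def m10 : ℕ := 508694

/-! ### Checks -/

open Cfsg.Agent.SporadicA.GolayBase Cfsg.Agent.SporadicA.GolayPerm
open Cfsg.Agent.Co2Type.Mono Cfsg.Agent.Co2Type.TData
open Cfsg.Agent.BabyM.CoTwoMod Cfsg.Agent.SporadicStructure.Co2RankThree
open Cfsg.Agent.SporadicA.Co0Mono (signCo0 signCo0_smul signMap_apply sgn_zero sgn_one)

theorem wy_leech : ∀ j : Fin 8, isLeech (wy.getD j 0) = true := by decide +kernel
theorem ry_leech : ∀ j : Fin 8, isLeech (ry.getD j 0) = true := by decide +kernel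
theorem Yy_leech : ∀ j : Fin 8, isLeech (Yy.getD j 0) = true := by decide +kernel
theorem wv_leech : ∀ j : Fin 8, isLeech (wv.getD j 0) = true := by decide +kernel
theorem rv_leech : ∀ j : Fin 8, isLeech (rv.getD j 0) = true := by decide +kernel
theorem Yv_leech : ∀ j : Fin 8, isLeech (Yv.getD j 0) = true := by decide +kernel
theorem rz_leech : ∀ j : Fin 6, isLeech (rz.getD j 0) = true := by decide +kernel

theorem ry_eq : ∀ j : Fin 8, ∀ k : Fin 24, sdig (ry.getD j 0) k =
    if my.testBit k = true then 2 * sdig (wy.getD j 0) k else 0 := by decide +kernel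
theorem rv_eq : ∀ j : Fin 8, ∀ k : Fin 24, sdig (rv.getD j 0) k =
    if mv.testBit k = true then 2 * sdig (wv.getD j 0) k else 0 := by decide +kernel

theorem wy_evn : ∀ j : Fin 8, (sdig (wy.getD j 0) 23 + sdig (wy.getD j 0) 0) % 4 = 0 := by decide +kernel
theorem wv_evn : ∀ j : Fin 8, (sdig (wv.getD j 0) 23 + sdig (wv.getD j 0) 0) % 4 = 0 := by decide +kernel
theorem Yy_evn : ∀ j : Fin 8, (sdig (Yy.getD j 0) 23 + sdig (Yy.getD j 0) 0) % 4 = 0 := by decide +kernel
theorem Yv_evn : ∀ j : Fin 8, (sdig (Yv.getD j 0) 23 + sdig (Yv.getD j 0) 0) % 4 = 0 := by decide +kernel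

theorem gram_y : ∀ j k : Fin 8, (dotc (Yy.getD k 0) (ry.getD j 0) - if k = j then 8 else 0) % 16 = 0 := by
  decide +kernel
theorem gram_v : ∀ j k : Fin 8, (dotc (Yv.getD k 0) (rv.getD j 0) - if k = j then 8 else 0) % 16 = 0 := by
  decide +kernel

theorem pos_eq_idx (p : GolayPt) : Cfsg.Agent.LeechMat.Code.pos p = idx p := by
  rcases p with _ | s <;> rfl

/-- the sign change in coordinates -/
theorem coe_sign {m : ℕ} (hm : isCode m = true) (v : leechLattice) (p : GolayPt) :
    ((signCo0 (cd m) • v : leechLattice) : GolayPt → ℤ) p =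
      if m.testBit (idx p) = true then -(v : GolayPt → ℤ) p else (v : GolayPt → ℤ) p := by
  rw [signCo0_smul, signMap_apply, coe_cd hm]
  unfold word
  by_cases h : m.testBit (idx p) = true
  · rw [if_pos h, if_pos h, sgn_one]; ring
  · rw [if_neg h, if_neg h, sgn_zero]; ring

/-- eight independent functionals vanishing on the vectors fixed by `A` modulo `rad a0` -/
def Data (A : Co0) : Prop := ∃ w r Y : Fin 8 → leechLattice, (∀ j, w j ∈ evn a0) ∧ (∀ j, w j - A • w j = r j) ∧
  (∀ k, Y k ∈ evn a0) ∧ ∀ j k, (16 : ℤ) ∣ dt (Y k) (r j) - if k = j then 8 else 0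

theorem evn_of_packed {n : ℕ} (h : isLeech n = true) (h4 : (sdig n 23 + sdig n 0) % 4 = 0) :
    (⟨vec n, isLeech_sound h⟩ : leechLattice) ∈ evn a0 := by
  rw [mem_evn, dt_a0]
  show (16 : ℤ) ∣ 4 * sdig n 23 + 4 * sdig n 0
  omega

theorem data_of {c : ℕ} (hc : isCode c = true) {ws rs Ys : List ℕ}
    (h1 : ∀ j : Fin 8, isLeech (ws.getD j 0) = true) (h2 : ∀ j : Fin 8, isLeech (rs.getD j 0) = true)
    (h3 : ∀ j : Fin 8, isLeech (Ys.getD j 0) = true)
    (h4 : ∀ j : Fin 8, ∀ k : Fin 24, sdig (rs.getD j 0) k =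
      if c.testBit k = true then 2 * sdig (ws.getD j 0) k else 0)
    (h5 : ∀ j : Fin 8, (sdig (ws.getD j 0) 23 + sdig (ws.getD j 0) 0) % 4 = 0)
    (h6 : ∀ j : Fin 8, (sdig (Ys.getD j 0) 23 + sdig (Ys.getD j 0) 0) % 4 = 0)
    (h7 : ∀ j k : Fin 8, (dotc (Ys.getD k 0) (rs.getD j 0) - if k = j then 8 else 0) % 16 = 0) :
    Data (signCo0 (cd c)) := by
  refine ⟨fun j => ⟨vec (ws.getD j 0), isLeech_sound (h1 j)⟩, fun j => ⟨vec (rs.getD j 0), isLeech_sound (h2 j)⟩,
    fun j => ⟨vec (Ys.getD j 0), isLeech_sound (h3 j)⟩, fun j => evn_of_packed (h1 j) (h5 j), fun j => ?_,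
    fun j => evn_of_packed (h3 j) (h6 j), fun j k => ?_⟩
  · apply Subtype.ext
    funext p
    have h8 := h4 j ⟨idx p, idx_lt p⟩
    have e1 : ∀ n : ℕ, vec n p = sdig n (idx p) := fun n => by rw [vec_apply, pos_eq_idx]
    show vec (ws.getD j 0) p - ((signCo0 (cd c) • (⟨vec (ws.getD j 0), isLeech_sound (h1 j)⟩ : leechLattice) :
      leechLattice) : GolayPt → ℤ) p = vec (rs.getD j 0) p
    rw [coe_sign hc]
    show vec (ws.getD j 0) p - (if c.testBit (idx p) = true then -vec (ws.getD j 0) p else vec (ws.getD j 0) p) = _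
    rw [e1, e1, h8]
    split_ifs <;> ring
  · show (16 : ℤ) ∣ dotInt (vec (Ys.getD k 0)) (vec (rs.getD j 0)) - _
    rw [← dotc_eq]
    exact Int.dvd_of_emod_eq_zero (h7 j k)

theorem isCode_my : isCode my = true := by decide +kernel
theorem isCode_mv : isCode mv = true := by decide +kernel
theorem isCode_mz : isCode mz = true := by decide +kernel

theorem data_y : Data (signCo0 (cd my)) :=
  data_of isCode_my wy_leech ry_leech Yy_leech ry_eq wy_evn Yy_evn gram_y

theorem data_v : Data (signCo0 (cd mv)) :=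
  data_of isCode_mv wv_leech rv_leech Yv_leech rv_eq wv_evn Yv_evn gram_v

/-! ### Pairs of points -/

theorem ty_spec : ∀ i j : Fin 24, my.testBit i = true → my.testBit j = true → i ≠ j →
    ∃ m ∈ ty, isCode m = true ∧ Nat.land m my = Nat.lor (2 ^ i.1) (2 ^ j.1) ∧ m.testBit 0 = m.testBit 23 := by
  decide +kernel

theorem tv_spec : ∀ i j : Fin 24, m10.testBit i = true → m10.testBit j = true → i ≠ j →
    ∃ m ∈ tv, isCode m = true ∧ Nat.land m (Nat.xor 16777215 mv) = Nat.lor (2 ^ i.1) (2 ^ j.1) := by
  decide +kernel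

theorem m10_spec : ∀ k : Fin 24, m10.testBit k = true → mv.testBit k = false ∧ k.1 ≠ 0 ∧ k.1 ≠ 23 := by
  decide +kernel

end Cfsg.Agent.OddHalf.D4.Spor.LatData
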