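import Cfsg.Agent.OddHalf.D4.Spor.LatTwo
import Cfsg.Agent.OddHalf.D4.Spor.LatData
import Cfsg.Agent.Co2Type.FactsClass

/-!
# Four-groups of `Co2` on `evn l / rad l`

`noTriple` : there is no four-group `{1, g, h, g h}` of `Co0` fixing a minimal vector `l` such that for all ordered
pairs `(A, B)` of its involutions (one) of two vectors fixed by `A` modulo `rad l` one or the sum is fixed by `B`,
(two) the commutators `A y - y` with norm divisible by 32 are fixed by `B`.

Proof: by (one) either all three or none is of trace `-8` (`noMix`, by counting: eight functionals for the octad and the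
dodecad, six for the complement of an octad).  Trace `8`, `0`: `B` is a scalar on the `e_i` for the `i` in the octad
resp. off the dodecad, by (two), and the traces of `B`, `A B` are contradictory.
-/

set_option autoImplicit false

namespace Cfsg.Agent.OddHalf.D4.Spor.LatFour

open Cfsg Cfsg.Agent Cfsg.Agent.BabyM.CoTwoMod Cfsg.Agent.SporadicStructure.Co2RankThree
open Cfsg.Agent.OddHalf.D4.Spor.LatTwo Cfsg.Agent.OddHalf.D4.Spor.LatData
open Cfsg.Agent.SporadicA.GolayBase Cfsg.Agent.SporadicA.GolayPerm Cfsg.Agent.SporadicStructure.M24El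
open Cfsg.Agent.Co2Type.Mono Cfsg.Agent.Co2Type.TData
open Cfsg.Agent.SporadicA.Co0Mono (signCo0 signCo0_mul_self)

local notation "e8" => Cfsg.Agent.SporadicA.Co0Basic.e8

/-! ### Vectors fixed modulo `rad u` -/

/-- the vectors fixed modulo `rad u` by `B` -/
def Fr (u : leechLattice) (B : Co0) : AddSubgroup leechLattice where
  carrier := {y | B • y - y ∈ rad u}
  add_mem' := fun {a b} ha hb => by
    change B • (a + b) - (a + b) ∈ rad u
    have : B • (a + b) - (a + b) = (B • a - a) + (B • b - b) := by rw [smul_add']; abel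
    rw [this]
    exact add_mem ha hb
  zero_mem' := by
    change B • (0 : leechLattice) - 0 ∈ rad u
    have : B • (0 : leechLattice) = 0 := (SporadicA.Co0Basic.toHom B).map_zero
    rw [this, sub_zero]
    exact zero_mem _
  neg_mem' := fun {a} ha => by
    change B • (-a) - (-a) ∈ rad u
    have : B • (-a) - (-a) = -(B • a - a) := by rw [smul_neg']; abel
    rw [this]
    exact neg_mem ha

theorem mem_Fr {u : leechLattice} {B : Co0} {y : leechLattice} : y ∈ Fr u B ↔ B • y - y ∈ rad u := Iff.rfl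

theorem two_mem_Fr (u : leechLattice) (B : Co0) (y : leechLattice) : 2 • y ∈ Fr u B := by
  rw [mem_Fr, smul_two]
  have : 2 • (B • y) - 2 • y = 2 • (B • y - y) := by rw [two_smul, two_smul, two_smul]; abel
  rw [this]
  exact two_smul_mem_rad _ _

/-! ### Transport -/

/-- what `C_Q(a) ≤ C_Q(b)` gives for the elements `A`, `B` of `Co₀` (as in `BabyHyp`) -/
def Pr (l : leechLattice) (A B : Co0) : Prop :=
  (∀ y ∈ evn l, ∀ y' ∈ evn l, A • y - y ∈ rad l → A • y' - y' ∈ rad l →
      B • y - y ∈ rad l ∨ B • y' - y' ∈ rad l ∨ B • (y + y') - (y + y') ∈ rad l) ∧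
    (∀ y ∈ evn l, (32 : ℤ) ∣ dt (A • y - y) (A • y - y) → B • (A • y - y) - (A • y - y) ∈ rad l)

/-- no four-group (as in `BabyHyp`) -/
def NoTriple (l : leechLattice) : Prop :=
  ∀ g h : Co0, g • l = l → h • l = l → g * g = 1 → h * h = 1 → g * h = h * g → g ≠ 1 → h ≠ 1 → g * h ≠ 1 →
    Pr l g h → Pr l h g → Pr l g (g * h) → Pr l (g * h) g → Pr l h (g * h) → Pr l (g * h) h → False

theorem smul_rad {k : Co0} {u v : leechLattice} (hk : k • u = v) {x : leechLattice} (hx : x ∈ rad u) :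
    k • x ∈ rad v := by
  obtain ⟨z, rfl | rfl⟩ := mem_rad.1 hx
  · rw [smul_two]; exact two_smul_mem_rad v _
  · rw [smul_add', smul_two, hk]
    exact add_mem (two_smul_mem_rad v _) (self_mem_rad v)

theorem smul_rad_iff {k : Co0} {u v : leechLattice} (hk : k • u = v) {x : leechLattice} :
    k • x ∈ rad v ↔ x ∈ rad u := by
  refine ⟨fun h => ?_, smul_rad hk⟩
  have h1 := smul_rad (k := k⁻¹) (u := v) (v := u) (by rw [← hk, inv_smul_smul]) h
  rwa [inv_smul_smul] at h1

theorem smul_evn_iff {k : Co0} {u v : leechLattice} (hk : k • u = v) {x : leechLattice} :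
    k • x ∈ evn v ↔ x ∈ evn u := by
  rw [mem_evn, mem_evn, ← hk, dt_smul]

theorem conj_smul (k A : Co0) (x : leechLattice) : (k * A * k⁻¹) • (k • x) = k • (A • x) := by
  rw [mul_smul, mul_smul, inv_smul_smul]

theorem conj_sub (k A : Co0) (x : leechLattice) :
    (k * A * k⁻¹) • (k • x) - k • x = k • (A • x - x) := by
  rw [conj_smul, smul_sub']

theorem Pr.conj {u v : leechLattice} {A B k : Co0} (hk : k • u = v) (h : Pr u A B) :
    Pr v (k * A * k⁻¹) (k * B * k⁻¹) := by
  have e : ∀ y : leechLattice, k • (k⁻¹ • y) = y := fun y => smul_inv_smul k y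
  have he : ∀ y : leechLattice, y ∈ evn v ↔ k⁻¹ • y ∈ evn u := fun y => by
    rw [← smul_evn_iff hk, e]
  have hr : ∀ (C : Co0) (y : leechLattice), (k * C * k⁻¹) • y - y ∈ rad v ↔ C • (k⁻¹ • y) - k⁻¹ • y ∈ rad u :=
    fun C y => by rw [← smul_rad_iff hk, ← conj_sub, e]
  constructor
  · intro y hy y' hy' h1 h2
    rw [hr, hr, hr, smul_add']
    exact h.1 _ ((he y).1 hy) _ ((he y').1 hy') ((hr A y).1 h1) ((hr A y').1 h2)
  · intro y hy h1
    have e1 : (k * A * k⁻¹) • y - y = k • (A • (k⁻¹ • y) - k⁻¹ • y) := by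
      rw [← conj_sub, e]
    rw [e1] at h1 ⊢
    rw [hr, inv_smul_smul]
    exact h.2 _ ((he y).1 hy) (by rwa [dt_smul] at h1)

/-! ### The classes -/

/-- the type of an element fixing `a0` -/
def Ty (m : ℕ) (x : Co0) : Prop := ∃ k : Co0, k • a0 = a0 ∧ k * x * k⁻¹ = signCo0 (cd m)

theorem mo_idP {m : ℕ} (hm : inE m = true) : Co2Type.Mono.toCo0 (mo2 m idP) = signCo0 (cd m) := by
  rw [toCo0_mo2 hm okP_idP]
  have h1 := mo_one
  unfold mo at h1 ⊢
  rw [cd_zero, SporadicA.Co0Mono.signCo0_zero, one_mul] at h1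
  rw [h1, mul_one]

theorem types {x : Co0} (hxa : x • a0 = a0) (hx : x * x = 1) (hx1 : x ≠ 1) : Ty mz x ∨ Ty my x ∨ Ty mv x := by
  obtain ⟨x', hx'⟩ := exists_toCo0 (g := x) hxa
  have h1 : x' * x' = 1 := toCo0_injective (by rw [map_mul, hx', hx, map_one])
  have h2 : x' ≠ 1 := by rintro rfl; rw [map_one] at hx'; exact hx1 hx'.symm
  have key : ∀ m, inE m = true → IsConj (mo2 m idP) x' → Ty m x := by
    intro m hm hc
    obtain ⟨c, hc⟩ := isConj_iff.1 hc.symm
    refine ⟨Co2Type.Mono.toCo0 c, toCo0_smul c, ?_⟩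
    rw [← hx', ← map_inv, ← map_mul, ← map_mul, hc, mo_idP hm]
  rcases Co2Type.FactsClass.classes h1 h2 with h | h | h
  · exact Or.inl (key _ (by decide +kernel) h)
  · exact Or.inr (Or.inl (key _ (by decide +kernel) h))
  · exact Or.inr (Or.inr (key _ (by decide +kernel) h))

theorem tr8_sign {m : ℕ} (hm : inE m = true) : tr8 (signCo0 (cd m)) = 8 * (24 - 2 * (popcount m : ℤ)) := by
  have h1 := mo_idP hm
  rw [toCo0_mo2 hm okP_idP] at h1
  rw [← h1, tr8_mo (isCode_of_inE hm) (ok_of_okP okP_idP), Co2Type.FactsClass.trN_idP hm]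

theorem tr8_ty {m : ℕ} (hm : inE m = true) {x : Co0} (h : Ty m x) : tr8 x = 8 * (24 - 2 * (popcount m : ℤ)) := by
  obtain ⟨k, -, hk⟩ := h
  rw [← tr8_sign hm, ← hk, tr8_conj]

theorem tr8_z {x : Co0} (h : Ty mz x) : tr8 x = -64 := by
  rw [tr8_ty (by decide +kernel) h, show popcount mz = 16 by decide +kernel]; norm_num

theorem tr8_y {x : Co0} (h : Ty my x) : tr8 x = 64 := by
  rw [tr8_ty (by decide +kernel) h, show popcount my = 8 by decide +kernel]; norm_num

theorem tr8_v {x : Co0} (h : Ty mv x) : tr8 x = 0 := by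
  rw [tr8_ty (by decide +kernel) h, show popcount mv = 12 by decide +kernel]; norm_num

/-! ### Many incongruent vectors -/

theorem dt_fixed {A : Co0} (hA : A * A = 1) {y w : leechLattice} (hy : A • y - y ∈ rad a0) (hw : w ∈ evn a0) :
    (16 : ℤ) ∣ dt y (w - A • w) := by
  have h1 : dt y (A • w) = dt (A • y) w := by
    have h2 := dt_smul A (A • y) w
    rw [smul_smul, hA, one_smul] at h2
    exact h2
  have h3 : dt y (w - A • w) = -dt (A • y - y) w := by
    rw [dt_sub_right, dt_sub_left, h1]; ring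
  rw [h3, Int.dvd_neg]
  rw [mem_evn] at hw
  obtain ⟨z, hz | hz⟩ := mem_rad.1 hy
  · rw [hz, dt_comm, dt_two_smul_right]
    obtain ⟨t, ht⟩ := eight_dvd_dt w z
    exact ⟨t, by rw [ht]; ring⟩
  · rw [hz, dt_add_left, dt_comm (2 • z) w, dt_two_smul_right]
    obtain ⟨t, ht⟩ := eight_dvd_dt w z
    obtain ⟨s, hs⟩ := hw
    exact ⟨t + s, by rw [ht, hs]; ring⟩

theorem many {A : Co0} (D : Data A) (hA : A * A = 1) : ∃ F : (Fin 8 → Bool) → leechLattice,
    (∀ s, F s ∈ evn a0) ∧ ∀ s t, A • (F s - F t) - (F s - F t) ∈ rad a0 → s = t := by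
  obtain ⟨w, r, Y, hw, hr, hY, hg⟩ := D
  refine ⟨fun s => ∑ k, if s k then Y k else 0, fun s => ?_, fun s t hst => ?_⟩
  · refine AddSubgroup.sum_mem _ fun k _ => ?_
    split_ifs
    · exact hY k
    · exact zero_mem _
  · let φ : Fin 8 → leechLattice →+ ℤ := fun j =>
      { toFun := fun y => dt y (r j)
        map_zero' := by rw [dt_comm, dt_zero_right]
        map_add' := fun a b => dt_add_left a b _ }
    have h1 : ∀ (s : Fin 8 → Bool) (j : Fin 8),
        (16 : ℤ) ∣ dt (∑ k, if s k then Y k else 0) (r j) - if s j then 8 else 0 := by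
      intro s j
      have e1 : dt (∑ k, if s k then Y k else 0) (r j) = ∑ k, if s k then dt (Y k) (r j) else 0 := by
        show φ j _ = _
        rw [map_sum]
        refine Finset.sum_congr rfl fun k _ => ?_
        by_cases h : s k = true
        · rw [if_pos h, if_pos h]; rfl
        · rw [if_neg h, if_neg h, map_zero]
      have e2 : (if s j then (8 : ℤ) else 0) = ∑ k, if s k then (if k = j then (8 : ℤ) else 0) else 0 := by
        rw [Finset.sum_eq_single j]
        · rw [if_pos rfl]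
        · intro k _ hk
          rw [if_neg hk]; split_ifs <;> rfl
        · intro h; exact absurd (Finset.mem_univ j) h
      rw [e1, e2, ← Finset.sum_sub_distrib]
      refine Finset.dvd_sum fun k _ => ?_
      by_cases h : s k = true
      · rw [if_pos h, if_pos h]; exact hg j k
      · rw [if_neg h, if_neg h, sub_zero]; exact dvd_zero _
    funext j
    have h2 := dt_fixed hA hst (hw j)
    rw [hr j, dt_sub_left] at h2
    have h3 := h1 s j
    have h4 := h1 t j
    by_contra hne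
    change (16 : ℤ) ∣ dt (∑ k, if s k then Y k else 0) (r j) - dt (∑ k, if t k then Y k else 0) (r j) at h2
    have key : ∀ (a b : Bool) (x y : ℤ), a ≠ b → (16 : ℤ) ∣ x - y → (16 : ℤ) ∣ x - (if a then 8 else 0) →
        (16 : ℤ) ∣ y - (if b then 8 else 0) → False := by
      intro a b x y hab h5 h6 h7
      cases a <;> cases b
      · exact hab rfl
      · simp only [if_true, Bool.false_eq_true, if_false] at h6 h7; omega
      · simp only [if_true, Bool.false_eq_true, if_false] at h6 h7; omega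
      · exact hab rfl
    exact key _ _ _ _ hne h2 h3 h4

/-! ### The complement of an octad -/

/-- the six vectors -/
def rzv (j : Fin 6) : leechLattice := ⟨LeechMat.Elements.vec (rz.getD j 0), LeechMat.Elements.isLeech_sound (rz_leech j)⟩

theorem sum24 (f : GolayPt → ℤ) : ∑ p, f p = ∑ k ∈ Finset.range 24, f (LeechMat.Code.pt k) :=
  LeechMat.Elements.sum_points' f

theorem rz_sum (y : leechLattice) (j : Fin 6) : dt y (rzv j) =
    ∑ k ∈ Finset.range 24, (y : GolayPt → ℤ) (LeechMat.Code.pt k) * LeechMat.Elements.sdig (rz.getD j 0) k := by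
  show dotInt (y : GolayPt → ℤ) (LeechMat.Elements.vec (rz.getD j 0)) = _
  unfold dotInt
  rw [sum24]
  refine Finset.sum_congr rfl fun k hk => ?_
  rw [LeechMat.Elements.vec_apply, LeechMat.Code.pos_pt k (Finset.mem_range.1 hk)]

/-- the points of the octad -/
def mO : ℕ := 13370381

theorem isCode_mO : isCode mO = true := by decide +kernel

theorem mO_eq : ∀ k : Fin 24, mO.testBit k = !mz.testBit k := by decide +kernel

theorem mO_cover : ∀ k : Fin 24, mO.testBit k.1 = true ↔ k.1 = 0 ∨ k.1 = 2 ∨ k.1 = 3 ∨ k.1 = 10 ∨ k.1 = 18 ∨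
    k.1 = 19 ∨ k.1 = 22 ∨ k.1 = 23 := by decide +kernel

theorem rz_list (y : leechLattice) (j : Fin 6) (L : List ℤ)
    (hL : ∀ k : Fin 24, LeechMat.Elements.sdig (rz.getD j 0) k = L.getD k 0) : dt y (rzv j) =
    ∑ k ∈ Finset.range 24, (y : GolayPt → ℤ) (LeechMat.Code.pt k) * L.getD k 0 := by
  rw [rz_sum]
  refine Finset.sum_congr rfl fun k hk => ?_
  rw [hL ⟨k, Finset.mem_range.1 hk⟩]

/-- The conditions in coordinates. -/
theorem rz_conds {y : leechLattice} (hy : y ∈ evn a0) (h : ∀ j : Fin 6, (16 : ℤ) ∣ dt y (rzv j))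
    {f : ℕ → ℤ} (hf : ∀ k, f k = (y : GolayPt → ℤ) (LeechMat.Code.pt k)) :
    (f 2 - f 3) % 4 = 0 ∧ (f 3 - f 10) % 4 = 0 ∧ (f 10 - f 18) % 4 = 0 ∧ (f 18 - f 19) % 4 = 0 ∧
    (f 19 - f 22) % 4 = 0 ∧ (f 0 + f 2 + f 3 + f 10 + f 18 + f 19 - f 22 - f 23) % 8 = 0 ∧ (f 0 + f 23) % 4 = 0 := by
  have h0 := h 0
  have h1 := h 1
  have h2 := h 2
  have h3 := h 3
  have h4 := h 4
  have h5 := h 5
  rw [rz_list y 0 [0, 0, 4, -4] (by decide +kernel)] at h0
  rw [rz_list y 1 [0, 0, 0, 4, 0, 0, 0, 0, 0, 0, -4] (by decide +kernel)] at h1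
  rw [rz_list y 2 [0, 0, 0, 0, 0, 0, 0, 0, 0, 0, 4, 0, 0, 0, 0, 0, 0, 0, -4] (by decide +kernel)] at h2
  rw [rz_list y 3 [0, 0, 0, 0, 0, 0, 0, 0, 0, 0, 0, 0, 0, 0, 0, 0, 0, 0, 4, -4] (by decide +kernel)] at h3
  rw [rz_list y 4 [0, 0, 0, 0, 0, 0, 0, 0, 0, 0, 0, 0, 0, 0, 0, 0, 0, 0, 0, 4, 0, 0, -4] (by decide +kernel)] at h4
  rw [rz_list y 5 [2, 0, 2, 2, 0, 0, 0, 0, 0, 0, 2, 0, 0, 0, 0, 0, 0, 0, 2, 2, 0, 0, -2, -2] (by decide +kernel)] at h5
  simp only [Finset.sum_range_succ, Finset.sum_range_zero, List.getD_cons_zero, List.getD_cons_succ, List.getD_nil,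
    mul_zero, zero_add, add_zero, ← hf] at h0 h1 h2 h3 h4 h5
  rw [mem_evn, dt_a0] at hy
  have e1 : (y : GolayPt → ℤ) none = f 23 := by rw [hf]; rfl
  have e2 : (y : GolayPt → ℤ) (some 0) = f 0 := by rw [hf]; rfl
  rw [e1, e2] at hy
  refine ⟨by omega, by omega, by omega, by omega, by omega, by omega, by omega⟩

/-- a sum over the octad -/
theorem sum_mO (g : ℕ → ℤ) : ∑ k ∈ Finset.range 24, (if mO.testBit k = true then g k else 0) =
    g 0 + g 2 + g 3 + g 10 + g 18 + g 19 + g 22 + g 23 := by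
  have e' : ∀ k ∈ Finset.range 24, (if mO.testBit k = true then g k else 0) =
      if (k = 0 ∨ k = 2 ∨ k = 3 ∨ k = 10 ∨ k = 18 ∨ k = 19 ∨ k = 22 ∨ k = 23) then g k else 0 := by
    intro k hk
    have := mO_cover ⟨k, Finset.mem_range.1 hk⟩
    by_cases h5 : mO.testBit k = true
    · rw [if_pos h5, if_pos (this.1 h5)]
    · rw [if_neg h5, if_neg (fun h => h5 (this.2 h))]
  rw [Finset.sum_congr rfl e']
  simp [Finset.sum_range_succ]

theorem idx_pt' {k : ℕ} (hk : k < 24) : idx (LeechMat.Code.pt k) = k := by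
  rw [← pos_eq_idx, LeechMat.Code.pos_pt k hk]

theorem pt_idx' (p : GolayPt) : LeechMat.Code.pt (idx p) = p := by
  rw [← pos_eq_idx, LeechMat.Code.pt_pos]

theorem ar1 {a b : ℤ} (ha : a % 2 = 0) (hb : b % 2 = 0) (h : ¬ (a - b) % 4 = 0) : (a - 2 - b) % 4 = 0 := by omega

theorem ar2 {a b c : ℤ} (h : (a - b) % 4 = 0) (h' : (c - a) % 4 = 0) : (c - b) % 4 = 0 := by omega

theorem ar3 {a b : ℤ} (h : (a - b) % 4 = 0) : (b - a) % 4 = 0 := by omega

theorem ar4 {a b : ℤ} (h : (a - b) % 4 = 0) (hb : b % 2 = 0) : a % 2 = 0 := by omega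

theorem ar5 {f0 f2 f22 f23 s : ℤ} (h1 : (f22 - f2) % 4 = 0) (h2 : (f0 + f23) % 4 = 0) (h3 : (f0 - s - f2) % 4 = 0)
    (hs : s % 2 = 0) : (f22 + f23 - s) % 4 = 0 := by omega

theorem ar6 {A B : ℤ} (h1 : A % 8 = 0) (h2 : B % 4 = 0) : (A + 2 * B) % 8 = 0 := by omega

theorem ar7 {f0 f23 f2 s : ℤ} (h2 : (f0 + f23) % 4 = 0) (h3 : (f0 - s - f2) % 4 = 0) (hs : s % 2 = 0)
    (h4 : f2 % 2 = 0) : (f23 - s - f2) % 4 = 0 := by omega

theorem ar8 {a b : ℤ} (h : (a - b) % 4 = 0) (hb : b % 4 = 2) : a % 4 = 2 := by omega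

/-- the lattice vector on the octad -/
theorem exists_x {f : ℕ → ℤ} (c1 : (f 2 - f 3) % 4 = 0) (c2 : (f 3 - f 10) % 4 = 0) (c3 : (f 10 - f 18) % 4 = 0)
    (c4 : (f 18 - f 19) % 4 = 0) (c5 : (f 19 - f 22) % 4 = 0)
    (c6 : (f 0 + f 2 + f 3 + f 10 + f 18 + f 19 - f 22 - f 23) % 8 = 0) (c7 : (f 0 + f 23) % 4 = 0)
    (hev : ∀ k < 24, f k % 2 = 0) : ∃ s : ℤ, (s = 0 ∨ s = 2) ∧ ∃ x : leechLattice,
      ∀ p, (x : GolayPt → ℤ) p = if mO.testBit (idx p) = true then
        f (idx p) - (if idx p = 0 ∨ idx p = 23 then s else 0) else 0 := by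
  have e0 := hev 0 (by norm_num)
  have e2 := hev 2 (by norm_num)
  have d3 : (f 3 - f 2) % 4 = 0 := ar3 c1
  have d10 : (f 10 - f 2) % 4 = 0 := ar2 d3 (ar3 c2)
  have d18 : (f 18 - f 2) % 4 = 0 := ar2 d10 (ar3 c3)
  have d19 : (f 19 - f 2) % 4 = 0 := ar2 d18 (ar3 c4)
  have d22 : (f 22 - f 2) % 4 = 0 := ar2 d19 (ar3 c5)
  obtain ⟨s, hs, hs2⟩ : ∃ s : ℤ, (s = 0 ∨ s = 2) ∧ (f 0 - s - f 2) % 4 = 0 := by
    by_cases h1 : (f 0 - f 2) % 4 = 0
    · exact ⟨0, Or.inl rfl, by rw [sub_zero]; exact h1⟩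
    · exact ⟨2, Or.inr rfl, ar1 e0 e2 h1⟩
  have hs3 : s % 2 = 0 := by rcases hs with rfl | rfl <;> rfl
  refine ⟨s, hs, ?_⟩
  obtain ⟨x, hx⟩ : ∃ x : GolayPt → ℤ, ∀ p, x p = if mO.testBit (idx p) = true then
        f (idx p) - (if idx p = 0 ∨ idx p = 23 then s else 0) else 0 := ⟨_, fun p => rfl⟩
  have hx4 : ∀ p, mO.testBit (idx p) = true → (x p - f 2) % 4 = 0 := by
    intro p hp
    rw [hx, if_pos hp]
    have hc := (mO_cover ⟨idx p, idx_lt p⟩).1 hp
    simp only at hc
    generalize idx p = k at hc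
    rcases hc with rfl | rfl | rfl | rfl | rfl | rfl | rfl | rfl
    · rw [if_pos (Or.inl rfl)]; exact hs2
    · rw [if_neg (by norm_num), sub_zero, sub_self]; rfl
    · rw [if_neg (by norm_num), sub_zero]; exact d3
    · rw [if_neg (by norm_num), sub_zero]; exact d10
    · rw [if_neg (by norm_num), sub_zero]; exact d18
    · rw [if_neg (by norm_num), sub_zero]; exact d19
    · rw [if_neg (by norm_num), sub_zero]; exact d22
    · rw [if_pos (Or.inr rfl)]; exact ar7 c7 hs2 hs3 e2
  have hx2 : ∀ p, x p % 2 = 0 := by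
    intro p
    by_cases hp : mO.testBit (idx p) = true
    · exact ar4 (hx4 p hp) e2
    · rw [hx, if_neg hp]; norm_num
  have hxL : x ∈ leechSet := by
    rw [Leech.Norm.mem_iff_of_even hx2]
    constructor
    · rw [sum24]
      have e : ∀ k ∈ Finset.range 24, x (LeechMat.Code.pt k) = if mO.testBit k = true then
          (fun k => f k - (if k = 0 ∨ k = 23 then s else 0)) k else 0 := by
        intro k hk
        rw [hx, idx_pt' (Finset.mem_range.1 hk)]
      rw [Finset.sum_congr rfl e, sum_mO]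
      have h1 := ar6 c6 (ar5 d22 c7 hs2 hs3)
      have h2 : ∀ t : ℤ, t = f 0 + f 2 + f 3 + f 10 + f 18 + f 19 - f 22 - f 23 + 2 * (f 22 + f 23 - s) →
          t % 8 = 0 := fun t ht => by rw [ht]; exact h1
      refine h2 _ ?_
      norm_num
      ring
    · by_cases h2 : f 2 % 4 = 2
      · have : (Finset.univ.filter fun i => x i % 4 = 2) = fin mO := by
          ext p
          rw [Finset.mem_filter, mem_fin]
          constructor
          · rintro ⟨-, hp⟩
            by_contra hcon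
            rw [hx, if_neg hcon] at hp
            norm_num at hp
          · intro hp
            have := hx4 p hp
            exact ⟨Finset.mem_univ _, ar8 this h2⟩
        rw [this, Leech.Norm.mem_GS_iff]
        have h3 := word_mem isCode_mO
        convert h3 using 1
        funext p
        unfold Leech.Norm.indic word
        by_cases h4 : mO.testBit (idx p) = true
        · rw [if_pos (mem_fin.2 h4), if_pos h4]
        · rw [if_neg (fun h => h4 (mem_fin.1 h)), if_neg h4]
      · have : (Finset.univ.filter fun i => x i % 4 = 2) = ∅ := by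
          rw [Finset.filter_eq_empty_iff]
          intro p _ hp
          by_cases h3 : mO.testBit (idx p) = true
          · exact h2 (ar8 (ar3 (hx4 p h3)) hp)
          · rw [hx, if_neg h3] at hp
            norm_num at hp
        rw [this]
        exact Leech.Norm.empty_mem_GS
  exact ⟨⟨x, (SporadicA.LeechSet.mem_leechLattice_iff _).2 hxL⟩, hx⟩

theorem ar9 {a b : ℤ} (h : (a - b) % 4 = 0) (hb : b % 4 = 3) : a % 4 = 3 := by omega

theorem ar10 {a b : ℤ} (h : (a + b) % 4 = 0) (ha : a % 4 = 3) : ¬ b % 4 = 3 := by omega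

theorem ar11 {a b : ℤ} (h : (a + b) % 4 = 0) (ha : ¬ a % 4 = 3) (ha2 : a % 2 = 1) : b % 4 = 3 := by omega

/-- no odd vector satisfies the conditions -/
theorem not_odd {y : GolayPt → ℤ} (hyL : y ∈ leechSet) {f : ℕ → ℤ} (hf : ∀ p, y p = f (idx p))
    (c1 : (f 2 - f 3) % 4 = 0) (c2 : (f 3 - f 10) % 4 = 0) (c3 : (f 10 - f 18) % 4 = 0)
    (c4 : (f 18 - f 19) % 4 = 0) (c5 : (f 19 - f 22) % 4 = 0) (c7 : (f 0 + f 23) % 4 = 0)
    (hodd : ∀ p, y p % 2 = 1) : False := by
  have h1 := ((Leech.Norm.mem_iff_of_odd hodd).1 hyL).2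
  have h2 : fin mO ∈ Leech.Norm.GS := by
    rw [Leech.Norm.mem_GS_iff]
    have h3 := word_mem isCode_mO
    convert h3 using 1
    funext p
    unfold Leech.Norm.indic word
    by_cases h4 : mO.testBit (idx p) = true
    · rw [if_pos (mem_fin.2 h4), if_pos h4]
    · rw [if_neg (fun h => h4 (mem_fin.1 h)), if_neg h4]
  have h3 := Leech.Code.even_inter h1 h2
  have h4 : (((Finset.univ.filter fun i => y i % 4 = 3) ∩ fin mO).card : ℤ) =
      ∑ k ∈ Finset.range 24, (if mO.testBit k = true then (fun k => if f k % 4 = 3 then (1 : ℤ) else 0) k else 0) := by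
    have e1 : (Finset.univ.filter fun i => y i % 4 = 3) ∩ fin mO =
        Finset.univ.filter fun p => y p % 4 = 3 ∧ mO.testBit (idx p) = true := by
      ext p
      rw [Finset.mem_inter, Finset.mem_filter, Finset.mem_filter, mem_fin]
      exact ⟨fun h => ⟨h.1.1, h.1.2, h.2⟩, fun h => ⟨⟨h.1, h.2.1⟩, h.2.2⟩⟩
    rw [e1, Finset.card_filter, Nat.cast_sum, sum24]
    refine Finset.sum_congr rfl fun k hk => ?_
    rw [hf, idx_pt' (Finset.mem_range.1 hk)]
    by_cases h5 : mO.testBit k = true <;> by_cases h6 : f k % 4 = 3 <;> simp [h5, h6]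
  rw [sum_mO] at h4
  have o : ∀ k < 24, f k % 2 = 1 := by
    intro k hk
    have := hodd (LeechMat.Code.pt k)
    rwa [hf, idx_pt' hk] at this
  have o0 := o 0 (by norm_num)
  have o2 := o 2 (by norm_num)
  obtain ⟨q, hq⟩ := h3
  have h5 : (((Finset.univ.filter fun i => y i % 4 = 3) ∩ fin mO).card : ℤ) = q + q := by
    rw [hq]; push_cast; ring
  rw [h5] at h4
  have d3 : (f 3 - f 2) % 4 = 0 := ar3 c1
  have d10 : (f 10 - f 2) % 4 = 0 := ar2 d3 (ar3 c2)
  have d18 : (f 18 - f 2) % 4 = 0 := ar2 d10 (ar3 c3)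
  have d19 : (f 19 - f 2) % 4 = 0 := ar2 d18 (ar3 c4)
  have d22 : (f 22 - f 2) % 4 = 0 := ar2 d19 (ar3 c5)
  have g : ∀ k, (f k - f 2) % 4 = 0 → (if f k % 4 = 3 then (1 : ℤ) else 0) = if f 2 % 4 = 3 then 1 else 0 := by
    intro k hk
    by_cases h : f 2 % 4 = 3
    · rw [if_pos h, if_pos (ar9 hk h)]
    · rw [if_neg h, if_neg (fun h' => h (ar9 (ar3 hk) h'))]
  have h6 : (if f 0 % 4 = 3 then (1 : ℤ) else 0) + (if f 23 % 4 = 3 then (1 : ℤ) else 0) = 1 := by
    by_cases h : f 0 % 4 = 3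
    · rw [if_pos h, if_neg (ar10 c7 h)]; norm_num
    · rw [if_neg h, if_pos (ar11 c7 h o0)]; norm_num
  have h7 : (q : ℤ) + q = 1 + 6 * (if f 2 % 4 = 3 then 1 else 0) := by
    rw [h4, g 3 d3, g 10 d10, g 18 d18, g 19 d19, g 22 d22]
    linarith
  split_ifs at h7 <;> omega

theorem z_fixed {y : leechLattice} (hy : y ∈ evn a0) (h : ∀ j : Fin 6, (16 : ℤ) ∣ dt y (rzv j)) :
    signCo0 (cd mz) • y - y ∈ rad a0 := by
  obtain ⟨f, hf⟩ : ∃ f : ℕ → ℤ, ∀ k, f k = (y : GolayPt → ℤ) (LeechMat.Code.pt k) := ⟨_, fun k => rfl⟩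
  have hf' : ∀ p, (y : GolayPt → ℤ) p = f (idx p) := fun p => by rw [hf, pt_idx']
  obtain ⟨c1, c2, c3, c4, c5, c6, c7⟩ := rz_conds hy h hf
  have hyL : (y : GolayPt → ℤ) ∈ leechSet := (SporadicA.LeechSet.mem_leechLattice_iff _).1 y.2
  rcases Leech.Norm.parity_of_mem hyL with hev | hodd
  · obtain ⟨s, hs, x, hx⟩ := exists_x c1 c2 c3 c4 c5 c6 c7 (fun k _ => by rw [hf]; exact hev _)
    rw [mem_rad]
    refine ⟨x - y, ?_⟩
    have ca0 : ∀ p, (a0 : GolayPt → ℤ) p = if idx p = 0 ∨ idx p = 23 then 4 else 0 := leechU_apply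
    have key : ∀ p, ((signCo0 (cd mz) • y - y : leechLattice) : GolayPt → ℤ) p =
        2 * ((x : GolayPt → ℤ) p - (y : GolayPt → ℤ) p) + (if idx p = 0 ∨ idx p = 23 then 2 * s else 0) := by
      intro p
      rw [coe_sub, coe_sign isCode_mz, hx, hf']
      have h1 := mO_eq ⟨idx p, idx_lt p⟩
      simp only at h1
      by_cases h2 : mz.testBit (idx p) = true
      · have h3 : ¬ mO.testBit (idx p) = true := by rw [h1, h2]; decide
        have h4 : ¬ (idx p = 0 ∨ idx p = 23) := by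
          rintro (h | h) <;> rw [h] at h3 <;> exact h3 (by decide +kernel)
        rw [if_pos h2, if_neg h3, if_neg h4]; ring
      · have h3 : mO.testBit (idx p) = true := by rw [h1]; simpa using h2
        rw [if_neg h2, if_pos h3]
        split_ifs <;> ring
    rcases hs with rfl | rfl
    · left
      apply Subtype.ext
      funext p
      rw [key p, two_smul]
      show _ = ((x : GolayPt → ℤ) p - (y : GolayPt → ℤ) p) + ((x : GolayPt → ℤ) p - (y : GolayPt → ℤ) p)
      split_ifs <;> ring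
    · right
      apply Subtype.ext
      funext p
      rw [key p, two_smul]
      show _ = ((x : GolayPt → ℤ) p - (y : GolayPt → ℤ) p) + ((x : GolayPt → ℤ) p - (y : GolayPt → ℤ) p) +
        (a0 : GolayPt → ℤ) p
      rw [ca0 p]
      split_ifs <;> ring
  · exact (not_odd hyL hf' c1 c2 c3 c4 c5 c7 hodd).elim

/-! ### No mixed types -/

theorem label_of_emod {a b : ℤ} (ha : (8 : ℤ) ∣ a) (hb : (8 : ℤ) ∣ b)
    (h : decide ((16 : ℤ) ∣ a) = decide ((16 : ℤ) ∣ b)) : (16 : ℤ) ∣ a - b := by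
  rw [decide_eq_decide] at h
  by_cases h1 : (16 : ℤ) ∣ a
  · exact dvd_sub h1 (h.1 h1)
  · have h2 : ¬ (16 : ℤ) ∣ b := fun h' => h1 (h.2 h')
    omega

theorem noMix {A B : Co0} (hA : Ty mz A) (hB : Ty my B ∨ Ty mv B) (h : Pr a0 A B) : False := by
  obtain ⟨kA, hkA, hA⟩ := hA
  obtain ⟨kB, hkB, F, hF, hF'⟩ : ∃ kB : Co0, kB • a0 = a0 ∧ ∃ F : (Fin 8 → Bool) → leechLattice,
      (∀ s, F s ∈ evn a0) ∧ ∀ s t, (kB * B * kB⁻¹) • (F s - F t) - (F s - F t) ∈ rad a0 → s = t := by
    rcases hB with ⟨k, hk, hk'⟩ | ⟨k, hk, hk'⟩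
    · refine ⟨k, hk, ?_⟩
      rw [hk']
      exact many data_y (signCo0_mul_self _)
    · refine ⟨k, hk, ?_⟩
      rw [hk']
      exact many data_v (signCo0_mul_self _)
  have hkB' : kB⁻¹ • a0 = a0 := by rw [← hkB, inv_smul_smul, hkB]
  -- the vectors
  let Y : (Fin 8 → Bool) → leechLattice := fun s => kB⁻¹ • F s
  have hY : ∀ s, Y s ∈ evn a0 := fun s => (smul_evn_iff hkB').2 (hF s)
  have hY' : ∀ s t, B • (Y s - Y t) - (Y s - Y t) ∈ rad a0 → s = t := by
    intro s t hst
    apply hF'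
    have e : F s - F t = kB • (Y s - Y t) := by
      show F s - F t = kB • (kB⁻¹ • F s - kB⁻¹ • F t)
      rw [smul_sub', smul_inv_smul, smul_inv_smul]
    rw [e, conj_sub]
    exact smul_rad hkB hst
  -- the labels
  let lab : (Fin 8 → Bool) → (Fin 6 → Bool) := fun s j => decide ((16 : ℤ) ∣ dt (kA • Y s) (rzv j))
  have hlab : ∀ s t, lab s = lab t → A • (Y s - Y t) - (Y s - Y t) ∈ rad a0 := by
    intro s t hst
    rw [← smul_rad_iff hkA, ← conj_sub, hA]
    refine z_fixed ((smul_evn_iff hkA).2 (sub_mem (hY s) (hY t))) fun j => ?_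
    rw [smul_sub', dt_sub_left]
    exact label_of_emod (eight_dvd_dt _ _) (eight_dvd_dt _ _) (congrFun hst j)
  obtain ⟨l, hl⟩ := Fintype.exists_lt_card_fiber_of_mul_lt_card (n := 2) lab (by
    simp only [Fintype.card_fun, Fintype.card_fin, Fintype.card_bool]; norm_num)
  obtain ⟨a, ha, b, hb, c, hc, hab, hac, hbc⟩ := Finset.two_lt_card.1 hl
  rw [Finset.mem_filter] at ha hb hc
  have h1 := hlab a b (ha.2.trans hb.2.symm)
  have h2 := hlab b c (hb.2.trans hc.2.symm)
  have h3 : (Y a - Y b) + (Y b - Y c) = Y a - Y c := by abel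
  rcases h.1 _ (sub_mem (hY a) (hY b)) _ (sub_mem (hY b) (hY c)) h1 h2 with h4 | h4 | h4
  · exact hab (hY' a b h4)
  · exact hbc (hY' b c h4)
  · rw [h3] at h4
    exact hac (hY' a c h4)

/-! ### Scalars -/

theorem fr_of {A B : Co0} (h : Pr a0 A B) {y v : leechLattice} (hy : y ∈ evn a0) (hv : A • y - y = v)
    (h32 : (32 : ℤ) ∣ dt v v) : v ∈ Fr a0 B := by
  rw [mem_Fr, ← hv]
  exact h.2 y hy (by rw [hv]; exact h32)

theorem fin_words {m : ℕ} (hm : isCode m = true) : fin m ∈ Leech.Code.Words := by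
  rw [Leech.Code.mem_words_iff]
  have h3 := word_mem hm
  convert h3 using 1
  funext p
  rw [Leech.Code.ind_apply]
  unfold word
  by_cases h4 : m.testBit (idx p) = true
  · rw [if_pos (mem_fin.2 h4), if_pos h4]
  · rw [if_neg (fun h => h4 (mem_fin.1 h)), if_neg h4]

theorem exists_vec {m : ℕ} (hm : isCode m = true) : ∃ y : leechLattice, ∀ p, (y : GolayPt → ℤ) p =
    if m.testBit (idx p) = true then 2 else 0 := by
  obtain ⟨y, hy⟩ := Cfsg.Agent.MonsterU.SmallComm.exists_two (fin_words hm)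
  refine ⟨y, fun p => ?_⟩
  rw [hy]
  by_cases h4 : m.testBit (idx p) = true
  · rw [if_pos (mem_fin.2 h4), if_pos h4]
  · rw [if_neg (fun h => h4 (mem_fin.1 h)), if_neg h4]

theorem dt_a0' (x : leechLattice) {f : ℕ → ℤ} (hf : ∀ p, (x : GolayPt → ℤ) p = f (idx p)) :
    dt a0 x = 4 * f 23 + 4 * f 0 := by
  rw [dt_a0, hf, hf]; rfl

theorem idx_inj {p q : GolayPt} (h : idx p = idx q) : p = q := idx_injective h

theorem four_idx {i j : GolayPt} {p : leechLattice} (hp : p + p = e8 i + e8 j) (k : GolayPt) :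
    (p : GolayPt → ℤ) k = (if idx k = idx i then 4 else 0) + (if idx k = idx j then 4 else 0) := by
  have h1 := congrArg (fun v : leechLattice => (v : GolayPt → ℤ) k) hp
  simp only [coe_add] at h1
  rw [SporadicA.Co0Basic.e8_apply, SporadicA.Co0Basic.e8_apply] at h1
  have h2 : ∀ l : GolayPt, (k = l) = (idx k = idx l) := fun l => propext ⟨fun h => by rw [h], idx_inj⟩
  simp only [h2] at h1
  split_ifs at h1 ⊢ <;> omega

theorem bit_lor {a b k : ℕ} : (Nat.lor (2 ^ a) (2 ^ b)).testBit k = true ↔ k = a ∨ k = b := by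
  show ((2 ^ a) ||| (2 ^ b)).testBit k = true ↔ _
  rw [Nat.testBit_lor, Nat.testBit_two_pow, Nat.testBit_two_pow, Bool.or_eq_true, decide_eq_true_eq,
    decide_eq_true_eq, eq_comm, @eq_comm _ b]

theorem bit_land {m c k : ℕ} (h : c.testBit k = true) : (Nat.land m c).testBit k = m.testBit k := by
  show (m &&& c).testBit k = _
  rw [Nat.testBit_and, h, Bool.and_true]

theorem pms_of {S : Finset GolayPt} {B : Co0} (h0 : ∀ i ∈ S, idx i ≠ 0 ∧ idx i ≠ 23)
    (h1 : ∀ i ∈ S, e8 i ∈ Fr a0 B)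
    (h2 : ∀ i ∈ S, ∀ j ∈ S, i ≠ j → ∀ p : leechLattice, p + p = e8 i + e8 j → p ∈ Fr a0 B) : PmS S B := by
  intro i hi j hj hij p hp
  obtain ⟨p', hp', n1, n2⟩ := pair_facts hij
  have hpp : p = p' := two_cancel (hp.trans hp'.symm)
  subst hpp
  have d1 : dt a0 p = 0 := by
    rw [dt_a0' p (f := fun n => (if n = idx i then 4 else 0) + (if n = idx j then 4 else 0)) (four_idx hp)]
    rw [if_neg (h0 i hi).2.symm, if_neg (h0 j hj).2.symm, if_neg (h0 i hi).1.symm, if_neg (h0 j hj).1.symm]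
    norm_num
  have d2 : dt a0 (e8 j) = 0 := by
    rw [dt_a0' (e8 j) (f := fun n => if n = idx j then 8 else 0) (fun q => by
      rw [SporadicA.Co0Basic.e8_apply]
      by_cases h : q = j
      · rw [if_pos h, h, if_pos rfl]
      · rw [if_neg h, if_neg (fun h' => h (idx_inj h'))])]
    rw [if_neg (h0 j hj).2.symm, if_neg (h0 j hj).1.symm]
    norm_num
  have m1 := h2 i hi j hj hij p hp
  have m2 : p - e8 j ∈ Fr a0 B := sub_mem m1 (h1 j hj)
  exact ⟨pm_of_mem_rad dt_a0_a0 n1 d1 m1, pm_of_mem_rad dt_a0_a0 n2 (by rw [dt_sub_right, d1, d2]; norm_num) m2⟩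

/-! ### The octad -/

theorem my_spec : ∀ k : Fin 24, my.testBit k = true → k.1 ≠ 0 ∧ k.1 ≠ 23 ∧ k.1 ≠ 2 := by decide +kernel

/-- `8 e_a` from the commutator of `4 e_a + 4 e_b`, `a` in the word, `b` not in the word -/
theorem e8_fr {m : ℕ} (hm : isCode m = true) {B : Co0} (h : Pr a0 (signCo0 (cd m)) B) {a b : GolayPt}
    (ha : m.testBit (idx a) = true) (hb : m.testBit (idx b) = false) (ha0 : idx a ≠ 0 ∧ idx a ≠ 23)
    (hb0 : idx b ≠ 0 ∧ idx b ≠ 23) : e8 a ∈ Fr a0 B ∧ e8 b ∈ Fr a0 B := by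
  have hab : a ≠ b := by rintro rfl; rw [ha] at hb; exact absurd hb (by decide)
  obtain ⟨p, hp, -, -⟩ := pair_facts hab
  have h1 : signCo0 (cd m) • p - p = -(e8 a) := by
    apply Subtype.ext
    funext k
    show ((signCo0 (cd m) • p : leechLattice) : GolayPt → ℤ) k - (p : GolayPt → ℤ) k = -((e8 a : leechLattice) : GolayPt → ℤ) k
    rw [coe_sign hm, four_idx hp, SporadicA.Co0Basic.e8_apply]
    by_cases hka : k = a
    · rw [hka, if_pos ha, if_pos rfl, if_pos rfl, if_neg (fun h => hab (idx_inj h))]; norm_num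
    · rw [if_neg hka, if_neg (fun h => hka (idx_inj h))]
      by_cases hkb : k = b
      · rw [hkb, if_neg (by rw [hb]; decide)]; ring
      · rw [if_neg (fun h => hkb (idx_inj h))]; split_ifs <;> norm_num
  have d1 : dt a0 p = 0 := by
    rw [dt_a0' p (f := fun n => (if n = idx a then 4 else 0) + (if n = idx b then 4 else 0)) (four_idx hp)]
    rw [if_neg ha0.2.symm, if_neg hb0.2.symm, if_neg ha0.1.symm, if_neg hb0.1.symm]
    norm_num
  have m1 : -(e8 a) ∈ Fr a0 B := by
    refine fr_of h (y := p) ?_ h1 ?_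
    · rw [mem_evn, d1]; exact dvd_zero _
    · rw [dt_neg_left, dt_neg_right, neg_neg, dt_e8, e8_self]; norm_num
  have m2 : e8 a ∈ Fr a0 B := by simpa using neg_mem m1
  refine ⟨m2, ?_⟩
  have e : e8 b = 2 • p - e8 a := by rw [two_smul, hp]; abel
  rw [e]
  exact sub_mem (two_mem_Fr _ _ _) m2

theorem pair_fr_y {B : Co0} (h : Pr a0 (signCo0 (cd my)) B) {i j : GolayPt} (hi : my.testBit (idx i) = true)
    (hj : my.testBit (idx j) = true) (hij : i ≠ j) {p : leechLattice} (hp : p + p = e8 i + e8 j) : p ∈ Fr a0 B := by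
  obtain ⟨m, -, hm, hland, h023⟩ := ty_spec ⟨idx i, idx_lt i⟩ ⟨idx j, idx_lt j⟩ hi hj
    (fun h => hij (idx_inj (congrArg Fin.val h)))
  simp only at hland
  obtain ⟨y, hy⟩ := exists_vec hm
  have bit : ∀ k : GolayPt, my.testBit (idx k) = true → (m.testBit (idx k) = true ↔ idx k = idx i ∨ idx k = idx j) := by
    intro k hk
    rw [← bit_land hk, hland, bit_lor]
  have h1 : signCo0 (cd my) • y - y = -p := by
    apply Subtype.ext
    funext k
    show ((signCo0 (cd my) • y : leechLattice) : GolayPt → ℤ) k - (y : GolayPt → ℤ) k = -(p : GolayPt → ℤ) k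
    rw [coe_sign isCode_my, four_idx hp, hy]
    by_cases hk : my.testBit (idx k) = true
    · rw [if_pos hk]
      by_cases hmk : m.testBit (idx k) = true
      · rw [if_pos hmk]
        rcases (bit k hk).1 hmk with h2 | h2
        · have kj : ¬ idx k = idx j := fun h3 => hij (idx_inj (h2.symm.trans h3))
          rw [if_pos h2, if_neg kj]; norm_num
        · have ki : ¬ idx k = idx i := fun h3 => hij (idx_inj (h3.symm.trans h2))
          rw [if_pos h2, if_neg ki]; norm_num
      · have ki : ¬ idx k = idx i := fun h3 => hmk ((bit k hk).2 (Or.inl h3))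
        have kj : ¬ idx k = idx j := fun h3 => hmk ((bit k hk).2 (Or.inr h3))
        rw [if_neg hmk, if_neg ki, if_neg kj]
        norm_num
    · have ki : ¬ idx k = idx i := fun h3 => hk (by rw [h3]; exact hi)
      have kj : ¬ idx k = idx j := fun h3 => hk (by rw [h3]; exact hj)
      rw [if_neg hk, if_neg ki, if_neg kj]
      ring
  have n1 : dt p p = 32 := by
    obtain ⟨p', hp', n1, -⟩ := pair_facts hij
    rw [two_cancel (hp.trans hp'.symm), n1]
  have m1 : -p ∈ Fr a0 B := by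
    refine fr_of h (y := y) ?_ h1 ?_
    · rw [mem_evn, dt_a0' y (f := fun n => if m.testBit n = true then 2 else 0) hy]
      rw [h023]
      split_ifs <;> norm_num
    · rw [dt_neg_left, dt_neg_right, neg_neg, n1]
  simpa using neg_mem m1

theorem pms_y {B : Co0} (h : Pr a0 (signCo0 (cd my)) B) : PmS (fin my) B := by
  refine pms_of (fun i hi => ?_) (fun i hi => ?_) (fun i hi j hj hij p hp => ?_)
  · have := my_spec ⟨idx i, idx_lt i⟩ (mem_fin.1 hi)
    exact ⟨this.1, this.2.1⟩
  · have h1 := my_spec ⟨idx i, idx_lt i⟩ (mem_fin.1 hi)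
    exact (e8_fr isCode_my h (a := i) (b := LeechMat.Code.pt 2) (mem_fin.1 hi)
      (by rw [idx_pt' (by norm_num)]; decide +kernel) ⟨h1.1, h1.2.1⟩
      (by rw [idx_pt' (by norm_num)]; decide)).1
  · exact pair_fr_y h (mem_fin.1 hi) (mem_fin.1 hj) hij hp

/-! ### The dodecad -/

theorem pair_fr_v {B : Co0} (h : Pr a0 (signCo0 (cd mv)) B) {i j : GolayPt} (hi : m10.testBit (idx i) = true)
    (hj : m10.testBit (idx j) = true) (hij : i ≠ j) {p : leechLattice} (hp : p + p = e8 i + e8 j) : p ∈ Fr a0 B := by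
  obtain ⟨m, -, hm, hland⟩ := tv_spec ⟨idx i, idx_lt i⟩ ⟨idx j, idx_lt j⟩ hi hj
    (fun h => hij (idx_inj (congrArg Fin.val h)))
  simp only at hland
  obtain ⟨y, hy⟩ := exists_vec hm
  have cvb : ∀ k : Fin 24, (Nat.xor 16777215 mv).testBit k = !mv.testBit k := by decide +kernel
  have hi' := m10_spec ⟨idx i, idx_lt i⟩ hi
  have hj' := m10_spec ⟨idx j, idx_lt j⟩ hj
  simp only at hi' hj'
  have bit : ∀ k : GolayPt, mv.testBit (idx k) = false → (m.testBit (idx k) = true ↔ idx k = idx i ∨ idx k = idx j) := by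
    intro k hk
    have h1 : (Nat.xor 16777215 mv).testBit (idx k) = true := by
      have := cvb ⟨idx k, idx_lt k⟩
      simp only at this
      rw [this, hk]; rfl
    rw [← bit_land h1, hland, bit_lor]
  have h1 : signCo0 (cd mv) • y - y = p - 2 • y := by
    apply Subtype.ext
    funext k
    show ((signCo0 (cd mv) • y : leechLattice) : GolayPt → ℤ) k - (y : GolayPt → ℤ) k =
      (p : GolayPt → ℤ) k - ((2 • y : leechLattice) : GolayPt → ℤ) k
    rw [coe_sign isCode_mv, coe_two, four_idx hp, hy]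
    by_cases hk : mv.testBit (idx k) = true
    · have ki : ¬ idx k = idx i := fun h3 => by rw [h3, hi'.1] at hk; exact absurd hk (by decide)
      have kj : ¬ idx k = idx j := fun h3 => by rw [h3, hj'.1] at hk; exact absurd hk (by decide)
      rw [if_pos hk, if_neg ki, if_neg kj]
      split_ifs <;> norm_num
    · have hk' : mv.testBit (idx k) = false := by simpa using hk
      rw [if_neg hk]
      by_cases hmk : m.testBit (idx k) = true
      · rw [if_pos hmk]
        rcases (bit k hk').1 hmk with h2 | h2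
        · have kj : ¬ idx k = idx j := fun h3 => hij (idx_inj (h2.symm.trans h3))
          rw [if_pos h2, if_neg kj]; norm_num
        · have ki : ¬ idx k = idx i := fun h3 => hij (idx_inj (h3.symm.trans h2))
          rw [if_pos h2, if_neg ki]; norm_num
      · have ki : ¬ idx k = idx i := fun h3 => hmk ((bit k hk').2 (Or.inl h3))
        have kj : ¬ idx k = idx j := fun h3 => hmk ((bit k hk').2 (Or.inr h3))
        rw [if_neg hmk, if_neg ki, if_neg kj]
        norm_num
  have n1 : dt p p = 32 := by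
    obtain ⟨p', hp', n1, -⟩ := pair_facts hij
    rw [two_cancel (hp.trans hp'.symm), n1]
  have m1 : p - 2 • y ∈ Fr a0 B := by
    refine fr_of h (y := y) ?_ h1 ?_
    · have b0 : m.testBit 0 = false := by
        have := bit (LeechMat.Code.pt 0) (by rw [idx_pt' (by norm_num)]; decide +kernel)
        rw [idx_pt' (by norm_num)] at this
        by_contra hcon
        rcases this.1 (by simpa using hcon) with h2 | h2
        · exact hi'.2.1 h2.symm
        · exact hj'.2.1 h2.symm
      have b23 : m.testBit 23 = false := by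
        have := bit (LeechMat.Code.pt 23) (by rw [idx_pt' (by norm_num)]; decide +kernel)
        rw [idx_pt' (by norm_num)] at this
        by_contra hcon
        rcases this.1 (by simpa using hcon) with h2 | h2
        · exact hi'.2.2 h2.symm
        · exact hj'.2.2 h2.symm
      rw [mem_evn, dt_a0' y (f := fun n => if m.testBit n = true then 2 else 0) hy]
      rw [b0, b23]
      norm_num
    · have e1 : dt (p - 2 • y) (p - 2 • y) = 32 - 4 * dt p y + 4 * dt y y := by
        rw [dt_sub_left, dt_sub_right, dt_sub_right, n1, dt_two_smul_right, dt_comm (2 • y) p, dt_two_smul_right,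
          dt_two]
        ring
      rw [e1]
      obtain ⟨a, ha⟩ := eight_dvd_dt p y
      obtain ⟨b, hb⟩ := eight_dvd_dt y y
      exact ⟨1 - a + b, by rw [ha, hb]; ring⟩
  have : p = (p - 2 • y) + 2 • y := by abel
  rw [this]
  exact add_mem m1 (two_mem_Fr _ _ _)

theorem pms_v {B : Co0} (h : Pr a0 (signCo0 (cd mv)) B) : PmS (fin m10) B := by
  refine pms_of (fun i hi => ?_) (fun i hi => ?_) (fun i hi j hj hij p hp => ?_)
  · have := m10_spec ⟨idx i, idx_lt i⟩ (mem_fin.1 hi)
    exact ⟨this.2.1, this.2.2⟩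
  · have h1 := m10_spec ⟨idx i, idx_lt i⟩ (mem_fin.1 hi)
    exact (e8_fr isCode_mv h (a := LeechMat.Code.pt 3) (b := i)
      (by rw [idx_pt' (by norm_num)]; decide +kernel) h1.1 (by rw [idx_pt' (by norm_num)]; decide)
      ⟨h1.2.1, h1.2.2⟩).2
  · exact pair_fr_v h (mem_fin.1 hi) (mem_fin.1 hj) hij hp

/-! ### Traces -/

theorem tr8_eq (g : Co0) : tr8 g = ∑ i, ((g • e8 i : leechLattice) : GolayPt → ℤ) i := rfl

theorem coord_bound (g : Co0) (i j : GolayPt) :
    -8 ≤ ((g • e8 i : leechLattice) : GolayPt → ℤ) j ∧ ((g • e8 i : leechLattice) : GolayPt → ℤ) j ≤ 8 := by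
  have h1 : dt (g • e8 i) (g • e8 i) = 64 := by rw [dt_smul, dt_e8, e8_self]; norm_num
  have h2 : ((g • e8 i : leechLattice) : GolayPt → ℤ) j * ((g • e8 i : leechLattice) : GolayPt → ℤ) j ≤ 64 := by
    rw [← h1]
    show _ ≤ dotInt _ _
    unfold dotInt
    exact Finset.single_le_sum (f := fun k => ((g • e8 i : leechLattice) : GolayPt → ℤ) k *
      ((g • e8 i : leechLattice) : GolayPt → ℤ) k) (fun k _ => mul_self_nonneg _) (Finset.mem_univ j)
  constructor <;> nlinarith

theorem tr_sub {m : ℕ} (hm : isCode m = true) (B : Co0) : tr8 B - tr8 (signCo0 (cd m) * B) =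
    ∑ i, if m.testBit (idx i) = true then 2 * ((B • e8 i : leechLattice) : GolayPt → ℤ) i else 0 := by
  rw [tr8_eq, tr8_eq, ← Finset.sum_sub_distrib]
  refine Finset.sum_congr rfl fun i _ => ?_
  rw [mul_smul, coe_sign hm]
  split_ifs <;> ring

theorem tr_add {m : ℕ} (hm : isCode m = true) (B : Co0) : tr8 B + tr8 (signCo0 (cd m) * B) =
    ∑ i, if m.testBit (idx i) = true then 0 else 2 * ((B • e8 i : leechLattice) : GolayPt → ℤ) i := by
  rw [tr8_eq, tr8_eq, ← Finset.sum_add_distrib]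
  refine Finset.sum_congr rfl fun i _ => ?_
  rw [mul_smul, coe_sign hm]
  split_ifs <;> ring

theorem sum_bits (m : ℕ) (a : ℤ) : ∑ i : GolayPt, (if m.testBit (idx i) = true then a else 0) = a * popcount m := by
  rw [← sum_testBit, Finset.mul_sum]
  refine Finset.sum_congr rfl fun i _ => ?_
  split_ifs <;> ring

/-- the coordinates at the two points of `a0` -/
theorem two_coord {B : Co0} (hB : B • a0 = a0) :
    0 ≤ ((B • e8 (LeechMat.Code.pt 0) : leechLattice) : GolayPt → ℤ) (LeechMat.Code.pt 0) ∧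
    0 ≤ ((B • e8 (LeechMat.Code.pt 23) : leechLattice) : GolayPt → ℤ) (LeechMat.Code.pt 23) := by
  have h1 : a0 + a0 = e8 (LeechMat.Code.pt 0) + e8 (LeechMat.Code.pt 23) := by
    apply Subtype.ext
    funext k
    have h2 : (a0 : GolayPt → ℤ) k = if idx k = 0 ∨ idx k = 23 then 4 else 0 := leechU_apply k
    rw [coe_add, coe_add, h2, SporadicA.Co0Basic.e8_apply, SporadicA.Co0Basic.e8_apply]
    revert k
    decide
  have h2 : B • e8 (LeechMat.Code.pt 0) + B • e8 (LeechMat.Code.pt 23) =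
      e8 (LeechMat.Code.pt 0) + e8 (LeechMat.Code.pt 23) := by
    rw [← smul_add', ← h1, smul_add', hB]
  have h3 := congrArg (fun v : leechLattice => (v : GolayPt → ℤ) (LeechMat.Code.pt 0)) h2
  have h4 := congrArg (fun v : leechLattice => (v : GolayPt → ℤ) (LeechMat.Code.pt 23)) h2
  simp only [coe_add] at h3 h4
  rw [e8_self, e8_ne (by decide)] at h3
  rw [e8_self, e8_ne (by decide)] at h4
  have b1 := coord_bound B (LeechMat.Code.pt 23) (LeechMat.Code.pt 0)
  have b2 := coord_bound B (LeechMat.Code.pt 0) (LeechMat.Code.pt 23)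
  constructor <;> omega

/-! ### The three contradictions -/

theorem conj_fix {k B : Co0} (hk : k • a0 = a0) (hB : B • a0 = a0) : (k * B * k⁻¹) • a0 = a0 := by
  have : k⁻¹ • a0 = a0 := by rw [← hk, inv_smul_smul, hk]
  rw [mul_smul, mul_smul, this, hB, hk]

theorem mz_spec : mz.testBit (idx (LeechMat.Code.pt 0)) = false := by decide +kernel

theorem pure_z {A B : Co0} (hA : Ty mz A) (hB : B • a0 = a0) (t1 : tr8 B = -64) (t2 : tr8 (A * B) = -64) : False := by
  obtain ⟨k, hk, hkA⟩ := hA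
  have h1 := tr_add isCode_mz (k * B * k⁻¹)
  have e : signCo0 (cd mz) * (k * B * k⁻¹) = k * (A * B) * k⁻¹ := by rw [← hkA]; group
  rw [e, tr8_conj, tr8_conj, t1, t2] at h1
  have h2 := (two_coord (conj_fix hk hB)).1
  have h3 : ∑ i : GolayPt, (if mz.testBit (idx i) = true then (0 : ℤ) else 16) = 128 := by
    have h4 := sum_bits mz 16
    rw [show popcount mz = 16 by decide +kernel] at h4
    have h5 : ∑ i : GolayPt, ((if mz.testBit (idx i) = true then (0 : ℤ) else 16) +
        (if mz.testBit (idx i) = true then (16 : ℤ) else 0)) = ∑ _i : GolayPt, (16 : ℤ) :=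
      Finset.sum_congr rfl fun i _ => by split_ifs <;> norm_num
    rw [Finset.sum_add_distrib, h4, Finset.sum_const, Finset.card_univ, Leech.Code.card_golayPt] at h5
    rw [nsmul_eq_mul] at h5
    have h6 : (((24 : ℕ) : ℤ)) * 16 = 384 := by norm_num
    rw [h6] at h5
    have h7 : (16 : ℤ) * ((16 : ℕ) : ℤ) = 256 := by norm_num
    rw [h7] at h5
    linarith
  have h4 : ∑ i : GolayPt, (if mz.testBit (idx i) = true then (0 : ℤ) else
      2 * (((k * B * k⁻¹) • e8 i : leechLattice) : GolayPt → ℤ) i + 16) = 0 := by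
    have h5 : ∑ i : GolayPt, (if mz.testBit (idx i) = true then (0 : ℤ) else
        2 * (((k * B * k⁻¹) • e8 i : leechLattice) : GolayPt → ℤ) i + 16) =
        ∑ i : GolayPt, (if mz.testBit (idx i) = true then (0 : ℤ) else
        2 * (((k * B * k⁻¹) • e8 i : leechLattice) : GolayPt → ℤ) i) +
        ∑ i : GolayPt, (if mz.testBit (idx i) = true then (0 : ℤ) else 16) := by
      rw [← Finset.sum_add_distrib]
      exact Finset.sum_congr rfl fun i _ => by split_ifs <;> ring
    rw [h5, ← h1, h3]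
    norm_num
  have h5 := (Finset.sum_eq_zero_iff_of_nonneg (fun i _ => by
    have := coord_bound (k * B * k⁻¹) i i
    split_ifs
    · exact le_rfl
    · linarith [this.1])).1 h4 (LeechMat.Code.pt 0) (Finset.mem_univ _)
  rw [mz_spec, if_neg (by decide)] at h5
  linarith

theorem pure_y {A B : Co0} (hA : Ty my A) (h : Pr a0 A B) (t1 : tr8 B = 64 ∨ tr8 B = 0)
    (t2 : tr8 (A * B) = 64 ∨ tr8 (A * B) = 0) : False := by
  obtain ⟨k, hk, hkA⟩ := hA
  have h1 := tr_sub isCode_my (k * B * k⁻¹)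
  have e : signCo0 (cd my) * (k * B * k⁻¹) = k * (A * B) * k⁻¹ := by rw [← hkA]; group
  rw [e, tr8_conj, tr8_conj] at h1
  have hP := Pr.conj hk h
  rw [hkA] at hP
  have key : ∀ d : ℤ, (∀ i ∈ fin my, (((k * B * k⁻¹) • e8 i : leechLattice) : GolayPt → ℤ) i = d) →
      tr8 B - tr8 (A * B) = 16 * d := by
    intro d hd
    rw [h1, Finset.sum_congr rfl (g := fun i => if my.testBit (idx i) = true then 2 * d else 0) (fun i _ => by
      by_cases hi : my.testBit (idx i) = true
      · rw [if_pos hi, if_pos hi, hd i (mem_fin.2 hi)]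
      · rw [if_neg hi, if_neg hi]), sum_bits, show popcount my = 8 by decide +kernel]
    ring
  rcases scalar (pms_y hP) (by decide +kernel) with h2 | h2
  · have := key 8 (fun i hi => by rw [h2 i hi, e8_self])
    omega
  · have := key (-8) (fun i hi => by rw [h2 i hi, coe_neg, e8_self])
    omega

theorem part_v : ∀ k : Fin 24, (m10.testBit k = true ∧ mv.testBit k = false ∧ k.1 ≠ 0 ∧ k.1 ≠ 23) ∨
    (m10.testBit k = false ∧ mv.testBit k = true ∧ k.1 ≠ 0 ∧ k.1 ≠ 23) ∨
    (m10.testBit k = false ∧ mv.testBit k = false ∧ k.1 = 0) ∨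
    (m10.testBit k = false ∧ mv.testBit k = false ∧ k.1 = 23) := by decide +kernel

theorem pure_v {A B : Co0} (hA : Ty mv A) (hB : B • a0 = a0) (h : Pr a0 A B) (t1 : tr8 B = 64 ∨ tr8 B = 0)
    (t2 : tr8 (A * B) = 64 ∨ tr8 (A * B) = 0) : False := by
  obtain ⟨k, hk, hkA⟩ := hA
  have h1 := tr_add isCode_mv (k * B * k⁻¹)
  have e : signCo0 (cd mv) * (k * B * k⁻¹) = k * (A * B) * k⁻¹ := by rw [← hkA]; group
  rw [e, tr8_conj, tr8_conj] at h1
  have hP := Pr.conj hk h
  rw [hkA] at hP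
  have h0 := two_coord (conj_fix hk hB)
  have b0 := coord_bound (k * B * k⁻¹) (LeechMat.Code.pt 0) (LeechMat.Code.pt 0)
  have b1 := coord_bound (k * B * k⁻¹) (LeechMat.Code.pt 23) (LeechMat.Code.pt 23)
  generalize k * B * k⁻¹ = C at *
  have key : ∀ d : ℤ, (∀ i ∈ fin m10, ((C • e8 i : leechLattice) : GolayPt → ℤ) i = d) →
      tr8 B + tr8 (A * B) = 20 * d + 2 * ((C • e8 (LeechMat.Code.pt 0) : leechLattice) : GolayPt → ℤ) (LeechMat.Code.pt 0)
        + 2 * ((C • e8 (LeechMat.Code.pt 23) : leechLattice) : GolayPt → ℤ) (LeechMat.Code.pt 23) := by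
    intro d hd
    have h3 : ∀ i : GolayPt, (if mv.testBit (idx i) = true then (0 : ℤ) else
        2 * ((C • e8 i : leechLattice) : GolayPt → ℤ) i) =
        (if m10.testBit (idx i) = true then 2 * d else 0) +
        ((if i = LeechMat.Code.pt 0 then 2 * ((C • e8 i : leechLattice) : GolayPt → ℤ) i else 0) +
        (if i = LeechMat.Code.pt 23 then 2 * ((C • e8 i : leechLattice) : GolayPt → ℤ) i else 0)) := by
      intro i
      have e0 : i = LeechMat.Code.pt 0 ↔ idx i = 0 :=
        ⟨fun h => by rw [h, idx_pt' (by norm_num)], fun h => idx_inj (by rw [h, idx_pt' (by norm_num)])⟩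
      have e23 : i = LeechMat.Code.pt 23 ↔ idx i = 23 :=
        ⟨fun h => by rw [h, idx_pt' (by norm_num)], fun h => idx_inj (by rw [h, idx_pt' (by norm_num)])⟩
      rcases part_v ⟨idx i, idx_lt i⟩ with ⟨p1, p2, p3, p4⟩ | ⟨p1, p2, p3, p4⟩ | ⟨p1, p2, p3⟩ | ⟨p1, p2, p3⟩ <;>
        simp only at p1 p2 p3
      · rw [p1, p2, if_neg (by decide), if_pos rfl, if_neg (fun h => p3 (e0.1 h)), if_neg (fun h => p4 (e23.1 h)),
          hd i (mem_fin.2 p1)]
        ring
      · rw [p1, p2, if_pos rfl, if_neg (by decide), if_neg (fun h => p3 (e0.1 h)), if_neg (fun h => p4 (e23.1 h))]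
        norm_num
      · have n23 : ¬ i = LeechMat.Code.pt 23 := fun h => by rw [e23.1 h] at p3; omega
        have ff : ¬ (false = true) := by decide
        rw [p1, p2, if_neg ff, if_neg ff, if_pos (e0.2 p3), if_neg n23]
        ring
      · have n0 : ¬ i = LeechMat.Code.pt 0 := fun h => by rw [e0.1 h] at p3; omega
        have ff : ¬ (false = true) := by decide
        rw [p1, p2, if_neg ff, if_neg ff, if_neg n0, if_pos (e23.2 p3)]
        ring
    rw [h1, Finset.sum_congr rfl fun i _ => h3 i, Finset.sum_add_distrib, Finset.sum_add_distrib, sum_bits,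
      Finset.sum_ite_eq', Finset.sum_ite_eq', if_pos (Finset.mem_univ _), if_pos (Finset.mem_univ _),
      show popcount m10 = 10 by decide +kernel]
    ring
  rcases scalar (pms_v hP) (by decide +kernel) with h2 | h2
  · have := key 8 (fun i hi => by rw [h2 i hi, e8_self])
    omega
  · have := key (-8) (fun i hi => by rw [h2 i hi, coe_neg, e8_self])
    omega

/-! ### The theorem -/

theorem tr8_cases {x : Co0} (h : Ty my x ∨ Ty mv x) : tr8 x = 64 ∨ tr8 x = 0 := by
  rcases h with h | h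
  · exact Or.inl (tr8_y h)
  · exact Or.inr (tr8_v h)

theorem noTriple_a0 : NoTriple a0 := by
  intro g h hga hha hg hh hc hg1 hh1 hgh1 p1 p2 p3 p4 p5 p6
  have hgh : (g * h) • a0 = a0 := by rw [mul_smul, hha, hga]
  have hsq : (g * h) * (g * h) = 1 := by
    calc (g * h) * (g * h) = g * (h * g) * h := by group
      _ = g * (g * h) * h := by rw [hc]
      _ = (g * g) * (h * h) := by group
      _ = 1 := by rw [hg, hh, one_mul]
  have tg := types hga hg hg1
  have th := types hha hh hh1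
  have tgh := types hgh hsq hgh1
  rcases tg with tg | tg
  · -- all of type `z`
    have th' : Ty mz h := by
      rcases th with th | th
      · exact th
      · exact (noMix tg th p1).elim
    have tgh' : Ty mz (g * h) := by
      rcases tgh with tgh | tgh
      · exact tgh
      · exact (noMix tg tgh p3).elim
    exact pure_z tg hha (tr8_z th') (tr8_z tgh')
  · have th' : Ty my h ∨ Ty mv h := by
      rcases th with th | th
      · exact (noMix th tg p2).elim
      · exact th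
    have tgh' : Ty my (g * h) ∨ Ty mv (g * h) := by
      rcases tgh with tgh | tgh
      · exact (noMix tgh tg p4).elim
      · exact tgh
    rcases tg with tg | tg
    · exact pure_y tg p1 (tr8_cases th') (tr8_cases tgh')
    · exact pure_v tg hha p1 (tr8_cases th') (tr8_cases tgh')

/-- **No four-group of `Co2` with three equal centralisers on `2^{1+22}`** (form `BabyHyp.NoTriple`). -/
theorem noTriple {l : leechLattice} (hl : dt l l = 32) : NoTriple l := by
  intro g h hgl hhl hg hh hc hg1 hh1 hgh1 p1 p2 p3 p4 p5 p6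
  obtain ⟨k, hk⟩ := Cfsg.Agent.S0400.result l a0 (by rw [norm_eq]; exact hl) (by rw [norm_eq]; exact dt_a0_a0)
  have hk' : k⁻¹ • a0 = l := by rw [← hk, inv_smul_smul]
  have fix : ∀ x : Co0, x • l = l → (k * x * k⁻¹) • a0 = a0 := by
    intro x hx
    rw [mul_smul, mul_smul, hk', hx, hk]
  have mul : ∀ x y : Co0, (k * x * k⁻¹) * (k * y * k⁻¹) = k * (x * y) * k⁻¹ := fun x y => by group
  have one : ∀ x : Co0, k * x * k⁻¹ = 1 → x = 1 := by
    intro x hx
    calc x = k⁻¹ * (k * x * k⁻¹) * k := by group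
      _ = 1 := by rw [hx]; group
  refine noTriple_a0 (k * g * k⁻¹) (k * h * k⁻¹) (fix g hgl) (fix h hhl) (by rw [mul, hg]; group)
    (by rw [mul, hh]; group) (by rw [mul, mul, hc]) (fun e => hg1 (one _ e)) (fun e => hh1 (one _ e))
    (fun e => hgh1 (one _ (by rw [← mul]; exact e))) (Pr.conj hk p1) (Pr.conj hk p2) ?_ ?_ ?_ ?_
  · rw [mul]; exact Pr.conj hk p3
  · rw [mul]; exact Pr.conj hk p4
  · rw [mul]; exact Pr.conj hk p5
  · rw [mul]; exact Pr.conj hk p6

end Cfsg.Agent.OddHalf.D4.Spor.LatFour
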