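import Cfsg.Agent.UGT.MTwentyThree.End

/-!
# ODD half, D4, sporadic components: pointwise stabilizers of octads (helper283)

`mem_fixOct_of_comm` : `C(fixOct o) ≤ fixOct o` in the stabilizer of `o` in `M24`.
`core_bot` : `O(C(t)) = 1` for an involution `t` with fixed points `o` of a subgroup containing `fixOct o`.
-/

set_option autoImplicit false
open scoped Pointwise

namespace Cfsg.Agent.OddHalf.D4.Spor.MathieuOct

open Cfsg Subgroup
open Cfsg.Agent.SporadicA.GolayBase Cfsg.Agent.SporadicA.GolayPerm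
open Cfsg.Agent.SporadicA.OctadFix
open Cfsg.Agent.J4Type.FusionComm (fixOct_comm exists_out)
open Cfsg.Agent.UGT.MTwentyThree.End (smul_eq_octad eq_one_of_fix_compl)

/-- `fixOct o` is self-centralizing in the stabilizer of `o` -/
theorem mem_fixOct_of_comm {o : Finset GolayPt} (ho : o ∈ octads) {d : Equiv.Perm GolayPt} (hdM : d ∈ M24)
    (hdo : ∀ q, q ∈ o → d q ∈ o) (hcomm : ∀ v ∈ fixOct o, d * v = v * d) : d ∈ fixOct o := by
  classical
  have hdo' : d • o = o := smul_eq_octad hdo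
  obtain ⟨p, hp⟩ := exists_out ho
  have hdp : d p ∉ o := by
    intro h
    apply hp
    rw [← hdo'] at h
    exact (mem_smul_iff _ _ _).1 h
  obtain ⟨v, ⟨hv, hvp⟩, -⟩ := existsUnique_fixOct ho hp hdp
  have hone : v⁻¹ * d = 1 := by
    apply eq_one_of_fix_compl ho (M24.mul_mem (M24.inv_mem (mem_fixOct.1 hv).1) hdM)
    intro q hq
    obtain ⟨w, ⟨hw, hwp⟩, -⟩ := existsUnique_fixOct ho hp hq
    have h1 : (v⁻¹ * d) * w = w * (v⁻¹ * d) := by
      rw [mul_assoc, hcomm w hw, ← mul_assoc, ← mul_assoc,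
        fixOct_comm ho ((fixOct o).inv_mem hv) hw]
    have h2 := congrArg (fun f : Equiv.Perm GolayPt => f p) h1
    simp only [Equiv.Perm.mul_apply] at h2
    rw [hwp, ← hvp, show v⁻¹ (v p) = p from v.symm_apply_apply p, hwp] at h2
    rw [Equiv.Perm.mul_apply]
    exact h2
  rw [← inv_mul_eq_one.1 hone]
  exact hv

/-- elements commuting with `t` preserve the fixed points of `t` -/
theorem maps_of_comm {o : Finset GolayPt} {d t : Equiv.Perm GolayPt} (hfix : ∀ q, t q = q ↔ q ∈ o)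
    (hdt : d * t = t * d) (q : GolayPt) (hq : q ∈ o) : d q ∈ o := by
  rw [← hfix] at hq ⊢
  have h1 := congrArg (fun f : Equiv.Perm GolayPt => f q) hdt
  simp only [Equiv.Perm.mul_apply] at h1
  rw [← h1, hq]

/-- `O(C(t)) = 1` -/
theorem core_bot {H : Subgroup (Equiv.Perm GolayPt)} (hH : H ≤ M24) {o : Finset GolayPt} (ho : o ∈ octads)
    (hK : fixOct o ≤ H) {t : H} (hfix : ∀ q, (t : Equiv.Perm GolayPt) q = q ↔ q ∈ o) {I : Subgroup H}
    (hc : ∀ i ∈ I, i * t = t * i) (hn : ∀ c : H, c * t = t * c → ∀ i ∈ I, c * i * c⁻¹ ∈ I)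
    (hI : Odd (Nat.card I)) : I = ⊥ := by
  classical
  rw [Subgroup.eq_bot_iff_forall]
  intro d hd
  have hodd : ∀ w ∈ I, w * w = 1 → w = 1 := by
    intro w hw hww
    have h1 : orderOf w ∣ 2 := orderOf_dvd_of_pow_eq_one (by rw [pow_two, hww])
    have h2 : Odd (orderOf w) := by
      refine hI.of_dvd_nat ?_
      have := orderOf_dvd_natCard (⟨w, hw⟩ : I)
      rwa [← Subgroup.orderOf_coe] at this
    rcases (Nat.dvd_prime Nat.prime_two).1 h1 with h3 | h3
    · exact orderOf_eq_one_iff.1 h3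
    · rw [h3] at h2
      exact absurd h2 (by decide)
  have hdt : (d : Equiv.Perm GolayPt) * t = t * d := congrArg Subtype.val (hc d hd)
  have hdo : ∀ q, q ∈ o → (d : Equiv.Perm GolayPt) q ∈ o := maps_of_comm hfix hdt
  have hdo' : (d : Equiv.Perm GolayPt) • o = o := smul_eq_octad hdo
  have hdM : (d : Equiv.Perm GolayPt) ∈ M24 := hH d.2
  have htfix : (t : Equiv.Perm GolayPt) ∈ fixOct o :=
    mem_fixOct.2 ⟨hH t.2, fun x hx => (hfix x).2 hx⟩
  have hcomm : ∀ v ∈ fixOct o, (d : Equiv.Perm GolayPt) * v = v * d := by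
    intro v hv
    let vM : H := ⟨v, hK hv⟩
    have hvt : vM * t = t * vM := Subtype.ext (fixOct_comm ho hv htfix)
    have h1 : (d : Equiv.Perm GolayPt) * v * (d : Equiv.Perm GolayPt)⁻¹ ∈ fixOct o := by
      have h2 := (conj_mem_fixOct (o := o) (g := v) hdM).2 hv
      rwa [hdo'] at h2
    have h2 : (d : Equiv.Perm GolayPt) * v * (d : Equiv.Perm GolayPt)⁻¹ * v⁻¹ ∈ fixOct o :=
      (fixOct o).mul_mem h1 ((fixOct o).inv_mem hv)
    have h3 : d * vM * d⁻¹ * vM⁻¹ ∈ I := by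
      have e : d * vM * d⁻¹ * vM⁻¹ = d * (vM * d⁻¹ * vM⁻¹) := by group
      rw [e]
      exact I.mul_mem hd (hn vM hvt _ (I.inv_mem hd))
    have h4 : d * vM * d⁻¹ * vM⁻¹ = 1 := by
      refine hodd _ h3 (Subtype.ext ?_)
      exact fixOct_sq ho h2
    have h5 : d * vM = vM * d := by
      have h6 : d * vM * d⁻¹ = vM := mul_inv_eq_one.mp h4
      rwa [mul_inv_eq_iff_eq_mul] at h6
    exact congrArg Subtype.val h5
  have hv := mem_fixOct_of_comm ho hdM hdo hcomm
  exact hodd d hd (Subtype.ext (fixOct_sq ho hv))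

end Cfsg.Agent.OddHalf.D4.Spor.MathieuOct
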