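import Cfsg.Agent.OddHalf.D4.Spor.MathieuSyl
import Cfsg.Agent.OddHalf.D4.Spor.MathieuOct
import Cfsg.Agent.OddHalf.D4.Spor.Transport
import Cfsg.Agent.OddHalf.Table.OutMTwentyTwo
import Cfsg.Agent.Schreier.MTwentyTwo

/-!
# ODD half, D4, sporadic components: the sheets of `M₂₂` and `M₂₃` (helper283)
-/

set_option autoImplicit false
open scoped Pointwise

namespace Cfsg.Agent.OddHalf.D4.Spor.M2223

open Cfsg Subgroup
open Cfsg.Agent.Schreier.SylMTwentyTwo (T T_le card_T)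
open Cfsg.Agent.OddHalf.D4.Spor.MathieuSyl Cfsg.Agent.OddHalf.D4.Spor.MathieuOct
open Cfsg.Agent.SporadicA.GolayBase Cfsg.Agent.SporadicA.GolayPerm
open Cfsg.Agent.SporadicA.OctadFix
open Cfsg.Agent.SporadicA.MathieuRecog (mem_M23_iff card_M22 card_M23 simple_M22)
open Cfsg.Agent.Schreier.MTwentyThree (M23_le_M24)

theorem M22_le_M23 : Spor.M22 ≤ Spor.M23 := inf_le_left

theorem M22_le_M24 : Spor.M22 ≤ M24 := M22_le_M23.trans M23_le_M24

theorem T_le23 : T ≤ Spor.M23 := T_le.trans M22_le_M23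

theorem card_T' {H : Subgroup (Equiv.Perm GolayPt)} (hTH : T ≤ H) : Nat.card (T.subgroupOf H) = 128 := by
  rw [Nat.card_congr (subgroupOfEquivOfLe hTH).toEquiv, card_T]

theorem idx22 : ¬ 2 ∣ (T.subgroupOf Spor.M22).index := by
  have h := (T.subgroupOf Spor.M22).card_mul_index
  rw [card_T' T_le, card_M22] at h
  omega

theorem idx23 : ¬ 2 ∣ (T.subgroupOf Spor.M23).index := by
  have h := (T.subgroupOf Spor.M23).card_mul_index
  rw [card_T' T_le23, card_M23] at h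
  omega

theorem finite22 : Finite Spor.M22 := Nat.finite_of_card_ne_zero (by rw [card_M22]; norm_num)

theorem finite23 : Finite Spor.M23 := Nat.finite_of_card_ne_zero (by rw [card_M23]; norm_num)

/-- `zz` is 2-central -/
theorem cen_zz {H : Subgroup (Equiv.Perm GolayPt)} [Finite H] (hTH : T ≤ H)
    (hidx : ¬ 2 ∣ (T.subgroupOf H).index) : Cen (⟨zz, hTH zz_mem⟩ : H) := by
  obtain ⟨S, hS⟩ := exists_sylow hTH hidx
  refine ⟨S, fun s hs => ?_⟩
  have hs' : s ∈ (S : Subgroup H) := hs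
  rw [hS, mem_subgroupOf] at hs'
  exact Subtype.ext (zz_comm hs')

theorem all_cen {H : Subgroup (Equiv.Perm GolayPt)} [Finite H] (hTH : T ≤ H)
    (hidx : ¬ 2 ∣ (T.subgroupOf H).index) (hM : Spor.M22 ≤ H) (w : H) (h2 : w * w = 1) (h1 : w ≠ 1) :
    Cen w := by
  obtain ⟨g, hg⟩ := one_class hTH hidx hM w h2 h1
  exact cen_conj hg (cen_zz hTH hidx)

/-! ### `M₂₃` -/

/-- the sheet of `M₂₃` -/
theorem sheet23' : Spor.Sheet Spor.M23 := by
  have := finite23
  have hin : ∀ α : MulAut Spor.M23, Inn α :=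
    Cfsg.Agent.UGT.MTwentyThree.End.exists_conj ⟨MulEquiv.refl _⟩
  refine Sheet.of_all_cen (out_of_inn hin) (schreier_of_inn hin) (sylAut_of_inn hin) ?_ ?_
    (all_cen T_le23 idx23 M22_le_M23)
  · exact fun S a ha _ ha1 hac b hb _ hb1 hbc =>
      z1_of_one (exists_center T_le23 idx23) S a ha ha1 hac b hb hb1 hbc
  · intro a h1 h2
    exact bal_of_core (Cfsg.Agent.UGT.MTwentyThree.End.core_eq_bot ⟨MulEquiv.refl _⟩
      (orderOf_eq_prime (by rw [pow_two, h1]) h2))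

theorem sheet23 {X : Type*} [Group X] (h : Spor.IsoM23 X) : Spor.Sheet X := by
  obtain ⟨e⟩ := h
  exact Sheet.of_equiv e.symm sheet23'

/-! ### `M₂₂` -/

theorem mem_M22_iff {g : Equiv.Perm GolayPt} : g ∈ Spor.M22 ↔ g ∈ M24 ∧ g none = none ∧ g (some 0) = some 0 := by
  constructor
  · rintro ⟨⟨h1, h2⟩, h3⟩
    exact ⟨h1, h2, h3⟩
  · rintro ⟨h1, h2, h3⟩
    exact ⟨⟨h1, h2⟩, h3⟩

/-- the octad of an involution of `M₂₂` -/
theorem exists_octad22 {t : Spor.M22} (h2 : t * t = 1) (h1 : t ≠ 1) : ∃ o ∈ octads, fixOct o ≤ Spor.M22 ∧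
    ∀ q, (t : Equiv.Perm GolayPt) q = q ↔ q ∈ o := by
  have e2 : (t : Equiv.Perm GolayPt) * t = 1 := congrArg Subtype.val h2
  obtain ⟨o, ho, h0, hfix⟩ := Cfsg.Agent.UGT.MTwentyThree.End.exists_octad_M23
    (t := (⟨t, M22_le_M23 t.2⟩ : Spor.M23)) (Subtype.ext e2)
    (fun h => by
      have e1 : (t : Equiv.Perm GolayPt) = 1 := congrArg Subtype.val h
      exact h1 (Subtype.ext e1))
  refine ⟨o, ho, fun v hv => ?_, hfix⟩
  have hv' := mem_fixOct.1 hv
  have h00 : (some 0 : GolayPt) ∈ o := (hfix _).1 (mem_M22_iff.1 t.2).2.2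
  exact mem_M22_iff.2 ⟨hv'.1, hv'.2 _ h0, hv'.2 _ h00⟩

theorem sylAut22 (S : Sylow 2 Spor.M22) (α : MulAut Spor.M22) (hα : IsPGroup 2 ↥(zpowers α))
    (hS : ∀ x ∈ S, α x = x) : Inn α := by
  have := finite22
  have hp : Fact (Nat.Prime 2) := ⟨Nat.prime_two⟩
  obtain ⟨S₀, hS₀⟩ := exists_sylow T_le idx22
  refine sylAut_of_one (S₀ := S₀) ?_ S α hα hS
  intro β _ hβ
  obtain ⟨g, hg, hgβ⟩ := Cfsg.Agent.J4Type.Aut22.exists_conj β
  have hgM : g ∈ M24 := ((Cfsg.Agent.J4Type.Aut22.mem_D22_iff g).1 hg).1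
  have hmem : ∀ x : Spor.M22, x ∈ S₀ ↔ (x : Equiv.Perm GolayPt) ∈ T := by
    intro x
    have : x ∈ S₀ ↔ x ∈ (S₀ : Subgroup Spor.M22) := Iff.rfl
    rw [this, hS₀, mem_subgroupOf]
  have hcom : ∀ x ∈ T, g * x = x * g := by
    intro x hx
    have h1 := hgβ ⟨x, T_le hx⟩
    rw [hβ _ ((hmem _).2 hx)] at h1
    have h2 : x = g * x * g⁻¹ := h1
    rw [eq_mul_inv_iff_mul_eq] at h2
    exact h2.symm
  obtain ⟨o, ho, hK, hfix⟩ := exists_octad22 (t := ⟨zz, T_le zz_mem⟩) (Subtype.ext zz_sq)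
    (fun h => zz_ne (congrArg Subtype.val h))
  -- `fixOct o ≤ T`
  have hle : ∀ v ∈ fixOct o, v ∈ T := by
    have hF2 : IsPGroup 2 ((fixOct o).subgroupOf Spor.M22) := by
      refine IsPGroup.of_card (n := 4) ?_
      rw [Nat.card_congr (subgroupOfEquivOfLe hK).toEquiv, card_fixOct ho]
      norm_num
    have hnorm : (S₀ : Subgroup Spor.M22) ≤ normalizer (((fixOct o).subgroupOf Spor.M22) : Set Spor.M22) := by
      have key : ∀ s ∈ S₀, ∀ v ∈ (fixOct o).subgroupOf Spor.M22, s * v * s⁻¹ ∈ (fixOct o).subgroupOf Spor.M22 := by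
        intro s hs v hv
        rw [mem_subgroupOf] at hv ⊢
        have hs1 : (s : Equiv.Perm GolayPt) * zz = zz * s := zz_comm ((hmem s).1 hs)
        have hso : (s : Equiv.Perm GolayPt) • o = o :=
          Cfsg.Agent.UGT.MTwentyThree.End.smul_eq_octad (maps_of_comm hfix hs1)
        have h3 := (conj_mem_fixOct (o := o) (g := (v : Equiv.Perm GolayPt)) (M22_le_M24 s.2)).2 hv
        rwa [hso] at h3
      intro s hs
      rw [mem_normalizer_iff]
      intro v
      constructor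
      · exact fun hv => key s hs v hv
      · intro hv
        have h1 := key s⁻¹ (inv_mem hs) _ hv
        have e : s⁻¹ * (s * v * s⁻¹) * s⁻¹⁻¹ = v := by group
        rwa [e] at h1
    have h2 := S₀.isPGroup'.to_sup_of_normal_right' hF2 hnorm
    have h3 := S₀.is_maximal' h2 le_sup_left
    intro v hv
    have h4 : (⟨v, hK hv⟩ : Spor.M22) ∈ (S₀ : Subgroup Spor.M22) := by
      rw [← h3]
      exact (le_sup_right : (fixOct o).subgroupOf Spor.M22 ≤ _) (mem_subgroupOf.2 hv)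
    exact (hmem _).1 h4
  have hgo := mem_fixOct_of_comm ho hgM (maps_of_comm hfix (hcom zz zz_mem))
    (fun v hv => hcom v (hle v hv))
  refine ⟨⟨g, hK hgo⟩, ?_⟩
  ext m
  rw [hgβ]
  rfl

/-- the sheet of `M₂₂` -/
theorem sheet22' : Spor.Sheet Spor.M22 := by
  have := finite22
  have := simple_M22
  refine Sheet.of_all_cen ?_ Cfsg.Agent.Schreier.MTwentyTwo.sch sylAut22 ?_ ?_
    (all_cen T_le idx22 le_rfl)
  · have hinj : Function.Injective (MulAut.conj : Spor.M22 →* MulAut Spor.M22) := by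
      rw [← MonoidHom.ker_eq_bot_iff, eq_bot_iff]
      intro x hx
      rw [← Table.OutBasic.center_eq_bot (X := Spor.M22) (by rw [card_M22]; norm_num), mem_center_iff]
      intro y
      have h1 : MulAut.conj x y = y := by
        rw [MonoidHom.mem_ker.1 hx]; rfl
      rw [MulAut.conj_apply, mul_inv_eq_iff_eq_mul] at h1
      exact h1.symm
    have hcard : Nat.card (MulAut.conj : Spor.M22 →* MulAut Spor.M22).range = 443520 := by
      rw [← Nat.card_congr (MonoidHom.ofInjective hinj).toEquiv, card_M22]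
    have h := (MulAut.conj : Spor.M22 →* MulAut Spor.M22).range.card_mul_index
    rw [hcard] at h
    have h1 := Table.OutMTwentyTwo.card_le
    have h2 : 0 < Nat.card (MulAut Spor.M22) := Nat.card_pos
    intro h4
    obtain ⟨k, hk⟩ := h4
    rw [hk] at h
    omega
  · exact fun S a ha _ ha1 hac b hb _ hb1 hbc =>
      z1_of_one (exists_center T_le idx22) S a ha ha1 hac b hb hb1 hbc
  · intro a h1 h2 I hc hn hodd
    obtain ⟨o, ho, hK, hfix⟩ := exists_octad22 h1 h2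
    exact core_bot M22_le_M24 ho hK hfix hc hn hodd

theorem sheet22 {X : Type*} [Group X] (h : Spor.IsoM22 X) : Spor.Sheet X := by
  obtain ⟨e⟩ := h
  exact Sheet.of_equiv e.symm sheet22'

end Cfsg.Agent.OddHalf.D4.Spor.M2223
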