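import Cfsg.Agent.OddHalf.D4.Spor.OfBasic
import Cfsg.Agent.OddHalf.D4.Spor.Transport
import Cfsg.Agent.KFacts.M24Two.CentW
import Cfsg.Agent.KFacts.M24Two.Out
import Cfsg.Agent.SporadicA.M24Trans
import Cfsg.Prelude.Def_Spor_Mathieu

/-!
# ODD half, D4, sporadic components: the fact sheet of `M24` (helper128)

`sheet : Sheet M24`. The involutions without fixed points (class `2B`) are not 2-central; `tab` is of the kind `SwapIn`:
`V = ⟨w, v⟩` is a pure `2B` four-group, `L = C(V)` is perfect, `w = [d, v]` with `d ∈ C(w)`.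
-/

set_option autoImplicit false

namespace Cfsg.Agent.OddHalf.D4.Spor.MTwentyFour

open Subgroup Cfsg Cfsg.Agent.KFacts.M24Two Cfsg.Agent.KFacts.M24Pair.Letters
open Cfsg.Agent.SporadicA.GolayBase Cfsg.Agent.SporadicStructure.M24El
open Cfsg.Agent.KFacts.M24Two.CentZ (z zz z_ne C mem_C E1 E2 mem_E1 mem_E2 E1_normal E2_normal xx_mem_C mem_E1_of_comm)
open Cfsg.Agent.KFacts.M24Two.CentW (w v d ww w_ne w_no_fix card_Cw normal_two odd_w LL mem_LL L_perfect d_comm d_v
  wv_comm w_mem_LL v_mem_LL)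
open scoped Pointwise

theorem card_M24' : Nat.card M24 = 2 ^ 10 * 239085 := by
  rw [Cfsg.Agent.SporadicA.M24Trans.card_M24]
  norm_num

theorem cen_z : Cen z := by
  apply cen_of_index
  have h1 := (centralizer ({z} : Set M24)).card_mul_index
  rw [card_M24', show Nat.card (centralizer ({z} : Set M24)) = 21504 from CentZ.card_C] at h1
  have h2 : (centralizer ({z} : Set M24)).index = 11385 := by omega
  rw [h2]
  norm_num

theorem not_cen_w : ¬ Cen w := by
  rintro ⟨S, hS⟩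
  have : Fact (Nat.Prime 2) := ⟨Nat.prime_two⟩
  have h1 : 2 ^ 10 ∣ Nat.card S := by
    apply S.pow_dvd_card_of_pow_dvd_card
    rw [card_M24']
    exact dvd_mul_right _ _
  have h2 : (S : Subgroup M24) ≤ centralizer ({w} : Set M24) := fun s hs =>
    mem_centralizer_singleton_iff.2 (hS s hs)
  have h3 := h1.trans (card_dvd_of_le h2)
  rw [card_Cw] at h3
  revert h3
  norm_num

/-- the classes of involutions -/
theorem conj_cases {u : M24} (hu : u * u = 1) (h1 : u ≠ 1) :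
    (∃ g : M24, g * z * g⁻¹ = u) ∨ ((∀ p : GolayPt, u • p ≠ p) ∧ ∃ g : M24, g * w * g⁻¹ = u) := by
  by_cases h : ∃ p : GolayPt, u • p = p
  · left
    obtain ⟨p, hp⟩ := h
    obtain ⟨a, ha⟩ := Count.conj_z_of_fix hu h1 hp
    obtain ⟨b, hb⟩ := CentZ.conj_z
    refine ⟨a⁻¹ * b, ?_⟩
    calc a⁻¹ * b * z * (a⁻¹ * b)⁻¹ = a⁻¹ * (b * z * b⁻¹) * a := by group
      _ = a⁻¹ * (a * u * a⁻¹) * a := by rw [hb, ← ha]
      _ = u := by group
  · right
    have hp : ∀ p : GolayPt, u • p ≠ p := fun p hp => h ⟨p, hp⟩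
    obtain ⟨a, ha⟩ := Count.conj_w_of_no_fix hu h1 hp
    obtain ⟨b, hb⟩ := Count.conj_w_of_no_fix ww w_ne w_no_fix
    refine ⟨hp, a⁻¹ * b, ?_⟩
    calc a⁻¹ * b * w * (a⁻¹ * b)⁻¹ = a⁻¹ * (b * w * b⁻¹) * a := by group
      _ = a⁻¹ * (a * u * a⁻¹) * a := by rw [hb, ← ha]
      _ = u := by group

/-- an involution which is not 2-central has no fixed point and is conjugate to `w` -/
theorem conj_w {u : M24} (hu : u * u = 1) (h1 : u ≠ 1) (hc : ¬ Cen u) :
    (∀ p : GolayPt, u • p ≠ p) ∧ ∃ g : M24, g * w * g⁻¹ = u := by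
  rcases conj_cases hu h1 with ⟨g, hg⟩ | h
  · exact absurd (cen_conj hg cen_z) hc
  · exact h

/-! ### `z` -/

theorem E1_sq {x : M24} (hx : x ∈ E1) : x * x = 1 := by
  obtain ⟨u, hu, rfl⟩ := mem_E1.1 hx
  have h : ∀ u ∈ CentZ.LE1, weqb (u ++ u) [] = true := by decide +kernel
  have h1 := weq (h u hu)
  rwa [ev_append, ev_nil] at h1

theorem E2_sq {x : M24} (hx : x ∈ E2) : x * x = 1 := by
  obtain ⟨u, hu, rfl⟩ := mem_E2.1 hx
  have h : ∀ u ∈ CentZ.LE2, weqb (u ++ u) [] = true := by decide +kernel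
  have h1 := weq (h u hu)
  rwa [ev_append, ev_nil] at h1

theorem xx_mem_E1 {r : ℕ} (hr : r ∈ [0, 1, 2, 3]) : xx r ∈ E1 := CentZ.xx_mem hr
theorem xx_mem_E2 {r : ℕ} (hr : r ∈ [3, 6, 8, 9]) : xx r ∈ E2 := CentZ.xx_mem hr

theorem eq_one_of_odd {X : Type*} [Group X] {I : Subgroup X} (ho : Odd (Nat.card I)) {x : X} (hx : x ∈ I)
    (h : x * x = 1) : x = 1 := by
  have h2 : orderOf x ∣ 2 := orderOf_dvd_of_pow_eq_one (by rw [pow_two]; exact h)
  have h3 : orderOf x ∣ Nat.card I := by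
    have := orderOf_dvd_natCard (⟨x, hx⟩ : I)
    rwa [Subgroup.orderOf_mk] at this
  have h4 : orderOf x ∣ 1 := by
    rw [← Nat.Coprime.gcd_eq_one (ho.coprime_two_right)]
    exact Nat.dvd_gcd h3 h2
  exact orderOf_eq_one_iff.1 (Nat.dvd_one.1 h4)

theorem odd_z (I : Subgroup M24) (hI : ∀ i ∈ I, i * z = z * i)
    (hn : ∀ c : M24, c * z = z * c → ∀ i ∈ I, c * i * c⁻¹ ∈ I) (ho : Odd (Nat.card I)) : I = ⊥ := by
  rw [eq_bot_iff_forall]
  intro x hx
  have h1 : x ∈ E1 := by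
    apply mem_E1_of_comm
    intro r hr
    have hr12 : r < 12 := by
      have : ∀ r ∈ [0, 1, 2, 3], r < 12 := by decide
      exact this r hr
    have h2 := hn (xx r) (mem_C.1 (xx_mem_C hr12)) _ (inv_mem hx)
    have h3 : x * xx r * x⁻¹ * (xx r)⁻¹ ∈ I := by
      have e : x * xx r * x⁻¹ * (xx r)⁻¹ = x * (xx r * x⁻¹ * (xx r)⁻¹) := by group
      rw [e]
      exact mul_mem hx h2
    have h4 : x * xx r * x⁻¹ * (xx r)⁻¹ ∈ E1 :=
      mul_mem (E1_normal (mem_C.2 (hI x hx)) (xx_mem_E1 hr)) (inv_mem (xx_mem_E1 hr))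
    have h5 := eq_one_of_odd ho h3 (E1_sq h4)
    rw [mul_inv_eq_one, mul_inv_eq_iff_eq_mul] at h5
    exact h5
  exact eq_one_of_odd ho hx (E1_sq h1)

/-- the elements of `E1` commuting with `E2` -/
theorem E1_cent_E2 {x : M24} (hx : x ∈ E1) (h : ∀ y ∈ E2, x * y = y * x) : x = 1 ∨ x = z := by
  obtain ⟨u, hu, rfl⟩ := mem_E1.1 hx
  have key : ∀ u ∈ CentZ.LE1, u = [] ∨ u = [3] ∨ ∃ r ∈ [3, 6, 8, 9], (List.range 24).any (fun i =>
      !(Nat.beq (Cfsg.Agent.SporadicA.GolayPerm.papp (prodW gx (u ++ [r])) i)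
        (Cfsg.Agent.SporadicA.GolayPerm.papp (prodW gx ([r] ++ u)) i))) = true := by
    decide +kernel
  rcases key u hu with rfl | rfl | ⟨r, hr, h1⟩
  · exact Or.inl ev_nil
  · exact Or.inr (CentZ.ev_singleton 3)
  · exfalso
    apply wne h1
    have h2 := h (xx r) (xx_mem_E2 hr)
    rwa [ev_append, ev_append, CentZ.ev_singleton]

theorem isPGroup_of_sq {H : Subgroup M24} (h : ∀ x ∈ H, x * x = 1) : IsPGroup 2 H := by
  intro x
  refine ⟨1, Subtype.ext ?_⟩
  show ((x ^ 2 ^ 1 : H) : M24) = 1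
  rw [pow_one, Subgroup.coe_pow, pow_two]
  exact h _ x.2

/-- a normal 2-subgroup of `C(z)` lies in the Sylow subgroups centralising `z` -/
theorem le_sylow {E : Subgroup M24} (hE : IsPGroup 2 E) (hn : ∀ c ∈ C, ∀ x ∈ E, c * x * c⁻¹ ∈ E)
    {S : Sylow 2 M24} (hS : ∀ s ∈ S, s * z = z * s) : E ≤ S := by
  have hnorm : (S : Subgroup M24) ≤ normalizer (E : Set M24) := by
    intro s hs
    rw [mem_normalizer_iff]
    intro r
    constructor
    · exact fun hr => hn s (mem_C.2 (hS s hs)) r hr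
    · intro hr
      have h1 := hn s⁻¹ (inv_mem (mem_C.2 (hS s hs))) _ hr
      have e : s⁻¹ * (s * r * s⁻¹) * s⁻¹⁻¹ = r := by group
      rwa [e] at h1
  have h2 : IsPGroup 2 ((S : Subgroup M24) ⊔ E : Subgroup M24) :=
    S.isPGroup'.to_sup_of_normal_right' hE hnorm
  have h3 := S.is_maximal' h2 le_sup_left
  exact (le_sup_right : E ≤ (S : Subgroup M24) ⊔ E).trans h3.le

theorem center_sylow {S : Sylow 2 M24} (hS : ∀ s ∈ S, s * z = z * s) {b : M24}
    (hb : ∀ s ∈ S, s * b = b * s) : b = 1 ∨ b = z := by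
  have h1 := le_sylow (isPGroup_of_sq fun x hx => E1_sq hx) (fun c hc x hx => E1_normal hc hx) hS
  have h2 := le_sylow (isPGroup_of_sq fun x hx => E2_sq hx) (fun c hc x hx => E2_normal hc hx) hS
  apply E1_cent_E2
  · apply mem_E1_of_comm
    intro r hr
    exact (hb _ (h1 (xx_mem_E1 hr))).symm
  · intro y hy
    exact (hb _ (h2 hy)).symm

theorem z1 (S : Sylow 2 M24) (a : M24) (_ : a ∈ S) (ha : a * a = 1) (ha1 : a ≠ 1) (hac : ∀ s ∈ S, s * a = a * s)
    (b : M24) (_ : b ∈ S) (_ : b * b = 1) (hb1 : b ≠ 1) (hbc : ∀ s ∈ S, s * b = b * s) : a = b := by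
  rcases conj_cases ha ha1 with ⟨g, rfl⟩ | ⟨-, g, rfl⟩
  · have h1 : ∀ s ∈ (g⁻¹ • S : Sylow 2 M24), s * z = z * s := by
      intro s hs
      rw [mem_smul_sylow', inv_inv] at hs
      have h2 := hac _ hs
      calc s * z = g⁻¹ * (g * s * g⁻¹ * (g * z * g⁻¹)) * g := by group
        _ = g⁻¹ * (g * z * g⁻¹ * (g * s * g⁻¹)) * g := by rw [h2]
        _ = z * s := by group
    have h2 : ∀ s ∈ (g⁻¹ • S : Sylow 2 M24), s * (g⁻¹ * b * g) = (g⁻¹ * b * g) * s := by
      intro s hs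
      rw [mem_smul_sylow', inv_inv] at hs
      have h2 := hbc _ hs
      calc s * (g⁻¹ * b * g) = g⁻¹ * (g * s * g⁻¹ * b) * g := by group
        _ = g⁻¹ * (b * (g * s * g⁻¹)) * g := by rw [h2]
        _ = (g⁻¹ * b * g) * s := by group
    rcases center_sylow h1 h2 with h3 | h3
    · exfalso
      apply hb1
      calc b = g * (g⁻¹ * b * g) * g⁻¹ := by group
        _ = 1 := by rw [h3]; group
    · rw [← h3]; group
  · exact absurd (cen_conj (z := g * w * g⁻¹) (g := g⁻¹) (w := w) (by group) ⟨S, hac⟩) not_cen_w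

/-! ### `tab` -/

theorem swap {V : Subgroup M24} (hw : w ∈ V) (hv : v ∈ V) : SwapIn V LL :=
  ⟨w, hw, w_ne, w_mem_LL, v, hv, d, d_comm, d_v⟩

theorem vfacts {V : Subgroup M24} (hw : w ∈ V) (h4 : 4 ∣ Nat.card V)
    (h : ∀ x ∈ V, x = 1 ∨ x = w ∨ x = v ∨ x = w * v) : VFacts V LL := by
  have hv : v ∈ V := by
    by_contra hv
    have h1 : ∀ x : V, (x : M24) = 1 ∨ (x : M24) = w := by
      intro x
      rcases h x x.2 with h1 | h1 | h1 | h1
      · exact Or.inl h1
      · exact Or.inr h1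
      · exact absurd (h1 ▸ x.2) hv
      · exfalso
        apply hv
        have h2 : v = w⁻¹ * (x : M24) := by rw [h1]; group
        rw [h2]
        exact mul_mem (inv_mem hw) x.2
    have h2 : Nat.card V ≤ 2 := by
      have h3 : Function.Surjective (fun i : Fin 2 => if i = 0 then (1 : V) else ⟨w, hw⟩) := by
        intro x
        rcases h1 x with h4 | h4
        · refine ⟨0, ?_⟩
          show (if (0 : Fin 2) = 0 then (1 : V) else ⟨w, hw⟩) = x
          rw [if_pos rfl]; exact Subtype.ext h4.symm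
        · refine ⟨1, ?_⟩
          show (if (1 : Fin 2) = 0 then (1 : V) else ⟨w, hw⟩) = x
          rw [if_neg (by decide)]; exact Subtype.ext h4.symm
      have h4 := Nat.card_le_card_of_surjective _ h3
      rwa [Nat.card_eq_fintype_card (α := Fin 2), Fintype.card_fin] at h4
    have h3 := Nat.le_of_dvd Nat.card_pos h4
    omega
  have hcent : ∀ l ∈ LL, ∀ x ∈ V, l * x = x * l := by
    intro l hl x hx
    rw [mem_LL] at hl
    rcases h x hx with rfl | rfl | rfl | rfl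
    · rw [one_mul, mul_one]
    · exact hl.1
    · exact hl.2
    · rw [← mul_assoc, hl.1, mul_assoc, hl.2, mul_assoc]
  have hVL : V ≤ LL := by
    intro x hx
    rcases h x hx with rfl | rfl | rfl | rfl
    · exact one_mem _
    · exact w_mem_LL
    · exact v_mem_LL
    · exact mul_mem w_mem_LL v_mem_LL
  exact
    { comm := fun a ha b hb => hcent a (hVL ha) b hb
      perf := L_perfect
      cent := hcent
      max := fun P _ hP x hx => mem_LL.2 ⟨hP x hx w hw, hP x hx v hv⟩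
      kill := Or.inl (swap hw hv) }

theorem tab_elt (u : M24) (N : Subgroup M24) (hN : Bad u N) (V : Subgroup M24) (hVN : V ≤ N)
    (huV : u ∈ V) (h4 : 4 ∣ Nat.card V) : ∃ L : Subgroup M24, VFacts V L := by
  obtain ⟨-, g, rfl⟩ := conj_w hN.sq hN.ne (hN.non u hN.mem hN.sq hN.ne)
  -- move to `w`
  let f : M24 ≃* M24 := MulAut.conj g⁻¹
  have hf : ∀ x, f x = g⁻¹ * x * g := fun x => by simp [f]
  have hback : ∀ x, g * f x * g⁻¹ = x := fun x => by rw [hf]; group
  set N' := N.map f.toMonoidHom with hN'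
  set V' := V.map f.toMonoidHom with hV'
  have hmemN : ∀ x : M24, x ∈ N' → g * x * g⁻¹ ∈ N := by
    rintro _ ⟨y, hy, rfl⟩
    show g * f y * g⁻¹ ∈ N
    rw [hback]; exact hy
  have hmemN' : ∀ x : M24, g * x * g⁻¹ ∈ N → x ∈ N' := fun x hx =>
    ⟨_, hx, by show f (g * x * g⁻¹) = x; rw [hf]; group⟩
  have hwV : w ∈ V' := ⟨_, huV, by show f (g * w * g⁻¹) = w; rw [hf]; group⟩
  have hV'N' : V' ≤ N' := map_mono hVN
  have hmem : ∀ n ∈ N', n = 1 ∨ n = w ∨ n = v ∨ n = w * v := by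
    intro n hn
    refine normal_two (hV'N' hwV) ?_ ?_ ?_ hn
    · intro m hm
      have h1 := hN.le _ (hmemN m hm)
      calc m * w = g⁻¹ * (g * m * g⁻¹ * (g * w * g⁻¹)) * g := by group
        _ = g⁻¹ * (g * w * g⁻¹ * (g * m * g⁻¹)) * g := by rw [h1]
        _ = w * m := by group
    · intro c hc m hm
      apply hmemN'
      have h1 : (g * c * g⁻¹) * (g * w * g⁻¹) = (g * w * g⁻¹) * (g * c * g⁻¹) := by
        calc (g * c * g⁻¹) * (g * w * g⁻¹) = g * (c * w) * g⁻¹ := by group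
          _ = g * (w * c) * g⁻¹ := by rw [hc]
          _ = _ := by group
      have h2 := hN.norm _ h1 _ (hmemN m hm)
      have e : g * (c * m * c⁻¹) * g⁻¹ = (g * c * g⁻¹) * (g * m * g⁻¹) * (g * c * g⁻¹)⁻¹ := by group
      rw [e]; exact h2
    · intro m hm hm2 hm1 p hp
      have h1 : (g * m * g⁻¹) * (g * m * g⁻¹) = 1 := by
        calc (g * m * g⁻¹) * (g * m * g⁻¹) = g * (m * m) * g⁻¹ := by group
          _ = 1 := by rw [hm2]; group
      have h2 : g * m * g⁻¹ ≠ 1 := by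
        intro h3
        apply hm1
        calc m = g⁻¹ * (g * m * g⁻¹) * g := by group
          _ = 1 := by rw [h3]; group
      have h3 := (conj_w h1 h2 (hN.non _ (hmemN m hm) h1 h2)).1
      apply h3 (g • p)
      rw [mul_smul, mul_smul, inv_smul_smul, hp]
  have hcard : Nat.card V' = Nat.card V := Subgroup.card_map_of_injective f.injective
  have h5 := (vfacts hwV (by rw [hcard]; exact h4) fun x hx => hmem x (hV'N' hx)).map f.symm
  have h6 : V'.map f.symm.toMonoidHom = V := by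
    rw [hV', Subgroup.map_map]
    have : f.symm.toMonoidHom.comp f.toMonoidHom = MonoidHom.id M24 := by
      ext x; simp
    rw [this, Subgroup.map_id]
  rw [h6] at h5
  exact ⟨_, h5⟩

/-- **The sheet of `M24`.** -/
theorem sheet : Sheet M24 where
  out := out_of_inn Out.exists_conj
  schreier := schreier_of_inn Out.exists_conj
  sylAut := sylAut_of_inn Out.exists_conj
  z1 := z1
  bal := by
    intro a ha ha1
    rcases conj_cases ha ha1 with ⟨g, hg⟩ | ⟨-, g, hg⟩
    · exact bal_of_one odd_z hg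
    · exact bal_of_one odd_w hg
  out2 := out2_of_inn Out.exists_conj
  tab := tab_of_elt fun u N hN V hVN _ huV _ _ h4 => tab_elt u N hN V hVN huV h4

/-- **The sheet of every group `K ≅ M24`.** -/
theorem sheet_of {K : Type*} [Group K] (e : K ≃* M24) : Sheet K := sheet.of_equiv e.symm

theorem exists_sheet {K : Type*} [Group K] (h : Cfsg.Spor.IsoM24 K) : Sheet K :=
  h.elim fun e => sheet_of e

end Cfsg.Agent.OddHalf.D4.Spor.MTwentyFour
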