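import Cfsg.Agent.TitsK.Main
import Cfsg.Agent.OddHalf.D4.Spor.Row

/-!
# ODD half, D4: the row of the Tits group
-/

set_option autoImplicit false

namespace Cfsg.Agent.OddHalf.D4.Spor.Tits

open Cfsg Cfsg.Agent.OddHalf Cfsg.Agent.OddHalf.D4 Cfsg.Agent.OddHalf.D4.Spor

universe u

/-- the fact sheet of a group isomorphic to the Tits group -/
theorem sheet {X : Type u} [Group X] (h : Lie.IsoTits X) : Sheet X := by
  obtain ⟨e⟩ := h
  obtain ⟨e'⟩ := Cfsg.Agent.TitsK.exists_equiv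
  exact Cfsg.Agent.TitsK.tdata.sheet_of_equiv ⟨e.trans e'⟩

/-- **`RowsTwo.tits`** -/
theorem row (h1173 : Start.P1173.{u}) (hFT : FTT.{u}) (hse : PSE.{u}) :
    Cut.Row1.{u} (fun K _ => Lie.IsoTits K) :=
  row_of_sheet h1173 hFT hse fun _ _ _ _ h => sheet h

end Cfsg.Agent.OddHalf.D4.Spor.Tits
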