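import Cfsg.Agent.OddHalf.D4.Spor.Row
import Cfsg.Agent.OddHalf.D4.Spor.NoSE
import Cfsg.Agent.OddHalf.D4.Spor.M11
import Cfsg.Agent.OddHalf.D4.Spor.MTwentyFour
import Cfsg.Agent.OddHalf.D4.Spor.JTwo
import Cfsg.Agent.OddHalf.D4.Spor.J3
import Cfsg.Agent.KFacts.J4.DFour
import Cfsg.Agent.OddHalf.D4.Spor.Suz
import Cfsg.Agent.OddHalf.D4.Spor.Fi22
import Cfsg.Agent.OddHalf.D4.Spor.HN
import Cfsg.Agent.OddHalf.D4.Spor.M2223
import Cfsg.Agent.OddHalf.D4.Spor.ThSheet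
import Cfsg.Agent.OddHalf.D4.Spor.J1
import Cfsg.Agent.OddHalf.D4.Spor.HS
import Cfsg.Agent.OddHalf.D4.Spor.He
import Cfsg.Agent.OddHalf.D4.Spor.Ru
import Cfsg.Agent.OddHalf.D4.Spor.ON
import Cfsg.Agent.OddHalf.D4.Spor.Fi23
import Cfsg.Agent.OddHalf.D4.Spor.Fi24
import Cfsg.Agent.OddHalf.D4.Spor.MonsterFinal
import Cfsg.Agent.KFacts.Co2D4.Sheet
import Cfsg.Agent.KFacts.Co3D4.Sheet

/-!
# ODD half, D4: the sporadic rows, assembly

`Rest`: the sheets which are not yet in the tree. `rowsSpor_of`: all the sporadic rows of D4.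
-/

set_option autoImplicit false

namespace Cfsg.Agent.OddHalf.D4.Spor

open Cfsg

universe u

theorem pse : PSE.{u} := fun _ _ _ _ hna z1 => noSE hna z1

/-- The missing sheets. -/
structure Rest : Prop where
  co1 : ∀ (X : Type u) [Group X], Spor.IsoCo1 X → Sheet X
  b : ∀ (X : Type u) [Group X], Spor.IsoB X → Sheet X

theorem sheets (h : Rest.{u}) : Sheets.{u} where
  m11 := fun _ _ hX => M11.sheet hX
  m22 := fun _ _ hX => M2223.sheet22 hX
  m23 := fun _ _ hX => M2223.sheet23 hX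
  m24 := fun _ _ hX => MTwentyFour.exists_sheet hX
  j1 := fun _ _ hX => J1.sheet_of_iso hX
  j2 := fun _ _ hX => sheet_of_model JTwo.sheet hX
  j3 := fun _ _ hX => J3.sheet hX
  j4 := fun _ _ hX => Cfsg.Agent.KFacts.J4.DFour.exists_sheet hX
  co1 := h.co1
  co2 := fun _ _ hX => Cfsg.Agent.KFacts.Co2D4.sheetD4 hX
  co3 := fun _ _ hX => Cfsg.Agent.KFacts.Co3D4.sheetD4 hX
  hs := fun _ _ hX => HS.sheet hX
  suz := fun _ _ hX => sheet_of_model Suz.sheet hX
  he := fun _ _ hX => He.sheet_of_iso hX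
  ru := fun _ _ hX => Ru.sheet hX
  on := fun _ _ hX => ON.sheet hX
  fi22 := fun _ _ hX => Fi22.sheet hX
  fi23 := fun _ _ hX => sheetG_of_model Fi23.sheetG hX
  fi24 := fun _ _ hX => sheet_of_model Fi24.sheet hX
  hn := fun _ _ hX => sheet_of_model HN.sheet hX
  th := fun _ _ hX => ThSheet.sheet_of_iso hX
  b := h.b
  m := fun _ _ hX => MonsterFinal.sheet hX

/-- **The sporadic rows of D4**, from S1173, S0205 and the missing sheets. -/
theorem rowsSpor_of (h1173 : Start.P1173.{u}) (hFT : FTT.{u}) (h : Rest.{u}) : Cut.RowsSpor.{u} :=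
  rowsSpor h1173 hFT pse (sheets h)

end Cfsg.Agent.OddHalf.D4.Spor
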