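import Cfsg.Agent.BabyM.CoTwoMod
import Cfsg.Agent.OddHalf.D4.Spor.LargeBad

/-!
# From the Leech lattice to `Q/⟨z⟩` in `2^{1+22}.Co₂` (helper667)

`Brg C Q z t l r Rl` : `Q` is extraspecial with centre `⟨z⟩`, `C` acts irreducibly on `Q/⟨z⟩`, `Rl g c` says that `g ∈ C`
acts on the lattice as `c ∈ Co₀` (`c l = l`), `t ∈ Q`, and (`star`) `g t g⁻¹` commutes with `t` iff `c r` and `r` have even
inner product. Then `Q/⟨z⟩ ≅ evn l / rad l`, compatible with `C`, commutators and squares (`Lk x y`: `x ∈ Q` lies over the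
class of `y`). Consequences: `rk` (the condition (R) of `LargeBad`), `lq` (the condition (LQ)), from two facts about `Co₀`.
-/

set_option autoImplicit false

namespace Cfsg.Agent.OddHalf.D4.Spor.LatGlue

open Cfsg Cfsg.Agent.SporadicStructure.Co2RankThree Cfsg.Agent.BabyM.CoTwoMod

/-- The bridge. -/
structure Brg {Γ : Type*} [Group Γ] (C Q : Subgroup Γ) (z t : Γ) (l r : leechLattice) (Rl : Γ → Co0 → Prop) :
    Prop where
  Q_le : Q ≤ C
  z_mem : z ∈ Q
  z_ne : z ≠ 1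
  z_sq : z * z = 1
  z_comm : ∀ g ∈ C, g * z = z * g
  norm : ∀ g ∈ C, ∀ q ∈ Q, g * q * g⁻¹ ∈ Q
  comm : ∀ x ∈ Q, ∀ y ∈ Q, x * y = y * x ∨ x * y = y * x * z
  sq : ∀ x ∈ Q, x * x = 1 ∨ x * x = z
  center : ∀ x ∈ Q, (∀ y ∈ Q, x * y = y * x) → x = 1 ∨ x = z
  irr : ∀ N : Subgroup Γ, N ≤ Q → (∀ g ∈ C, ∀ n ∈ N, g * n * g⁻¹ ∈ N) → (∀ n ∈ N, n = 1 ∨ n = z) ∨ N = Q
  t_mem : t ∈ Q
  t_ne : t ≠ 1
  t_ne_z : t ≠ z
  t_sq : t * t = 1
  dl : dt l l = 32
  dr : dt r r = 32
  dlr : (16 : ℤ) ∣ dt l r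
  ex : ∀ g ∈ C, ∃ c, Rl g c
  fix : ∀ g c, Rl g c → c • l = l
  one : Rl 1 1
  mul : ∀ g c g' c', Rl g c → Rl g' c' → Rl (g * g') (c * c')
  inv : ∀ g c, Rl g c → Rl g⁻¹ c⁻¹
  onto : ∀ c : Co0, c • l = l → ∃ g ∈ C, Rl g c
  ker : ∀ g ∈ C, Rl g 1 → g ∈ Q
  triv : ∀ g ∈ Q, ∀ c, Rl g c → c = 1
  star : ∀ g ∈ C, ∀ c, Rl g c → (g * t * g⁻¹ * t = t * (g * t * g⁻¹) ↔ (16 : ℤ) ∣ dt (c • r) r)

variable {Γ : Type*} [Group Γ] {C Q : Subgroup Γ} {z t : Γ} {l r : leechLattice} {Rl : Γ → Co0 → Prop}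

/-- `x` lies over the class of `y`. -/
def Lk (C : Subgroup Γ) (t : Γ) (r : leechLattice) (Rl : Γ → Co0 → Prop) (x : Γ) (y : leechLattice) : Prop :=
  ∀ g ∈ C, ∀ c, Rl g c → (x * (g * t * g⁻¹) = g * t * g⁻¹ * x ↔ (16 : ℤ) ∣ dt y (c • r))

/-- parity of a sum -/
theorem par_add {a b : ℤ} (ha : (8 : ℤ) ∣ a) (hb : (8 : ℤ) ∣ b) :
    (16 : ℤ) ∣ a + b ↔ ((16 : ℤ) ∣ a ↔ (16 : ℤ) ∣ b) := by
  omega

namespace Brg

variable (h : Brg C Q z t l r Rl)
include h

theorem z_inv : z⁻¹ = z := inv_eq_of_mul_eq_one_left h.z_sq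

theorem conj_mem {g : Γ} (hg : g ∈ C) : g * t * g⁻¹ ∈ Q := h.norm g hg t h.t_mem

/-- commutation of a product with an element of `Q` -/
theorem comm_mul_iff {x x' y : Γ} (hx : x ∈ Q) (hx' : x' ∈ Q) (hy : y ∈ Q) :
    x * x' * y = y * (x * x') ↔ (x * y = y * x ↔ x' * y = y * x') := by
  have hzy := h.z_comm y (h.Q_le hy)
  have hzx := h.z_comm x (h.Q_le hx)
  have hzx' := h.z_comm x' (h.Q_le hx')
  have ne : ∀ w : Γ, w * z ≠ w := fun w e => h.z_ne (mul_left_cancel (a := w) (by rw [e, mul_one]))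
  rcases h.comm x hx y hy with e1 | e1 <;> rcases h.comm x' hx' y hy with e2 | e2
  · refine iff_of_true ?_ (iff_of_true e1 e2)
    rw [mul_assoc, e2, ← mul_assoc, e1, mul_assoc]
  · refine iff_of_false ?_ ?_
    · intro e
      apply ne (y * (x * x'))
      calc y * (x * x') * z = (y * x) * x' * z := by group
        _ = (x * y) * x' * z := by rw [e1]
        _ = x * (y * x' * z) := by group
        _ = x * (x' * y) := by rw [e2]
        _ = y * (x * x') := by rw [← mul_assoc, e]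
    · intro e
      exact ne (y * x') (e2.symm.trans (e.1 e1))
  · refine iff_of_false ?_ ?_
    · intro e
      apply ne (y * (x * x'))
      calc y * (x * x') * z = (y * x) * (x' * z) := by group
        _ = (y * x * z) * x' := by rw [hzx']; group
        _ = (x * y) * x' := by rw [e1]
        _ = x * (y * x') := by group
        _ = x * (x' * y) := by rw [e2]
        _ = y * (x * x') := by rw [← mul_assoc, e]
    · intro e
      exact ne (y * x) (e1.symm.trans (e.2 e2))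
  · refine iff_of_true ?_ ?_
    · calc x * x' * y = x * (x' * y) := by group
        _ = x * (y * x' * z) := by rw [e2]
        _ = (x * y) * (x' * z) := by group
        _ = (y * x * z) * (z * x') := by rw [e1, hzx']
        _ = y * x * (z * z) * x' := by group
        _ = y * (x * x') := by rw [h.z_sq]; group
    · exact iff_of_false (fun e => ne (y * x) (e1.symm.trans e)) (fun e => ne (y * x') (e2.symm.trans e))

theorem lk_mul {x x' : Γ} {y y' : leechLattice} (hx : x ∈ Q) (hx' : x' ∈ Q) (h1 : Lk C t r Rl x y)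
    (h2 : Lk C t r Rl x' y') : Lk C t r Rl (x * x') (y + y') := by
  intro g hg c hc
  rw [h.comm_mul_iff hx hx' (h.conj_mem hg), h1 g hg c hc, h2 g hg c hc, dt_add_left,
    par_add (eight_dvd_dt _ _) (eight_dvd_dt _ _)]

omit h in
theorem lk_inv {x : Γ} {y : leechLattice} (h1 : Lk C t r Rl x y) : Lk C t r Rl x⁻¹ y := by
  intro g hg c hc
  rw [← h1 g hg c hc]
  constructor
  · intro e
    calc x * (g * t * g⁻¹) = x * (g * t * g⁻¹ * x⁻¹) * x := by group
      _ = x * (x⁻¹ * (g * t * g⁻¹)) * x := by rw [e]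
      _ = g * t * g⁻¹ * x := by group
  · intro e
    calc x⁻¹ * (g * t * g⁻¹) = x⁻¹ * (g * t * g⁻¹ * x) * x⁻¹ := by group
      _ = x⁻¹ * (x * (g * t * g⁻¹)) * x⁻¹ := by rw [e]
      _ = g * t * g⁻¹ * x⁻¹ := by group

omit h in
theorem lk_neg {x : Γ} {y : leechLattice} (h1 : Lk C t r Rl x y) : Lk C t r Rl x (-y) := by
  intro g hg c hc
  rw [h1 g hg c hc, dt_neg_left, dvd_neg]

omit h in
theorem lk_one : Lk C t r Rl 1 0 := by
  intro g _ c _
  have : dt 0 (c • r) = 0 := by rw [dt_comm]; exact dt_zero_right _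
  rw [this]
  simp

theorem lk_z : Lk C t r Rl z 0 := by
  intro g hg c _
  have : dt 0 (c • r) = 0 := by rw [dt_comm]; exact dt_zero_right _
  rw [this]
  refine iff_of_true ?_ (dvd_zero _)
  exact (h.z_comm _ (h.Q_le (h.conj_mem hg))).symm

theorem lk_conj {x : Γ} {y : leechLattice} (h1 : Lk C t r Rl x y) {k : Γ} (hk : k ∈ C) {d : Co0} (hd : Rl k d) :
    Lk C t r Rl (k * x * k⁻¹) (d • y) := by
  intro g hg c hc
  have h2 := h1 (k⁻¹ * g) (C.mul_mem (C.inv_mem hk) hg) (d⁻¹ * c) (h.mul _ _ _ _ (h.inv _ _ hd) hc)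
  have h3 : dt (d • y) (c • r) = dt y ((d⁻¹ * c) • r) := by
    rw [mul_smul, ← dt_smul d y, smul_inv_smul]
  rw [h3, ← h2]
  constructor
  · intro e
    calc x * (k⁻¹ * g * t * (k⁻¹ * g)⁻¹) = k⁻¹ * (k * x * k⁻¹ * (g * t * g⁻¹)) * k := by group
      _ = k⁻¹ * (g * t * g⁻¹ * (k * x * k⁻¹)) * k := by rw [e]
      _ = k⁻¹ * g * t * (k⁻¹ * g)⁻¹ * x := by group
  · intro e
    calc k * x * k⁻¹ * (g * t * g⁻¹) = k * (x * (k⁻¹ * g * t * (k⁻¹ * g)⁻¹)) * k⁻¹ := by group
      _ = k * (k⁻¹ * g * t * (k⁻¹ * g)⁻¹ * x) * k⁻¹ := by rw [e]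
      _ = g * t * g⁻¹ * (k * x * k⁻¹) := by group

theorem lk_t : Lk C t r Rl t r := by
  intro g hg c hc
  rw [dt_comm, ← h.star g hg c hc]
  exact eq_comm

theorem r_mem : r ∈ evn l := h.dlr

theorem smul_evn {g : Γ} {c : Co0} (hc : Rl g c) {y : leechLattice} (hy : y ∈ evn l) : c • y ∈ evn l :=
  smul_mem_evn (h.fix g c hc) hy

/-- `t` does not commute with all its conjugates. -/
theorem exists_not_comm : ∃ g ∈ C, ¬ (t * (g * t * g⁻¹) = g * t * g⁻¹ * t) := by
  by_contra hcon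
  push Not at hcon
  -- the elements commuting with all the conjugates of `t`
  let N : Subgroup Γ :=
    { carrier := {x | x ∈ Q ∧ ∀ g ∈ C, x * (g * t * g⁻¹) = g * t * g⁻¹ * x}
      one_mem' := ⟨Q.one_mem, fun g _ => by rw [one_mul, mul_one]⟩
      mul_mem' := by
        rintro a b ⟨ha, ha'⟩ ⟨hb, hb'⟩
        exact ⟨Q.mul_mem ha hb, fun g hg =>
          (h.comm_mul_iff ha hb (h.conj_mem hg)).2 (iff_of_true (ha' g hg) (hb' g hg))⟩
      inv_mem' := by
        rintro a ⟨ha, ha'⟩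
        refine ⟨Q.inv_mem ha, fun g hg => ?_⟩
        calc a⁻¹ * (g * t * g⁻¹) = a⁻¹ * (g * t * g⁻¹ * a) * a⁻¹ := by group
          _ = a⁻¹ * (a * (g * t * g⁻¹)) * a⁻¹ := by rw [ha' g hg]
          _ = g * t * g⁻¹ * a⁻¹ := by group }
  have hNQ : N ≤ Q := fun x hx => hx.1
  have hN : ∀ g ∈ C, ∀ n ∈ N, g * n * g⁻¹ ∈ N := by
    rintro k hk n ⟨hn, hn'⟩
    refine ⟨h.norm k hk n hn, fun g hg => ?_⟩
    have h2 := hn' (k⁻¹ * g) (C.mul_mem (C.inv_mem hk) hg)
    calc k * n * k⁻¹ * (g * t * g⁻¹) = k * (n * (k⁻¹ * g * t * (k⁻¹ * g)⁻¹)) * k⁻¹ := by group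
      _ = k * (k⁻¹ * g * t * (k⁻¹ * g)⁻¹ * n) * k⁻¹ := by rw [h2]
      _ = g * t * g⁻¹ * (k * n * k⁻¹) := by group
  rcases h.irr N hNQ hN with h1 | h1
  · rcases h1 t ⟨h.t_mem, hcon⟩ with e | e
    · exact h.t_ne e
    · exact h.t_ne_z e
  · rcases h.center t h.t_mem (fun y hy => by
      rw [← h1] at hy
      have := hy.2 1 C.one_mem
      rw [one_mul, inv_one, mul_one] at this
      exact this.symm) with e | e
    · exact h.t_ne e
    · exact h.t_ne_z e

/-- an element of `Q` commuting with all the conjugates of `t` -/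
theorem eq_of_comm {x : Γ} (hx : x ∈ Q) (hc : ∀ g ∈ C, x * (g * t * g⁻¹) = g * t * g⁻¹ * x) : x = 1 ∨ x = z := by
  let N : Subgroup Γ :=
    { carrier := {x | x ∈ Q ∧ ∀ g ∈ C, x * (g * t * g⁻¹) = g * t * g⁻¹ * x}
      one_mem' := ⟨Q.one_mem, fun g _ => by rw [one_mul, mul_one]⟩
      mul_mem' := by
        rintro a b ⟨ha, ha'⟩ ⟨hb, hb'⟩
        exact ⟨Q.mul_mem ha hb, fun g hg =>
          (h.comm_mul_iff ha hb (h.conj_mem hg)).2 (iff_of_true (ha' g hg) (hb' g hg))⟩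
      inv_mem' := by
        rintro a ⟨ha, ha'⟩
        refine ⟨Q.inv_mem ha, fun g hg => ?_⟩
        calc a⁻¹ * (g * t * g⁻¹) = a⁻¹ * (g * t * g⁻¹ * a) * a⁻¹ := by group
          _ = a⁻¹ * (a * (g * t * g⁻¹)) * a⁻¹ := by rw [ha' g hg]
          _ = g * t * g⁻¹ * a⁻¹ := by group }
  have hNQ : N ≤ Q := fun x hx => hx.1
  have hN : ∀ g ∈ C, ∀ n ∈ N, g * n * g⁻¹ ∈ N := by
    rintro k hk n ⟨hn, hn'⟩
    refine ⟨h.norm k hk n hn, fun g hg => ?_⟩
    have h2 := hn' (k⁻¹ * g) (C.mul_mem (C.inv_mem hk) hg)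
    calc k * n * k⁻¹ * (g * t * g⁻¹) = k * (n * (k⁻¹ * g * t * (k⁻¹ * g)⁻¹)) * k⁻¹ := by group
      _ = k * (k⁻¹ * g * t * (k⁻¹ * g)⁻¹ * n) * k⁻¹ := by rw [h2]
      _ = g * t * g⁻¹ * (k * n * k⁻¹) := by group
  rcases h.irr N hNQ hN with h1 | h1
  · exact h1 x ⟨hx, hc⟩
  · exfalso
    obtain ⟨g, hg, hne⟩ := h.exists_not_comm
    have : t ∈ N := by rw [h1]; exact h.t_mem
    exact hne (this.2 g hg)

/-- `dt y (c r)` is divisible by 16 for `y ∈ rad l` -/
theorem dvd_of_rad {y : leechLattice} (hy : y ∈ rad l) {g : Γ} {c : Co0} (hc : Rl g c) :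
    (16 : ℤ) ∣ dt y (c • r) := by
  have h1 : c • l = l := h.fix g c hc
  obtain ⟨w, rfl | rfl⟩ := mem_rad.1 hy
  · rw [dt_comm, dt_two_smul_right]
    obtain ⟨k, hk⟩ := eight_dvd_dt (c • r) w
    exact ⟨k, by rw [hk]; ring⟩
  · rw [dt_add_left, dt_comm (2 • w), dt_two_smul_right]
    obtain ⟨k, hk⟩ := eight_dvd_dt (c • r) w
    have h2 : dt l (c • r) = dt l r := by
      conv_lhs => rw [← h1]
      exact dt_smul c l r
    obtain ⟨m, hm⟩ := h.dlr
    exact ⟨k + m, by rw [hk, h2, hm]; ring⟩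

/-- an element over `rad l` is `1` or `z` -/
theorem eq_of_rad {x : Γ} (hx : x ∈ Q) {y : leechLattice} (hy : y ∈ rad l) (h1 : Lk C t r Rl x y) : x = 1 ∨ x = z := by
  refine h.eq_of_comm hx fun g hg => ?_
  obtain ⟨c, hc⟩ := h.ex g hg
  exact (h1 g hg c hc).2 (h.dvd_of_rad hy hc)

/-- the vectors orthogonal to all the `c r` -/
theorem rad_of_orth {y : leechLattice} (hy : y ∈ evn l)
    (ho : ∀ g ∈ C, ∀ c, Rl g c → (16 : ℤ) ∣ dt y (c • r)) : y ∈ rad l := by
  let U : AddSubgroup leechLattice :=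
    { carrier := {y | y ∈ evn l ∧ ∀ g ∈ C, ∀ c, Rl g c → (16 : ℤ) ∣ dt y (c • r)}
      add_mem' := by
        rintro a b ⟨ha, ha'⟩ ⟨hb, hb'⟩
        refine ⟨(evn l).add_mem ha hb, fun g hg c hc => ?_⟩
        rw [dt_add_left]
        exact dvd_add (ha' g hg c hc) (hb' g hg c hc)
      zero_mem' := by
        refine ⟨(evn l).zero_mem, fun g hg c hc => ?_⟩
        rw [dt_comm, dt_zero_right]
        exact dvd_zero _
      neg_mem' := by
        rintro a ⟨ha, ha'⟩
        refine ⟨(evn l).neg_mem ha, fun g hg c hc => ?_⟩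
        rw [dt_neg_left, dvd_neg]
        exact ha' g hg c hc }
  have h1 : rad l ≤ U := fun y hy => ⟨rad_le_evn l h.dl hy, fun g _ c hc => h.dvd_of_rad hy hc⟩
  have h2 : U ≤ evn l := fun y hy => hy.1
  rcases irreducible l h.dl U h1 h2 (by
    rintro d hd y ⟨hy, hy'⟩
    refine ⟨smul_mem_evn hd hy, fun g hg c hc => ?_⟩
    obtain ⟨k, hk, hkd⟩ := h.onto d hd
    have h3 := hy' (k⁻¹ * g) (C.mul_mem (C.inv_mem hk) hg) (d⁻¹ * c) (h.mul _ _ _ _ (h.inv _ _ hkd) hc)
    have h4 : dt (d • y) (c • r) = dt y ((d⁻¹ * c) • r) := by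
      rw [mul_smul, ← dt_smul d y, smul_inv_smul]
    rwa [h4]) with h3 | h3
  · rw [← h3]; exact ⟨hy, ho⟩
  · exfalso
    obtain ⟨g, hg, hne⟩ := h.exists_not_comm
    obtain ⟨c, hc⟩ := h.ex g hg
    have h4 : r ∈ U := by rw [h3]; exact h.r_mem
    exact hne ((h.lk_t g hg c hc).2 (h4.2 g hg c hc))

/-- uniqueness of `y` modulo `rad l` -/
theorem sub_mem_rad {x : Γ} {y y' : leechLattice} (hy : y ∈ evn l) (hy' : y' ∈ evn l) (h1 : Lk C t r Rl x y)
    (h2 : Lk C t r Rl x y') : y - y' ∈ rad l := by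
  refine h.rad_of_orth ((evn l).sub_mem hy hy') fun g hg c hc => ?_
  have h3 := h1 g hg c hc
  have h4 := h2 g hg c hc
  rw [sub_eq_add_neg, dt_add_left, dt_neg_left,
    par_add (eight_dvd_dt _ _) ((dvd_neg).2 (eight_dvd_dt _ _)), dvd_neg, ← h3, ← h4]

/-- a change of `y` by an element of `rad l` -/
theorem lk_of_sub {x : Γ} {y y' : leechLattice} (h1 : Lk C t r Rl x y) (hs : y' - y ∈ rad l) : Lk C t r Rl x y' := by
  intro g hg c hc
  rw [h1 g hg c hc]
  have h2 := h.dvd_of_rad hs hc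
  rw [dt_sub_left] at h2
  have h3 := eight_dvd_dt y (c • r)
  have h4 := eight_dvd_dt y' (c • r)
  omega

/-- uniqueness of `x` modulo `z` -/
theorem eq_or_of_lk {x x' : Γ} (hx : x ∈ Q) (hx' : x' ∈ Q) {y : leechLattice} (h1 : Lk C t r Rl x y)
    (h2 : Lk C t r Rl x' y) : x' = x ∨ x' = x * z := by
  have h3 := h.lk_mul (Q.inv_mem hx) hx' (lk_inv h1) h2
  have h4 : y + y ∈ rad l := by rw [← two_smul ℕ y]; exact two_smul_mem_rad l y
  rcases h.eq_of_rad (Q.mul_mem (Q.inv_mem hx) hx') h4 h3 with e | e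
  · left; exact (inv_mul_eq_one.1 e).symm
  · right; rw [← e, mul_inv_cancel_left]

/-- `32 ∣ dt y y` and even inner products depend only on the class modulo `rad l`. -/
theorem norm_add_rad {y w : leechLattice} (hy : y ∈ evn l) (hw : w ∈ rad l) :
    (32 : ℤ) ∣ dt (y + w) (y + w) ↔ (32 : ℤ) ∣ dt y y := by
  have hsq : ∀ a : leechLattice, (16 : ℤ) ∣ dt a a := fun a => by
    have := Cfsg.Agent.Leech.Basic.sixteen_dvd_sqNorm a.2
    rwa [norm_eq] at this
  have h0 : dt (y + w) (y + w) = dt y y + 2 * dt y w + dt w w := by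
    rw [dt_add_left, dt_add_right, dt_add_right, dt_comm w y]; ring
  obtain ⟨v, rfl | rfl⟩ := mem_rad.1 hw
  · have h1 : dt (2 • v) (2 • v) = 4 * dt v v := by
      rw [dt_two_smul_right, dt_comm, dt_two_smul_right]; ring
    have h2 := hsq v
    have h3 := eight_dvd_dt y v
    rw [h0, h1, dt_two_smul_right]
    omega
  · have h1 : dt (2 • v + l) (2 • v + l) = 4 * dt v v + 4 * dt l v + 32 := by
      have : dt (2 • v) (2 • v) = 4 * dt v v := by
        rw [dt_two_smul_right, dt_comm, dt_two_smul_right]; ring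
      rw [dt_add_left, dt_add_right, dt_add_right, this, h.dl, dt_two_smul_right, dt_comm (2 • v) l,
        dt_two_smul_right]
      ring
    have h2 := hsq v
    have h3 := eight_dvd_dt y v
    have h4 := eight_dvd_dt l v
    have h5 : (16 : ℤ) ∣ dt y l := by rw [dt_comm]; exact hy
    rw [h0, h1, dt_add_right, dt_two_smul_right]
    omega

/-- `x` lies over `y`, and `y` computes the square of `x` and the commutators with `x`. -/
structure Gd (C Q : Subgroup Γ) (t : Γ) (l r : leechLattice) (Rl : Γ → Co0 → Prop) (x : Γ) (y : leechLattice) :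
    Prop where
  evn : y ∈ evn l
  lk : Lk C t r Rl x y
  form : ∀ x' ∈ Q, ∀ y', Lk C t r Rl x' y' → (x * x' = x' * x ↔ (16 : ℤ) ∣ dt y y')
  sq : x * x = 1 ↔ (32 : ℤ) ∣ dt y y

/-- every element of `Q` has a good vector -/
theorem exists_gd {x : Γ} (hx : x ∈ Q) : ∃ y, Gd C Q t l r Rl x y := by
  let N : Subgroup Γ :=
    { carrier := {x | x ∈ Q ∧ ∃ y, Gd C Q t l r Rl x y}
      one_mem' := by
        refine ⟨Q.one_mem, 0, (Cfsg.Agent.BabyM.CoTwoMod.evn l).zero_mem, lk_one, fun x' _ y' _ => ?_, ?_⟩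
        · rw [dt_comm, dt_zero_right]; simp
        · rw [dt_zero_right]; simp
      mul_mem' := by
        rintro a b ⟨ha, y, gy⟩ ⟨hb, w, gw⟩
        refine ⟨Q.mul_mem ha hb, y + w, (Cfsg.Agent.BabyM.CoTwoMod.evn l).add_mem gy.evn gw.evn,
          h.lk_mul ha hb gy.lk gw.lk, fun x' hx' y' hy' => ?_, ?_⟩
        · rw [h.comm_mul_iff ha hb hx', gy.form x' hx' y' hy', gw.form x' hx' y' hy', dt_add_left,
            par_add (eight_dvd_dt _ _) (eight_dvd_dt _ _)]
        · have h0 : dt (y + w) (y + w) = dt y y + 2 * dt y w + dt w w := by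
            rw [dt_add_left, dt_add_right, dt_add_right, dt_comm w y]; ring
          have h1 := gy.form b hb w gw.lk
          have h2 := eight_dvd_dt y w
          have hsq : ∀ a : leechLattice, (16 : ℤ) ∣ dt a a := fun a => by
            have := Cfsg.Agent.Leech.Basic.sixteen_dvd_sqNorm a.2
            rwa [norm_eq] at this
          have h3 := hsq y
          have h4 := hsq w
          have hy := gy.sq
          have hw := gw.sq
          have hza := h.z_comm a (h.Q_le ha)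
          have hzb := h.z_comm b (h.Q_le hb)
          rw [h0]
          -- `(a b)² = a² b² [.,.]`
          rcases h.comm a ha b hb with e | e
          · have h5 : (16 : ℤ) ∣ dt y w := h1.1 e
            have h6 : a * b * (a * b) = (a * a) * (b * b) := by
              calc a * b * (a * b) = a * (b * a) * b := by group
                _ = a * (a * b) * b := by rw [e]
                _ = (a * a) * (b * b) := by group
            rw [h6]
            rcases h.sq a ha with ea | ea <;> rcases h.sq b hb with eb | eb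
            · have h7 := hy.1 ea
              have h8 := hw.1 eb
              rw [ea, eb, one_mul]
              exact iff_of_true rfl (by omega)
            · have h7 := hy.1 ea
              have h8 : ¬ (32 : ℤ) ∣ dt w w := fun e' => h.z_ne (eb ▸ hw.2 e')
              rw [ea, eb, one_mul]
              exact iff_of_false h.z_ne (by omega)
            · have h7 : ¬ (32 : ℤ) ∣ dt y y := fun e' => h.z_ne (ea ▸ hy.2 e')
              have h8 := hw.1 eb
              rw [ea, eb, mul_one]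
              exact iff_of_false h.z_ne (by omega)
            · have h7 : ¬ (32 : ℤ) ∣ dt y y := fun e' => h.z_ne (ea ▸ hy.2 e')
              have h8 : ¬ (32 : ℤ) ∣ dt w w := fun e' => h.z_ne (eb ▸ hw.2 e')
              rw [ea, eb, h.z_sq]
              exact iff_of_true rfl (by omega)
          · have h5 : ¬ (16 : ℤ) ∣ dt y w := by
              intro e'
              have e2 := h1.2 e'
              rw [e2] at e
              exact h.z_ne (mul_left_cancel (a := b * a) (by rw [← e, mul_one]))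
            have h6 : a * b * (a * b) = (a * a) * (b * b) * z := by
              have e3 : b * a = a * b * z := by
                rw [e, mul_assoc, h.z_sq, mul_one]
              calc a * b * (a * b) = a * (b * a) * b := by group
                _ = a * (a * b * z) * b := by rw [e3]
                _ = (a * a) * b * (z * b) := by group
                _ = (a * a) * b * (b * z) := by rw [hzb]
                _ = (a * a) * (b * b) * z := by group
            rw [h6]
            rcases h.sq a ha with ea | ea <;> rcases h.sq b hb with eb | eb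
            · have h7 := hy.1 ea
              have h8 := hw.1 eb
              rw [ea, eb, one_mul, one_mul]
              exact iff_of_false h.z_ne (by omega)
            · have h7 := hy.1 ea
              have h8 : ¬ (32 : ℤ) ∣ dt w w := fun e' => h.z_ne (eb ▸ hw.2 e')
              rw [ea, eb, one_mul, h.z_sq]
              exact iff_of_true rfl (by omega)
            · have h7 : ¬ (32 : ℤ) ∣ dt y y := fun e' => h.z_ne (ea ▸ hy.2 e')
              have h8 := hw.1 eb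
              rw [ea, eb, mul_one, h.z_sq]
              exact iff_of_true rfl (by omega)
            · have h7 : ¬ (32 : ℤ) ∣ dt y y := fun e' => h.z_ne (ea ▸ hy.2 e')
              have h8 : ¬ (32 : ℤ) ∣ dt w w := fun e' => h.z_ne (eb ▸ hw.2 e')
              rw [ea, eb, h.z_sq, one_mul]
              exact iff_of_false h.z_ne (by omega)
      inv_mem' := by
        rintro a ⟨ha, y, gy⟩
        refine ⟨Q.inv_mem ha, y, gy.evn, lk_inv gy.lk, fun x' hx' y' hy' => ?_, ?_⟩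
        · rw [← gy.form x' hx' y' hy']
          constructor
          · intro e
            calc a * x' = a * (x' * a⁻¹) * a := by group
              _ = a * (a⁻¹ * x') * a := by rw [e]
              _ = x' * a := by group
          · intro e
            calc a⁻¹ * x' = a⁻¹ * (x' * a) * a⁻¹ := by group
              _ = a⁻¹ * (a * x') * a⁻¹ := by rw [e]
              _ = x' * a⁻¹ := by group
        · rw [← gy.sq, ← mul_inv_rev, inv_eq_one] }
  have hNQ : N ≤ Q := fun x hx => hx.1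
  have hN : ∀ g ∈ C, ∀ n ∈ N, g * n * g⁻¹ ∈ N := by
    rintro k hk n ⟨hn, y, gy⟩
    obtain ⟨d, hd⟩ := h.ex k hk
    refine ⟨h.norm k hk n hn, d • y, smul_mem_evn (h.fix _ _ hd) gy.evn, h.lk_conj gy.lk hk hd,
      fun x' hx' y' hy' => ?_, ?_⟩
    · have hk' := C.inv_mem hk
      have hd' := h.inv _ _ hd
      have h2 := gy.form (k⁻¹ * x' * k⁻¹⁻¹) (h.norm _ hk' x' hx') (d⁻¹ • y') (h.lk_conj hy' hk' hd')
      have h3 : dt (d • y) y' = dt y (d⁻¹ • y') := by
        rw [← dt_smul d y, smul_inv_smul]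
      rw [h3, ← h2]
      constructor
      · intro e
        calc n * (k⁻¹ * x' * k⁻¹⁻¹) = k⁻¹ * (k * n * k⁻¹ * x') * k := by group
          _ = k⁻¹ * (x' * (k * n * k⁻¹)) * k := by rw [e]
          _ = k⁻¹ * x' * k⁻¹⁻¹ * n := by group
      · intro e
        calc k * n * k⁻¹ * x' = k * (n * (k⁻¹ * x' * k⁻¹⁻¹)) * k⁻¹ := by group
          _ = k * (k⁻¹ * x' * k⁻¹⁻¹ * n) * k⁻¹ := by rw [e]
          _ = x' * (k * n * k⁻¹) := by group
    · rw [dt_smul, ← gy.sq]
      constructor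
      · intro e
        calc n * n = k⁻¹ * (k * n * k⁻¹ * (k * n * k⁻¹)) * k := by group
          _ = 1 := by rw [e]; group
      · intro e
        calc k * n * k⁻¹ * (k * n * k⁻¹) = k * (n * n) * k⁻¹ := by group
          _ = 1 := by rw [e]; group
  have htN : t ∈ N := by
    refine ⟨h.t_mem, r, h.r_mem, h.lk_t, fun x' _ y' hy' => ?_, ?_⟩
    · have h2 := hy' 1 C.one_mem 1 h.one
      rw [one_mul, inv_one, mul_one, one_smul] at h2
      rw [dt_comm, ← h2]
      exact eq_comm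
    · rw [h.dr]
      exact iff_of_true h.t_sq (dvd_refl _)
  rcases h.irr N hNQ hN with h1 | h1
  · exfalso
    rcases h1 t htN with e | e
    · exact h.t_ne e
    · exact h.t_ne_z e
  · have : x ∈ N := by rw [h1]; exact hx
    exact this.2

/-- all vectors over `x` are good -/
theorem sq_iff {x : Γ} (hx : x ∈ Q) {y : leechLattice} (hy : y ∈ evn l) (h1 : Lk C t r Rl x y) :
    x * x = 1 ↔ (32 : ℤ) ∣ dt y y := by
  obtain ⟨w, gw⟩ := h.exists_gd hx
  have h2 := h.sub_mem_rad hy gw.evn h1 gw.lk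
  rw [gw.sq, ← h.norm_add_rad gw.evn h2, add_sub_cancel]

/-- every vector of `evn l` lies under an element of `Q` -/
theorem exists_x {y : leechLattice} (hy : y ∈ evn l) : ∃ x ∈ Q, Lk C t r Rl x y := by
  let U : AddSubgroup leechLattice :=
    { carrier := {y | y ∈ evn l ∧ ∃ x ∈ Q, Lk C t r Rl x y}
      add_mem' := by
        rintro a b ⟨ha, x, hx, hxa⟩ ⟨hb, x', hx', hxb⟩
        exact ⟨(evn l).add_mem ha hb, x * x', Q.mul_mem hx hx', h.lk_mul hx hx' hxa hxb⟩
      zero_mem' := ⟨(evn l).zero_mem, 1, Q.one_mem, lk_one⟩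
      neg_mem' := by
        rintro a ⟨ha, x, hx, hxa⟩
        exact ⟨(evn l).neg_mem ha, x, hx, lk_neg hxa⟩ }
  have h1 : rad l ≤ U := fun y hy => ⟨rad_le_evn l h.dl hy, 1, Q.one_mem,
    h.lk_of_sub lk_one (by rwa [sub_zero])⟩
  rcases irreducible l h.dl U h1 (fun y hy => hy.1) (by
    rintro d hd y ⟨hy, x, hx, hxy⟩
    obtain ⟨k, hk, hkd⟩ := h.onto d hd
    exact ⟨smul_mem_evn hd hy, k * x * k⁻¹, h.norm k hk x hx, h.lk_conj hxy hk hkd⟩) with h2 | h2
  · exfalso
    have h3 : r ∈ U := ⟨h.r_mem, t, h.t_mem, h.lk_t⟩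
    rw [h2] at h3
    rcases h.eq_of_rad h.t_mem h3 h.lk_t with e | e
    · exact h.t_ne e
    · exact h.t_ne_z e
  · have : y ∈ U := by rw [h2]; exact hy
    exact this.2

/-- the commutator `[q, x]` lies over `y - c y` -/
theorem lk_comm {x : Γ} (hx : x ∈ C) {c : Co0} (hc : Rl x c) {q : Γ} (hq : q ∈ Q) {y : leechLattice}
    (hy : Lk C t r Rl q y) : Lk C t r Rl (q * x * q⁻¹ * x⁻¹) (y - c • y) := by
  have h1 := h.lk_mul hq (h.norm x hx _ (Q.inv_mem hq)) hy (lk_neg (h.lk_conj (lk_inv hy) hx hc))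
  have e : q * (x * q⁻¹ * x⁻¹) = q * x * q⁻¹ * x⁻¹ := by group
  rw [e] at h1
  rwa [sub_eq_add_neg]

/-- `Rl` is functional. -/
theorem rl_unique {x : Γ} {c c' : Co0} (h1 : Rl x c) (h2 : Rl x c') : c = c' := by
  have h3 := h.mul _ _ _ _ (h.inv _ _ h1) h2
  rw [inv_mul_cancel] at h3
  exact inv_mul_eq_one.1 (h.triv 1 Q.one_mem _ h3)

/-- the element of `Co₀` of an element with square in `Q` -/
theorem inv_of_sq {x : Γ} (hx : x ∈ C) (hxQ : x ∉ Q) (hxx : x * x ∈ Q) {c : Co0} (hc : Rl x c) :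
    c * c = 1 ∧ c ≠ 1 := by
  refine ⟨h.triv _ hxx _ (h.mul _ _ _ _ hc hc), ?_⟩
  rintro rfl
  exact hxQ (h.ker x hx hc)

/-- **Condition (R).** -/
theorem rk (hm : ∀ g : Co0, g • l = l → g * g = 1 → g ≠ 1 → ∀ c d : leechLattice, ∃ x ∈ evn l,
      g • x - x ∉ rad l ∧ g • x - x - c ∉ rad l ∧ g • x - x - d ∉ rad l ∧ g • x - x - (c + d) ∉ rad l)
    {x : Γ} (hx : x ∈ C) (hxQ : x ∉ Q) (hxx : x * x ∈ Q) : LargeBad.Rk Q z x := by
  intro c hc d hd
  obtain ⟨g, hg⟩ := h.ex x hx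
  obtain ⟨hgg, hg1⟩ := h.inv_of_sq hx hxQ hxx hg
  obtain ⟨γ, gγ⟩ := h.exists_gd hc
  obtain ⟨δ, gδ⟩ := h.exists_gd hd
  obtain ⟨y, hy, h1, h2, h3, h4⟩ := hm g (h.fix _ _ hg) hgg hg1 (-γ) (-δ)
  obtain ⟨q, hq, hqy⟩ := h.exists_x hy
  refine ⟨q, hq, fun w hw => ?_⟩
  have hev : y - g • y ∈ evn l := (evn l).sub_mem hy (h.smul_evn hg hy)
  have key : ∀ w' : Γ, ∀ v : leechLattice, v ∈ evn l → Lk C t r Rl w' v → g • y - y + v ∉ rad l →
      q * x * q⁻¹ * x⁻¹ ≠ w' := by
    intro w' v hv hwv hn e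
    have h5 := h.lk_comm hx hg hq hqy
    rw [e] at h5
    have h6 := h.sub_mem_rad hev hv h5 hwv
    apply hn
    have h7 := (rad l).neg_mem h6
    have h8 : -(y - g • y - v) = g • y - y + v := by abel
    rwa [h8] at h7
  have hz := h.lk_z
  have mz : ∀ {w' : Γ} {v : leechLattice}, w' ∈ Q → Lk C t r Rl w' v → Lk C t r Rl (w' * z) v := by
    intro w' v hw' hv
    have := h.lk_mul hw' h.z_mem hv hz
    rwa [add_zero] at this
  have e1 : g • y - y + 0 ∉ rad l := by rwa [add_zero]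
  have e2 : g • y - y + γ ∉ rad l := by rwa [sub_neg_eq_add] at h2
  have e3 : g • y - y + δ ∉ rad l := by rwa [sub_neg_eq_add] at h3
  have e4 : g • y - y + (γ + δ) ∉ rad l := by
    have : g • y - y - (-γ + -δ) = g • y - y + (γ + δ) := by abel
    rwa [this] at h4
  have z0 := (evn l).zero_mem
  have hcd := h.lk_mul hc hd gγ.lk gδ.lk
  have hcdm := (evn l).add_mem gγ.evn gδ.evn
  subst hw
  exact ⟨key _ _ z0 lk_one e1, key _ _ z0 hz e1, key _ _ gγ.evn gγ.lk e2, key _ _ gγ.evn (mz hc gγ.lk) e2,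
    key _ _ gδ.evn gδ.lk e3, key _ _ gδ.evn (mz hd gδ.lk) e3, key _ _ hcdm hcd e4,
    key _ _ hcdm (mz (Q.mul_mem hc hd) hcd) e4⟩

/-- `a, b` involutions of `C` with `C_Q(a) ≤ C_Q(b)`: the consequences in the lattice -/
theorem pair {a b : Γ} (ha : a ∈ C) (hb : b ∈ C) (haa : a * a = 1) (hc : ∀ q ∈ Q, a * q = q * a → b * q = q * b)
    {A B : Co0} (hA : Rl a A) (hB : Rl b B) :
    (∀ y ∈ evn l, ∀ y' ∈ evn l, A • y - y ∈ rad l → A • y' - y' ∈ rad l →
      B • y - y ∈ rad l ∨ B • y' - y' ∈ rad l ∨ B • (y + y') - (y + y') ∈ rad l) ∧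
    (∀ y ∈ evn l, (32 : ℤ) ∣ dt (A • y - y) (A • y - y) → B • (A • y - y) - (A • y - y) ∈ rad l) := by
  -- an element commuting with `a`
  have key : ∀ q ∈ Q, ∀ y ∈ evn l, Lk C t r Rl q y → a * q = q * a → B • y - y ∈ rad l := by
    intro q hq y hy hqy hqa
    have h1 := hc q hq hqa
    have h2 := h.lk_comm hb hB hq hqy
    have h3 : q * b * q⁻¹ * b⁻¹ = 1 := by rw [← h1]; group
    rw [h3] at h2
    have h4 := h.sub_mem_rad ((evn l).sub_mem hy (h.smul_evn hB hy)) (evn l).zero_mem h2 lk_one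
    have h5 := (rad l).neg_mem h4
    have h6 : -(y - B • y - 0) = B • y - y := by abel
    rwa [h6] at h5
  -- an element over a fixed vector
  have fx : ∀ q ∈ Q, ∀ y ∈ evn l, Lk C t r Rl q y → A • y - y ∈ rad l → q * a * q⁻¹ * a⁻¹ = 1 ∨
      q * a * q⁻¹ * a⁻¹ = z := by
    intro q hq y hy hqy hr
    have h2 := h.lk_comm ha hA hq hqy
    have hm : q * a * q⁻¹ * a⁻¹ ∈ Q := by
      have : q * a * q⁻¹ * a⁻¹ = q * (a * q⁻¹ * a⁻¹) := by group
      rw [this]
      exact Q.mul_mem hq (h.norm a ha _ (Q.inv_mem hq))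
    refine h.eq_of_rad hm ?_ h2
    have h5 := (rad l).neg_mem hr
    have h6 : -(A • y - y) = y - A • y := by abel
    rwa [h6] at h5
  have cm : ∀ q : Γ, q * a * q⁻¹ * a⁻¹ = 1 → a * q = q * a := by
    intro q e
    calc a * q = (q * a * q⁻¹ * a⁻¹) * (a * q) := by rw [e, one_mul]
      _ = q * a := by group
  refine ⟨fun y hy y' hy' hr hr' => ?_, fun y hy h32 => ?_⟩
  · obtain ⟨q, hq, hqy⟩ := h.exists_x hy
    obtain ⟨q', hq', hqy'⟩ := h.exists_x hy'
    rcases fx q hq y hy hqy hr with e | e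
    · exact Or.inl (key q hq y hy hqy (cm q e))
    rcases fx q' hq' y' hy' hqy' hr' with e' | e'
    · exact Or.inr (Or.inl (key q' hq' y' hy' hqy' (cm q' e')))
    · refine Or.inr (Or.inr (key (q * q') (Q.mul_mem hq hq') (y + y') ((evn l).add_mem hy hy')
        (h.lk_mul hq hq' hqy hqy') (cm _ ?_)))
      have hzq := h.z_comm q (h.Q_le hq)
      calc q * q' * a * (q * q')⁻¹ * a⁻¹ = q * (q' * a * q'⁻¹ * a⁻¹) * (a * q⁻¹ * a⁻¹) := by group
        _ = q * z * (a * q⁻¹ * a⁻¹) := by rw [e']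
        _ = z * (q * a * q⁻¹ * a⁻¹) := by rw [hzq]; group
        _ = 1 := by rw [e, h.z_sq]
  · obtain ⟨q, hq, hqy⟩ := h.exists_x hy
    have hev : y - A • y ∈ evn l := (evn l).sub_mem hy (h.smul_evn hA hy)
    have hm : q * a * q⁻¹ * a⁻¹ ∈ Q := by
      have : q * a * q⁻¹ * a⁻¹ = q * (a * q⁻¹ * a⁻¹) := by group
      rw [this]
      exact Q.mul_mem hq (h.norm a ha _ (Q.inv_mem hq))
    have h1 := h.lk_comm ha hA hq hqy
    have h2 : (32 : ℤ) ∣ dt (y - A • y) (y - A • y) := by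
      have e : y - A • y = -(A • y - y) := by abel
      rw [e, dt_neg_left, dt_comm, dt_neg_left, neg_neg]
      exact h32
    have h3 := (h.sq_iff hm hev h1).2 h2
    set w := q * a * q⁻¹ * a⁻¹ with hw
    have ha' : a⁻¹ = a := inv_eq_of_mul_eq_one_left haa
    -- `a w a⁻¹ = w⁻¹ = w`
    have h4 : a * w = w⁻¹ * a := by
      rw [hw]
      calc a * (q * a * q⁻¹ * a⁻¹) = a * q * a * q⁻¹ * a := by rw [ha']; group
        _ = a * q * a⁻¹ * q⁻¹ * a := by rw [ha']
        _ = (q * a * q⁻¹ * a⁻¹)⁻¹ * a := by group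
    have h5 : w⁻¹ = w := inv_eq_of_mul_eq_one_left h3
    rw [h5] at h4
    have h6 := key w hm (y - A • y) hev h1 h4
    have h7 := (rad l).neg_mem h6
    have h8 : -(B • (y - A • y) - (y - A • y)) = B • (A • y - y) - (A • y - y) := by
      rw [smul_sub', smul_sub']; abel
    rwa [h8] at h7

/-- two commuting involutions -/
theorem comm_of {a b : Γ} (hab : a * b = b * a) {A B : Co0} (hA : Rl a A) (hB : Rl b B) : A * B = B * A := by
  have h1 := h.mul _ _ _ _ hA hB
  have h2 := h.mul _ _ _ _ hB hA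
  rw [← hab] at h2
  exact h.rl_unique h1 h2

end Brg

end Cfsg.Agent.OddHalf.D4.Spor.LatGlue
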