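import Cfsg.Agent.BabyM.Instance
import Cfsg.Agent.OddHalf.D4.Spor.LatGlue

/-!
# The bridge between `evn l₀ / rad l₀` and `Q/⟨z⟩` for the concrete `2^{1+22}.Co₂` (helper667)

`brg : LatGlue.Brg Inst.M.C Inst.M.Q Inst.M.z Inst.M.t₀ l₀ r₀ ThetaInst.Rel`.
-/

set_option autoImplicit false

namespace Cfsg.Agent.OddHalf.D4.Spor.BabyGlue

open Cfsg Cfsg.Agent.Leech.Basic Cfsg.Agent.Leech.Trans Cfsg.Agent.Leech.TransPair
open Cfsg.Agent.SporadicStructure.Co2RankThree Cfsg.Agent.BabyM.CoTwoMod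
open Cfsg.Agent.BabyM.Model Cfsg.Agent.BabyM.Conc Cfsg.Agent.BabyM.Co2GenStd Cfsg.Agent.BabyM.RepOf
  Cfsg.Agent.BabyM.RigidField Cfsg.Agent.BabyM.Rigid23Thm Cfsg.Agent.BabyM.Design Cfsg.Agent.BabyM

section

variable {W : Type} [AddCommGroup W] [Module ℚ W] {M : BData W} {K₀ : Type} [Group K₀] (A : BAll M K₀)

include A

theorem e₀_ne : M.e₀ ≠ - M.e₀ := by
  intro h
  have h1 := A.rep.e₀_norm
  have h2 : M.F M.e₀ M.e₀ = M.F (- M.e₀) M.e₀ := by rw [← h]
  rw [LinearMap.BilinForm.neg_left, h1] at h2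
  norm_num at h2

/-- `t₀` commutes with its conjugate iff it fixes the `e`-vector. -/
theorem comm_iff {g : W ≃ₗ[ℚ] W} (hg : g ∈ M.C) :
    g * M.t₀ * g⁻¹ * M.t₀ = M.t₀ * (g * M.t₀ * g⁻¹) ↔ M.t₀ (g M.e₀) = g M.e₀ := by
  have hq := A.grp.Q_normal' g hg _ A.rep.t₀_mem
  have h1 : (g⁻¹ * M.t₀ * g) * M.t₀ = M.t₀ * (g⁻¹ * M.t₀ * g) ↔
      g * M.t₀ * g⁻¹ * M.t₀ = M.t₀ * (g * M.t₀ * g⁻¹) := by
    constructor
    · intro e
      calc g * M.t₀ * g⁻¹ * M.t₀ = g * (M.t₀ * (g⁻¹ * M.t₀ * g)) * g⁻¹ := by group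
        _ = g * (g⁻¹ * M.t₀ * g * M.t₀) * g⁻¹ := by rw [e]
        _ = M.t₀ * (g * M.t₀ * g⁻¹) := by group
    · intro e
      calc (g⁻¹ * M.t₀ * g) * M.t₀ = g⁻¹ * (M.t₀ * (g * M.t₀ * g⁻¹)) * g := by group
        _ = g⁻¹ * (g * M.t₀ * g⁻¹ * M.t₀) * g := by rw [e]
        _ = M.t₀ * (g⁻¹ * M.t₀ * g) := by group
  have h2 : (g⁻¹ * M.t₀ * g) M.e₀ = M.e₀ ↔ M.t₀ (g M.e₀) = g M.e₀ := by
    rw [LinearEquiv.mul_apply, LinearEquiv.mul_apply]
    constructor
    · intro e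
      have := congrArg g e
      rwa [apply_inv_self'] at this
    · intro e
      rw [e, inv_apply_self']
  rw [← h1, ← h2]
  constructor
  · exact A.rep.Q_e₀_pos _ hq
  · intro e
    by_contra hne
    have := A.rep.Q_e₀_neg _ hq hne
    rw [e] at this
    exact e₀_ne A this

/-- the two kinds of conjugates of `t₀` -/
theorem fix_of_F {g : W ≃ₗ[ℚ] W} (hg : g ∈ M.C) (h : M.F (g M.u₀) M.u₀ = 1 ∨ M.F (g M.u₀) M.u₀ = -1) :
    M.t₀ (g M.e₀) = g M.e₀ := by
  rcases h with h | h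
  · obtain ⟨n, hn, hnu, hne⟩ := A.neg_parts
    have h1 := (A.e_mem_P_aux (g * n) (M.C.mul_mem hg hn) (by
      rw [LinearEquiv.mul_apply, hnu, map_neg, LinearMap.BilinForm.neg_left, h])).2
    have h2 := A.t₀_fix_P _ h1
    rw [LinearEquiv.mul_apply, hne, map_neg, map_neg] at h2
    exact neg_injective h2
  · exact A.t₀_fix_P _ (A.e_mem_P_aux g hg h).2

/-- **The star condition.** -/
theorem star {l r₀ : leechLattice} {ω : leechLattice →+ W} (h : Hyp23 M l r₀ ω) {g : W ≃ₗ[ℚ] W} (hg : g ∈ M.C)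
    {c : Co0} (hc : c • l = l) (hgc : ∀ x : leechLattice, g (ω x) = ω (c • x)) :
    g * M.t₀ * g⁻¹ * M.t₀ = M.t₀ * (g * M.t₀ * g⁻¹) ↔ (16 : ℤ) ∣ dt (c • r₀) r₀ := by
  rw [comm_iff A hg]
  have hcr := smul_RR hc h.r₀_mem
  have hgu : g M.u₀ = ω (vv l (c • r₀)) := by
    rw [h.u₀_eq, hgc, smul_vv, hc]
  have hF : M.F (g M.u₀) M.u₀ = (dt (c • r₀) r₀ : ℚ) / 8 - 1 := by
    rw [hgu, h.u₀_eq, h.form_vv hcr h.r₀_mem]
    rfl
  have hll : dt l l = 32 := by
    have := h.norm_l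
    rw [← dotInt_self] at this
    exact this
  have hrr : dt r₀ r₀ = 32 := by
    have := h.r₀_mem.2.1
    rw [← dotInt_self] at this
    exact this
  have hlr : dt r₀ l = 16 := h.r₀_mem.2.2
  have hcc : dt (c • r₀) (c • r₀) = 32 := by rw [dt_smul, hrr]
  have hcl : dt (c • r₀) l = 16 := hcr.2.2
  constructor
  · intro e
    have h3 := A.rep.t₀_e g hg e
    have hs : (g M.e₀ = M.e₀ ∨ g M.e₀ = - M.e₀) → (16 : ℤ) ∣ dt (c • r₀) r₀ := by
      intro hs
      rcases A.rep.stab_e₀ g hg hs with h4 | h4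
      · rw [h4, A.rep.u₀_norm] at hF
        have h5 : (dt (c • r₀) r₀ : ℚ) = 32 := by linarith
        have h6 : dt (c • r₀) r₀ = 32 := by exact_mod_cast h5
        rw [h6]; norm_num
      · rw [h4, LinearMap.BilinForm.neg_left, A.rep.u₀_norm] at hF
        have h5 : (dt (c • r₀) r₀ : ℚ) = -16 := by linarith
        have h6 : dt (c • r₀) r₀ = -16 := by exact_mod_cast h5
        rw [h6]; norm_num
    rcases h3 with h3 | h3 | h3 | h3
    · exact hs (Or.inl h3)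
    · exact hs (Or.inr h3)
    · rw [h3] at hF
      have h5 : (dt (c • r₀) r₀ : ℚ) = 16 := by linarith
      have h6 : dt (c • r₀) r₀ = 16 := by exact_mod_cast h5
      rw [h6]
    · rw [h3] at hF
      have h5 : (dt (c • r₀) r₀ : ℚ) = 0 := by linarith
      have h6 : dt (c • r₀) r₀ = 0 := by exact_mod_cast h5
      rw [h6]; norm_num
  · intro h16
    -- the possible values
    have sq0 : ∀ a : leechLattice, 0 ≤ dt a a := fun a => by
      show 0 ≤ dotInt (a : GolayPt → ℤ) (a : GolayPt → ℤ)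
      unfold dotInt
      exact Finset.sum_nonneg fun i _ => mul_self_nonneg _
    have eq0 : ∀ a : leechLattice, dt a a = 0 → a = 0 := fun a ha => by
      have h1 : ∑ i, (a : GolayPt → ℤ) i * (a : GolayPt → ℤ) i = 0 := ha
      rw [Finset.sum_eq_zero_iff_of_nonneg (fun i _ => mul_self_nonneg _)] at h1
      apply Subtype.ext
      funext i
      exact mul_self_eq_zero.1 (h1 i (Finset.mem_univ i))
    have n1 : dt (c • r₀ - r₀) (c • r₀ - r₀) = 64 - 2 * dt (c • r₀) r₀ := by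
      rw [sub_eq_add_neg (c • r₀) r₀]
      simp only [dt_add_left, dt_add_right, dt_neg_left, dt_neg_right]
      rw [hcc, hrr, dt_comm r₀ (c • r₀)]
      ring
    have n2 : dt (l - c • r₀ - r₀) (l - c • r₀ - r₀) = 32 + 2 * dt (c • r₀) r₀ := by
      have e : l - c • r₀ - r₀ = l + (-(c • r₀) + -r₀) := by abel
      rw [e]
      simp only [dt_add_left, dt_add_right, dt_neg_left, dt_neg_right]
      rw [hll, hcc, hrr, dt_comm l (c • r₀), dt_comm l r₀, hcl, hlr, dt_comm r₀ (c • r₀)]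
      ring
    have p1 := sq0 (c • r₀ - r₀)
    have p2 := sq0 (l - c • r₀ - r₀)
    rw [n1] at p1
    rw [n2] at p2
    have hv : dt (c • r₀) r₀ = 32 ∨ dt (c • r₀) r₀ = -16 ∨ dt (c • r₀) r₀ = 0 ∨ dt (c • r₀) r₀ = 16 := by
      omega
    have hfix : (g M.e₀ = M.e₀ ∨ g M.e₀ = - M.e₀) → M.t₀ (g M.e₀) = g M.e₀ := by
      have h0 : M.t₀ M.e₀ = M.e₀ := A.rep.Q_e₀_pos _ A.rep.t₀_mem rfl
      rintro (e | e)
      · rw [e, h0]
      · rw [e, map_neg, h0]
    rcases hv with hv | hv | hv | hv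
    · have h7 : c • r₀ = r₀ := by
        have := eq0 _ (by rw [n1, hv]; norm_num)
        exact sub_eq_zero.1 this
      apply hfix
      apply A.rep.stab_u₀ g hg
      left
      rw [hgu, h7, h.u₀_eq]
    · have h7 : c • r₀ = l - r₀ := by
        have := eq0 _ (by rw [n2, hv]; norm_num)
        have h8 : l - c • r₀ = r₀ := sub_eq_zero.1 this
        have h9 : l - (l - c • r₀) = l - r₀ := by rw [h8]
        rwa [sub_sub_cancel] at h9
      apply hfix
      apply A.rep.stab_u₀ g hg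
      right
      rw [hgu, h7, h.u₀_eq, vv_sub, map_neg]
    · exact fix_of_F A hg (Or.inr (by rw [hF, hv]; norm_num))
    · exact fix_of_F A hg (Or.inl (by rw [hF, hv]; norm_num))

end

/-- the bridge -/
theorem brg : LatGlue.Brg Inst.M.C Inst.M.Q Inst.M.z Inst.M.t₀ l₀ HeadHyp.r₀ ThetaInst.Rel where
  Q_le := Instance.all.grp.Q_le
  z_mem := Instance.all.grp.z_mem
  z_ne := Instance.all.grp.z_ne
  z_sq := Instance.all.grp.z_sq
  z_comm := Instance.all.grp.z_comm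
  norm := Instance.all.grp.Q_normal
  comm := Instance.all.grp.Q_comm
  sq := Instance.all.grp.Q_sq
  center := Instance.all.grp.Q_center
  irr := Instance.all.grp.Q_irred
  t_mem := Instance.all.rep.t₀_mem
  t_ne := Instance.all.rep.t₀_ne
  t_ne_z := Instance.all.rep.t₀_ne_z
  t_sq := Instance.all.rep.t₀_sq
  dl := GroupInst.dt_l₀
  dr := by
    have := HeadHyp.r₀_mem.2.1
    rw [← dotInt_self] at this
    exact this
  dlr := by
    have : dt HeadHyp.r₀ l₀ = 16 := HeadHyp.r₀_mem.2.2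
    rw [dt_comm, this]
  ex := ThetaHom.rel_C
  fix := fun _ _ h => h.1
  one := ThetaInst.Rel.one
  mul := fun _ _ _ _ h h' => h.mul h'
  inv := fun _ _ h => h.inv
  onto := ThetaHom.onto
  ker := GroupInst.ker_rel KLink.link
  triv := fun g hg c hc => hc.unique ((GroupInst.rel_iff KLink.link (Instance.all.grp.Q_le hg)).2 hg)
  star := by
    intro g hg c hc
    refine star Instance.all HeadHyp.hyp23 hg hc.1 fun x => ?_
    have h1 := hc.2 x
    rw [GroupInst.ω_eq, GroupInst.ω_eq, map_neg, h1]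

end Cfsg.Agent.OddHalf.D4.Spor.BabyGlue
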