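import Cfsg.Agent.OddHalf.D4.Spor.BabyGlue
import Cfsg.Agent.KFacts.Baby.Inst

/-!
# The conditions (R) and (LQ) of `LargeBad` for the Baby Monster, from two facts about `Co₀` (helper667)

`Move l`: the set `(g - 1) evn l` modulo `rad l` has more than `4` elements modulo any `⟨c, d⟩`.
`NoTriple l`: no four-group in the stabiliser of `l` such that the three pairs satisfy `Pr`.
`hypR : Move l₀ → NoTriple l₀ → LargeBad.HypR (PP Inst.M) (zz A)`.
-/

set_option autoImplicit false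

namespace Cfsg.Agent.OddHalf.D4.Spor.BabyHyp

open Cfsg Cfsg.Agent.BabyM Cfsg.Agent.BabyM.Model Cfsg.Agent.BabyU.ClosModel Cfsg.Agent.BabyU.ClosLane
open Cfsg.Agent.SporadicStructure.Co2RankThree Cfsg.Agent.BabyM.CoTwoMod Cfsg.Agent.BabyM.Co2GenStd

/-- the fact about `Co₀` behind (R) -/
def Move (l : leechLattice) : Prop :=
  ∀ g : Co0, g • l = l → g * g = 1 → g ≠ 1 → ∀ c d : leechLattice, ∃ x ∈ evn l,
      g • x - x ∉ rad l ∧ g • x - x - c ∉ rad l ∧ g • x - x - d ∉ rad l ∧ g • x - x - (c + d) ∉ rad l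

/-- what `C_Q(a) ≤ C_Q(b)` gives for the elements `A`, `B` of `Co₀` -/
def Pr (l : leechLattice) (A B : Co0) : Prop :=
  (∀ y ∈ evn l, ∀ y' ∈ evn l, A • y - y ∈ rad l → A • y' - y' ∈ rad l →
      B • y - y ∈ rad l ∨ B • y' - y' ∈ rad l ∨ B • (y + y') - (y + y') ∈ rad l) ∧
    (∀ y ∈ evn l, (32 : ℤ) ∣ dt (A • y - y) (A • y - y) → B • (A • y - y) - (A • y - y) ∈ rad l)

/-- the fact about `Co₀` behind (LQ) -/
def NoTriple (l : leechLattice) : Prop :=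
  ∀ g h : Co0, g • l = l → h • l = l → g * g = 1 → h * h = 1 → g * h = h * g → g ≠ 1 → h ≠ 1 → g * h ≠ 1 →
    Pr l g h → Pr l h g → Pr l g (g * h) → Pr l (g * h) g → Pr l h (g * h) → Pr l (g * h) h → False

theorem mem_PP_of {q : Cfsg.Agent.BabyM.Conc.V ≃ₗ[ℚ] Cfsg.Agent.BabyM.Conc.V} (hq : q ∈ Inst.M.Q) :
    (⟨q, A.C_le_G (A.grp.Q_le hq)⟩ : Inst.M.G) ∈ PP Inst.M := mem_PP.2 hq

/-- **(R)** -/
theorem r (hm : Move l₀) : ∀ x : Inst.M.G, x * zz A = zz A * x → x ∉ PP Inst.M → x * x ∈ PP Inst.M →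
    LargeBad.Rk (PP Inst.M) (zz A) x := by
  intro x hx hxQ hxx c hc d hd
  obtain ⟨q, hq, h⟩ := BabyGlue.brg.rk hm (mem_C_of A hx) (fun h => hxQ (mem_PP.2 h)) (mem_PP.1 hxx) c (mem_PP.1 hc)
    d (mem_PP.1 hd)
  refine ⟨⟨q, A.C_le_G (A.grp.Q_le hq)⟩, mem_PP_of hq, fun y hy => ?_⟩
  obtain ⟨h1, h2, h3, h4, h5, h6, h7, h8⟩ := h y (congrArg Subtype.val hy)
  exact ⟨fun e => h1 (congrArg Subtype.val e), fun e => h2 (congrArg Subtype.val e),
    fun e => h3 (congrArg Subtype.val e), fun e => h4 (congrArg Subtype.val e),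
    fun e => h5 (congrArg Subtype.val e), fun e => h6 (congrArg Subtype.val e),
    fun e => h7 (congrArg Subtype.val e), fun e => h8 (congrArg Subtype.val e)⟩

/-- **(LQ)** -/
theorem lq (hn : NoTriple l₀) : ∀ a b : Inst.M.G, a * zz A = zz A * a → b * zz A = zz A * b → a * a = 1 →
    b * b = 1 → a * b = b * a → a ∉ PP Inst.M → b ∉ PP Inst.M → a * b ∉ PP Inst.M →
    (∀ q ∈ PP Inst.M, a * q = q * a → b * q = q * b) → (∀ q ∈ PP Inst.M, b * q = q * b → a * q = q * a) →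
    (∀ q ∈ PP Inst.M, a * b * q = q * (a * b) → a * q = q * a) → False := by
  intro a b haz hbz haa hbb hab haQ hbQ habQ h1 h2 h3
  have haC := mem_C_of A haz
  have hbC := mem_C_of A hbz
  have habC := Inst.M.C.mul_mem haC hbC
  have br := BabyGlue.brg
  obtain ⟨g, hg⟩ := br.ex _ haC
  obtain ⟨k, hk⟩ := br.ex _ hbC
  have hgk := br.mul _ _ _ _ hg hk
  have hab2 : (a * b) * (a * b) = 1 := by
    calc (a * b) * (a * b) = a * (b * a) * b := by group
      _ = a * (a * b) * b := by rw [hab]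
      _ = (a * a) * (b * b) := by group
      _ = 1 := by rw [haa, hbb, one_mul]
  have cc : ∀ {x : Inst.M.G}, x * x = 1 → (x : Cfsg.Agent.BabyM.Conc.V ≃ₗ[ℚ] Cfsg.Agent.BabyM.Conc.V) * x = 1 :=
    fun e => congrArg Subtype.val e
  have one : (1 : Cfsg.Agent.BabyM.Conc.V ≃ₗ[ℚ] Cfsg.Agent.BabyM.Conc.V) ∈ Inst.M.Q := Inst.M.Q.one_mem
  have i1 := br.inv_of_sq haC (fun h => haQ (mem_PP.2 h)) (by rw [cc haa]; exact one) hg
  have i2 := br.inv_of_sq hbC (fun h => hbQ (mem_PP.2 h)) (by rw [cc hbb]; exact one) hk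
  have i3 := br.inv_of_sq habC (fun h => habQ (mem_PP.2 h)) (by
    have := cc hab2
    rw [show ((a * b : Inst.M.G) : Cfsg.Agent.BabyM.Conc.V ≃ₗ[ℚ] Cfsg.Agent.BabyM.Conc.V) = a * b from rfl] at this
    rw [this]; exact one) hgk
  -- the transfer of the hypotheses
  have tr : ∀ x y : Inst.M.G, (∀ q ∈ PP Inst.M, x * q = q * x → y * q = q * y) →
      ∀ q ∈ Inst.M.Q, (x : Cfsg.Agent.BabyM.Conc.V ≃ₗ[ℚ] Cfsg.Agent.BabyM.Conc.V) * q = q * x → (y : Cfsg.Agent.BabyM.Conc.V ≃ₗ[ℚ] Cfsg.Agent.BabyM.Conc.V) * q = q * y := by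
    intro x y h q hq e
    exact congrArg Subtype.val (h ⟨q, A.C_le_G (A.grp.Q_le hq)⟩ (mem_PP_of hq) (Subtype.ext e))
  have mulc : ∀ q : Inst.M.G, a * q = q * a → b * q = q * b → a * b * q = q * (a * b) := by
    intro q e1 e2
    rw [mul_assoc, e2, ← mul_assoc, e1, mul_assoc]
  have hA : ∀ q ∈ PP Inst.M, a * q = q * a → a * b * q = q * (a * b) := fun q hq e => mulc q e (h1 q hq e)
  have hB : ∀ q ∈ PP Inst.M, b * q = q * b → a * b * q = q * (a * b) := fun q hq e => mulc q (h2 q hq e) e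
  have hC : ∀ q ∈ PP Inst.M, a * b * q = q * (a * b) → b * q = q * b := fun q hq e => h1 q hq (h3 q hq e)
  refine hn g k (br.fix _ _ hg) (br.fix _ _ hk) i1.1 i2.1 (br.comm_of (congrArg Subtype.val hab) hg hk) i1.2 i2.2 i3.2
    ?_ ?_ ?_ ?_ ?_ ?_
  · exact br.pair haC hbC (cc haa) (tr a b h1) hg hk
  · exact br.pair hbC haC (cc hbb) (tr b a h2) hk hg
  · exact br.pair haC habC (cc haa) (tr a (a * b) hA) hg hgk
  · exact br.pair habC haC (cc hab2) (tr (a * b) a h3) hgk hg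
  · exact br.pair hbC habC (cc hbb) (tr b (a * b) hB) hk hgk
  · exact br.pair habC hbC (cc hab2) (tr (a * b) b hC) hgk hk

end Cfsg.Agent.OddHalf.D4.Spor.BabyHyp
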