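import Cfsg.Agent.StdFi22.Rigid
import Cfsg.Agent.StdFi22.TLev
import Cfsg.Agent.R01.HermPlane
import Cfsg.Agent.R01.GlueAbs
import Cfsg.Agent.OddHalf.D8.Fi22.Opp

/-!
# ODD half, D4, `K = Fi22`: three commuting transpositions (helper368)

`main`: a subgroup normalised by `C(w)`, `w = a b c`, and containing no product of two commuting transpositions
centralises the transpositions commuting with `a`, `b`, `c`.
-/

set_option autoImplicit false
set_option linter.unusedSectionVars false

namespace Cfsg.Agent.OddHalf.D4.Spor.Fi22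

open Cfsg Cfsg.Agent.LieClassical.HermBasic Cfsg.Agent.ClassicalGeometry.UnitTransv
open Cfsg.Agent.SporadicStructure.UnitTwo
open Cfsg.Agent.R01.Lifts Cfsg.Agent.R01.PSUSix Cfsg.Agent.R01.Label Cfsg.Agent.R01.InvForm
open Cfsg.Agent.R01 Cfsg.Agent.R01.Start Cfsg.Agent.R01.FiFusion Cfsg.Agent.R01.FiFacts
open Cfsg.Agent.ClassicalGeometry.UnitAutBasic (tau pr pr_surjective pr_eq_of_scalar)
open Cfsg.Agent.StdFi22.TLev Cfsg.Agent.StdFi22.Rigid

section label

variable {P : Type*} [Group P] {F : Type*} [Field F] [Fintype F] {hF : Fintype.card F = 2 ^ 2}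
  {T : Set P} {q : P} {π : Subgroup.centralizer ({q} : Set P) →* PSU 6 F 2}
  {lift : (Fin 6 → F) → Subgroup.centralizer ({q} : Set P)}

/-- An element commuting with the labelled elements of a totally isotropic plane. -/
theorem sq_of_plane (L : Lab hF π (zel q) (zel q) lift) {u v w : Fin 6 → F} (hf : Fr3 u v w) {h : P}
    (hq : h * q = q * h)
    (hc : ∀ a b c : F, (a ≠ 0 ∨ b ≠ 0 ∨ c ≠ 0) →
      h * (lift (a • u + b • v + c • w) : P) = (lift (a • u + b • v + c • w) : P) * h) :
    h * h = 1 ∨ h * h = q := by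
  have hcomb := fun a b c a' b' c' => AllOfLab.Fr3.comb hF hf a b c a' b' c'
  have e1 : u = (1 : F) • u + (0 : F) • v + (0 : F) • w := by module
  have e2 : v = (0 : F) • u + (1 : F) • v + (0 : F) • w := by module
  have e3 : w = (0 : F) • u + (0 : F) • v + (1 : F) • w := by module
  obtain ⟨h', hh'⟩ : ∃ h' : Subgroup.centralizer ({q} : Set P), (h' : P) = h :=
    ⟨⟨h, Subgroup.mem_centralizer_singleton_iff.2 hq⟩, rfl⟩
  obtain ⟨A, hAπ⟩ := pr_surjective (π h')
  have eig : ∀ a b c : F, (a ≠ 0 ∨ b ≠ 0 ∨ c ≠ 0) →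
      ∃ k : F, k ≠ 0 ∧ act A (a • u + b • v + c • w) = k • (a • u + b • v + c • w) := by
    intro a b c hne
    have h0 := comb_ne hf hne
    have h1 := L.conj h' A (a • u + b • v + c • w) hAπ.symm h0 (hcomb _ _ _ _ _ _)
    have h2 : h' * lift (a • u + b • v + c • w) * h'⁻¹ = lift (a • u + b • v + c • w) := by
      apply Subtype.ext
      show (h' : P) * lift (a • u + b • v + c • w) * (h' : P)⁻¹ = lift (a • u + b • v + c • w)
      rw [hh', hc _ _ _ hne, mul_inv_cancel_right]
    rw [h2] at h1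
    obtain ⟨k, hk, h3⟩ := (L.lift_eq_iff (hcomb _ _ _ _ _ _) (by rw [herm_act, hcomb])
      h0 (Lab.act_ne_zero h0)).1 h1
    exact ⟨k, hk, h3⟩
  have z : (1 : F) ≠ 0 := one_ne_zero
  obtain ⟨ku, hku0, hku⟩ := eig 1 0 0 (Or.inl z)
  obtain ⟨kv, hkv0, hkv⟩ := eig 0 1 0 (Or.inr (Or.inl z))
  obtain ⟨kw, hkw0, hkw⟩ := eig 0 0 1 (Or.inr (Or.inr z))
  obtain ⟨k1, hk10, hk1⟩ := eig 1 1 0 (Or.inl z)
  obtain ⟨k2, hk20, hk2⟩ := eig 0 1 1 (Or.inr (Or.inl z))
  rw [← e1] at hku
  rw [← e2] at hkv
  rw [← e3] at hkw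
  have huv : ku = kv := by
    have h1 : act A ((1 : F) • u + (1 : F) • v + (0 : F) • w) = ku • u + kv • v := by
      have : (1 : F) • u + (1 : F) • v + (0 : F) • w = u + v := by module
      rw [this, act_add, hku, hkv]
    rw [h1] at hk1
    obtain ⟨h2, h3, -⟩ := hf.ind (ku - k1) (kv - k1) 0 (by
      have : (ku - k1) • u + (kv - k1) • v + (0 : F) • w = (ku • u + kv • v) -
        k1 • ((1 : F) • u + (1 : F) • v + (0 : F) • w) := by module
      rw [this, hk1, sub_self])
    rw [sub_eq_zero.1 h2, sub_eq_zero.1 h3]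
  have hvw : kv = kw := by
    have h1 : act A ((0 : F) • u + (1 : F) • v + (1 : F) • w) = kv • v + kw • w := by
      have : (0 : F) • u + (1 : F) • v + (1 : F) • w = v + w := by module
      rw [this, act_add, hkv, hkw]
    rw [h1] at hk2
    obtain ⟨-, h2, h3⟩ := hf.ind 0 (kv - k2) (kw - k2) (by
      have : (0 : F) • u + (kv - k2) • v + (kw - k2) • w = (kv • v + kw • w) -
        k2 • ((0 : F) • u + (1 : F) • v + (1 : F) • w) := by module
      rw [this, hk2, sub_self])
    rw [sub_eq_zero.1 h2, sub_eq_zero.1 h3]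
  rw [← hvw, ← huv] at hkw
  rw [← huv] at hkv
  have two := AllOfLab.two_eq_zero' hF
  have k3 : ku ^ 3 = 1 := pow_three hF hku0
  have orth : ∀ x y : Fin 6 → F, act A y = ku • y →
      hermForm 6 F 2 (act A x + ku • x) y = 0 := by
    intro x y hy
    have h1 : hermForm 6 F 2 (act A x) (act A y) = hermForm 6 F 2 x y := by rw [herm_act]
    rw [hy, herm_smul_right] at h1
    rw [herm_add_left, herm_smul_left, ← h1]
    have h2 : ku * (ku ^ 2 * hermForm 6 F 2 (act A x) y) = hermForm 6 F 2 (act A x) y := by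
      linear_combination hermForm 6 F 2 (act A x) y * k3
    rw [h2, ← two_mul, two, zero_mul]
  have hsq : ∀ x : Fin 6 → F, act (A * A) x = (ku * ku) • act (1 : SU 6 F 2) x := by
    intro x
    rw [act_one, act_mul]
    obtain ⟨a, b, c, habc⟩ := mem_span_of_perp hF hf (orth x u hku) (orth x v hkv) (orth x w hkw)
    have h1 : act A (act A x + ku • x) = ku • (act A x + ku • x) := by
      rw [habc, act_add, act_add, act_smul, act_smul, act_smul, hku, hkv, hkw]
      module
    rw [act_add, act_smul] at h1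
    have h3 : act A (act A x) = ku • (act A x + ku • x) - ku • act A x := by
      rw [← h1]; module
    rw [h3]
    module
  have hp1 : π (h' * h') = 1 := by
    rw [map_mul, ← hAπ, ← map_mul, ← map_one (pr 6 F 2)]
    exact (pr_eq_of_scalar hsq).symm
  rcases (L.ext.ker _).1 hp1 with h1 | h1
  · left
    have := congrArg Subtype.val h1
    rw [← hh']
    exact this
  · right
    have := congrArg Subtype.val h1
    rw [← hh']
    exact this

end label

variable {P : Type*} [Group P] [Finite P] {F : Type*} [Field F] [Fintype F]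
  {hF : Fintype.card F = 2 ^ 2} {T : Set P}

/-- A transposition commuting with a product of three commuting transpositions commutes with them. -/
theorem comm_tri (B : Bas hF T) {x y w t : P} (ht : Tri T x y w) (htT : t ∈ T)
    (h : t * (x * y * w) = x * y * w * t) : t * x = x * t ∧ t * y = y * t ∧ t * w = w * t := by
  have xx := B.sq ht.mx
  have yy := B.sq ht.my
  have ww := B.sq ht.mw
  have tt := B.sq htT
  have xy := ht.cxy
  have xw := ht.cxw
  have yw := ht.cyw
  -- if `t` commutes with one then with all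
  have one : ∀ a b c : P, a ∈ T → b ∈ T → c ∈ T → b ≠ c → a * a = 1 → b * c = c * b →
      t * (a * (b * c)) = a * (b * c) * t → t * a = a * t → t * b = b * t ∧ t * c = c * t := by
    intro a b c ha hb hc hbc haa cbc h1 h2
    refine B.comm_of_pair hb hc htT hbc cbc ?_
    have h3 : a * (t * (b * c)) = a * (b * c * t) := by
      calc a * (t * (b * c)) = (a * t) * (b * c) := by group
        _ = (t * a) * (b * c) := by rw [h2]
        _ = t * (a * (b * c)) := by group
        _ = a * (b * c * t) := by rw [h1]; group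
    exact mul_left_cancel h3
  by_cases hx : t * x = x * t
  · have e : x * (y * w) = x * y * w := (mul_assoc x y w).symm
    obtain ⟨h1, h2⟩ := one x y w ht.mx ht.my ht.mw ht.yw xx yw (by rw [e, h]) hx
    exact ⟨hx, h1, h2⟩
  by_cases hy : t * y = y * t
  · have e : y * (x * w) = x * y * w := by rw [← mul_assoc, ← xy]
    obtain ⟨h1, h2⟩ := one y x w ht.my ht.mx ht.mw ht.xw yy xw (by rw [e, h]) hy
    exact ⟨h1, hy, h2⟩
  by_cases hw : t * w = w * t
  · have e : w * (x * y) = x * y * w := by
      calc w * (x * y) = (w * x) * y := by group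
        _ = x * (w * y) := by rw [← xw]; group
        _ = x * y * w := by rw [← yw]; group
    obtain ⟨h1, h2⟩ := one w x y ht.mw ht.mx ht.my ht.xy ww xy (by rw [e, h]) hw
    exact ⟨h1, h2, hw⟩
  exfalso
  have bx : x * t * x = t * x * t := (B.three ht.mx htT).resolve_left fun e => hx e.symm
  have by' : y * t * y = t * y * t := (B.three ht.my htT).resolve_left fun e => hy e.symm
  have bw : w * t * w = t * w * t := (B.three ht.mw htT).resolve_left fun e => hw e.symm
  -- `w t w = y x t x y`
  have k1 : w * t * w = y * (x * t * x) * y := by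
    have e1 : t = (x * y * w) * t * (w * y * x) := by
      calc t = t * (x * y * w) * (w * y * x) := by
            rw [show t * (x * y * w) * (w * y * x) = t * (x * (y * (w * w) * y) * x) by group, ww,
              mul_one, yy, mul_one, xx, mul_one]
        _ = _ := by rw [h]
    calc w * t * w = w * ((x * y * w) * t * (w * y * x)) * w := by rw [← e1]
      _ = (w * (x * y) * w) * t * (w * (y * x) * w) := by group
      _ = (x * y) * t * (y * x) := by
          have e2 : w * (x * y) * w = x * y := by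
            calc w * (x * y) * w = (w * x) * (y * w) := by group
              _ = (x * w) * (w * y) := by rw [← xw, yw]
              _ = x * (w * w) * y := by group
              _ = x * y := by rw [ww, mul_one]
          have e3 : w * (y * x) * w = y * x := by
            calc w * (y * x) * w = (w * y) * (x * w) := by group
              _ = (y * w) * (w * x) := by rw [← yw, xw]
              _ = y * (w * w) * x := by group
              _ = y * x := by rw [ww, mul_one]
          rw [e2, e3]
      _ = (y * x) * t * (x * y) := by rw [xy]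
      _ = y * (x * t * x) * y := by group
  have k2 : w = w * t * w := by
    calc w = t * (t * w * t) * t := by
          rw [show t * (t * w * t) * t = (t * t) * w * (t * t) by group, tt, one_mul, mul_one]
      _ = t * (y * (t * x * t) * y) * t := by rw [← bw, k1, bx]
      _ = (t * y * t) * x * (t * y * t) := by group
      _ = (y * t * y) * x * (y * t * y) := by rw [← by']
      _ = y * t * (y * x * y) * t * y := by group
      _ = y * t * x * t * y := by
          rw [← xy, show x * y * y = x * (y * y) by group, yy, mul_one]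
      _ = y * (t * x * t) * y := by group
      _ = w * t * w := by rw [← bx, k1]
  apply hw
  have k3 : t * w = 1 := by
    apply mul_left_cancel (a := w)
    rw [mul_one]
    calc w * (t * w) = w * t * w := by group
      _ = w := k2.symm
  have k4 : w = t := by
    calc w = t * t * w := by rw [tt, one_mul]
      _ = t * (t * w) := by group
      _ = t := by rw [k3, mul_one]
  rw [k4]

/-- The bridge between two transpositions `x`, `y` commuting with `a`, `b`. -/
theorem exists_bridge (B : Bas hF T) {a b x y : P} (ha : a ∈ T) (hb : b ∈ T) (hx : x ∈ T) (hy : y ∈ T)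
    (hab : a ≠ b) (cab : a * b = b * a) (xa : x * a = a * x) (xb : x * b = b * x) (ya : y * a = a * y)
    (yb : y * b = b * y) (hxy : x * y ≠ y * x) : ∃ g ∈ T, g * a = a * g ∧ g * b = b * g ∧
      g * x = x * g ∧ g ≠ x ∧ g * y ≠ y * g ∧
      ∀ c ∈ T, c * a = a * c → c * b = b * c → c * x = x * c → c * g = g * c := by
  obtain ⟨π, lift, L, hiff⟩ := B.base.loc a ha
  have zc : ∀ x : Subgroup.centralizer ({a} : Set P), a * (x : P) = (x : P) * a :=
    fun x => AllOfLab.zel_comm x
  have nx : x ≠ a := by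
    rintro rfl
    exact hxy ya.symm
  have ny : y ≠ a := by
    rintro rfl
    exact hxy xa
  obtain ⟨u, hu0, hu, h1⟩ := AllOfLab.mem_Dset_of hiff hb cab.symm hab.symm
  obtain ⟨p, hp0, hp, h2⟩ := AllOfLab.mem_Dset_of hiff hx xa nx
  obtain ⟨r, hr0, hr, h3⟩ := AllOfLab.mem_Dset_of hiff hy ya ny
  have h1' : b = (lift u : P) := congrArg Subtype.val h1
  have h2' : x = (lift p : P) := congrArg Subtype.val h2
  have h3' : y = (lift r : P) := congrArg Subtype.val h3
  have com : ∀ {x y : Fin 6 → F}, x ≠ 0 → y ≠ 0 → hermForm 6 F 2 x x = 0 → hermForm 6 F 2 y y = 0 →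
      ((lift x : P) * (lift y : P) = (lift y : P) * (lift x : P) ↔ hermForm 6 F 2 x y = 0) := by
    intro x y hx0 hy0 hx hy
    rw [← L.commute_iff hx hy hx0 hy0, AllOfLab.comm_coe]
  have hpu : hermForm 6 F 2 p u = 0 := (com hp0 hu0 hp hu).1 (by rw [← h1', ← h2']; exact xb)
  have hup : hermForm 6 F 2 u p = 0 := herm_eq_zero_swap hF hpu
  have hru : hermForm 6 F 2 r u = 0 := (com hr0 hu0 hr hu).1 (by rw [← h1', ← h3']; exact yb)
  have hpr : hermForm 6 F 2 p r ≠ 0 := fun h => hxy (by rw [h2', h3']; exact (com hp0 hr0 hp hr).2 h)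
  have hur : hermForm 6 F 2 u r = 0 := herm_eq_zero_swap hF hru
  have hg : hermForm 6 F 2 (p + u) (p + u) = 0 := by
    rw [herm_add_left, herm_add_right hF, herm_add_right hF, hp, hpu, hup, hu]; ring
  have hgr : hermForm 6 F 2 (p + u) r = hermForm 6 F 2 p r := by
    rw [herm_add_left, hur, add_zero]
  have hg0 : p + u ≠ 0 := by
    intro h
    apply hpr
    rw [← hgr, h, herm_zero_left]
  have hgT : (lift (p + u) : P) ∈ T := (hiff _).2 (Or.inr (Lab.mem_D hg0 hg))
  refine ⟨lift (p + u), hgT, (zc _).symm, ?_, ?_, ?_, ?_, ?_⟩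
  · rw [h1']
    refine (com hg0 hu0 hg hu).2 ?_
    rw [herm_add_left, hpu, hu, add_zero]
  · rw [h2']
    refine (com hg0 hp0 hg hp).2 ?_
    rw [herm_add_left, hp, hup, add_zero]
  · rw [h2']
    intro h
    obtain ⟨k, hk, h4⟩ := (L.lift_eq_iff hg hp hg0 hp0).1 (Subtype.ext h)
    -- `p = k (p + u)`
    by_cases hk1 : k = 1
    · rw [hk1, one_smul] at h4
      exact hu0 (left_eq_add.1 h4)
    · apply hpr
      have h5 : (1 - k) • p = k • u := by
        have h6 : (1 - k) • p = p - k • p := by module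
        rw [h6]
        nth_rewrite 1 [h4]
        module
      have h7 : (1 - k) * hermForm 6 F 2 p r = 0 := by
        rw [← herm_smul_left, h5, herm_smul_left, hur, mul_zero]
      exact (mul_eq_zero.1 h7).resolve_left (sub_ne_zero.2 (Ne.symm hk1))
  · rw [h3']
    intro h
    exact hpr (by rw [← hgr]; exact (com hg0 hr0 hg hr).1 h)
  · intro c hc ca cb cx
    by_cases nc : c = a
    · rw [nc]; exact zc _
    obtain ⟨s, hs0, hs, h4⟩ := AllOfLab.mem_Dset_of hiff hc ca nc
    have h4' : c = (lift s : P) := congrArg Subtype.val h4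
    rw [h4']
    refine (com hs0 hg0 hs hg).2 ?_
    have h5 := (com hs0 hp0 hs hp).1 (by rw [← h4', ← h2']; exact cx)
    have h6 := (com hs0 hu0 hs hu).1 (by rw [← h4', ← h1']; exact cb)
    rw [herm_add_right hF, h5, h6, add_zero]

/-- The transpositions commuting with everything which commutes with `a`, `b`, `c` are the members of the hexad. -/
theorem exists_ncomm (B : Bas hF T) {a b c a' b' c' n : P} (H : Hex T a b c a' b' c') (hn : n ∈ T)
    (na : n * a = a * n) (nb : n * b = b * n) (nc : n * c = c * n) (h1 : n ≠ a) (h2 : n ≠ b) (h3 : n ≠ c)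
    (h4 : n ≠ a') (h5 : n ≠ b') (h6 : n ≠ c') :
    ∃ t ∈ T, t * a = a * t ∧ t * b = b * t ∧ t * c = c * t ∧ t * n ≠ n * t := by
  obtain ⟨π, lift, L, hiff⟩ := B.base.loc a H.t.mx
  have zc : ∀ x : Subgroup.centralizer ({a} : Set P), a * (x : P) = (x : P) * a :=
    fun x => AllOfLab.zel_comm x
  obtain ⟨u, hu0, hu, e1⟩ := AllOfLab.mem_Dset_of hiff H.t.my H.t.cxy.symm H.t.xy.symm
  obtain ⟨v, hv0, hv, e2⟩ := AllOfLab.mem_Dset_of hiff H.t.mw H.t.cxw.symm H.t.xw.symm
  obtain ⟨p, hp0, hp, e3⟩ := AllOfLab.mem_Dset_of hiff hn na h1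
  have e1' : b = (lift u : P) := congrArg Subtype.val e1
  have e2' : c = (lift v : P) := congrArg Subtype.val e2
  have e3' : n = (lift p : P) := congrArg Subtype.val e3
  obtain ⟨ω, hω⟩ := exists_omega hF
  obtain ⟨f1, f2, f3⟩ := FiLocal.hex_mem L hiff hu0 hv0 hu hv e1' e2' hω H
  have com : ∀ {x y : Fin 6 → F}, x ≠ 0 → y ≠ 0 → hermForm 6 F 2 x x = 0 → hermForm 6 F 2 y y = 0 →
      ((lift x : P) * (lift y : P) = (lift y : P) * (lift x : P) ↔ hermForm 6 F 2 x y = 0) := by
    intro x y hx0 hy0 hx hy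
    rw [← L.commute_iff hx hy hx0 hy0, AllOfLab.comm_coe]
  have huv : hermForm 6 F 2 u v = 0 := (com hu0 hv0 hu hv).1 (by rw [← e1', ← e2']; exact H.t.cyw)
  have hpu : hermForm 6 F 2 p u = 0 := (com hp0 hu0 hp hu).1 (by rw [← e1', ← e3']; exact nb)
  have hpv : hermForm 6 F 2 p v = 0 := (com hp0 hv0 hp hv).1 (by rw [← e2', ← e3']; exact nc)
  have hup := herm_eq_zero_swap hF hpu
  have hvp := herm_eq_zero_swap hF hpv
  have hvu : ¬ ∃ k : F, v = k • u := by
    rintro ⟨k, hk⟩
    apply H.t.yw
    have hk0 : k ≠ 0 := by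
      rintro rfl
      exact hv0 (by rw [hk, zero_smul])
    rw [e1', e2', hk, L.smul u k hu hk0]
  by_cases hsp : ∃ x y : F, p = x • u + y • v
  · exfalso
    obtain ⟨x, y, hxy⟩ := hsp
    have hcase := FiLocal.pt_cases L hω hp0 hu hv huv
      (fun h => h2 (by rw [e1', e3', h])) (fun h => h3 (by rw [e2', e3', h])) hxy
    have hcase' : n = lift (u + v) ∨ n = lift (ω • u + v) ∨ n = lift (ω ^ 2 • u + v) := by
      rcases hcase with h | h | h
      · left; rw [e3', h]
      · right; left; rw [e3', h]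
      · right; right; rw [e3', h]
    rcases FiLocal.pigeon H.t'.xy H.t'.xw H.t'.yw f1 f2 f3 hcase' with h | h | h
    · exact h4 h
    · exact h5 h
    · exact h6 h
  · have hf : Fr3 u v p := by
      refine ⟨hu, hv, hp, huv, hup, hvp, ?_⟩
      intro x y w hxyw
      have hw : w = 0 := by
        by_contra hw
        apply hsp
        refine ⟨-w⁻¹ * x, -w⁻¹ * y, ?_⟩
        have h7 : w • p = -(x • u + y • v) := by
          rw [eq_neg_iff_add_eq_zero, add_comm]; exact hxyw
        calc p = w⁻¹ • (w • p) := by rw [smul_smul, inv_mul_cancel₀ hw, one_smul]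
          _ = w⁻¹ • (-(x • u + y • v)) := by rw [h7]
          _ = _ := by module
      rw [hw, zero_smul, add_zero] at hxyw
      have hy : y = 0 := by
        by_contra hy
        apply hvu
        refine ⟨-y⁻¹ * x, ?_⟩
        have h7 : y • v = -(x • u) := by
          rw [eq_neg_iff_add_eq_zero, add_comm]; exact hxyw
        calc v = y⁻¹ • (y • v) := by rw [smul_smul, inv_mul_cancel₀ hy, one_smul]
          _ = y⁻¹ • (-(x • u)) := by rw [h7]
          _ = _ := by module
      rw [hy, zero_smul, add_zero] at hxyw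
      exact ⟨(smul_eq_zero.1 hxyw).resolve_right hu0, hy, hw⟩
    obtain ⟨f, hfr⟩ := HermPlane.exists_frame_of_fr3 (hF := hF) hf
    have g0 : hermForm 6 F 2 (f 2) (f 2) = 0 := hfr.ff 2 2
    have g1 : hermForm 6 F 2 u (f 2) = 0 := by simpa using hfr.ef 0 2
    have g2 : hermForm 6 F 2 v (f 2) = 0 := by simpa using hfr.ef 1 2
    have g3 : hermForm 6 F 2 p (f 2) = 1 := by simpa using hfr.ef 2 2
    have hf0 : f 2 ≠ 0 := by
      intro h
      rw [h, herm_zero_right hF] at g3
      exact zero_ne_one g3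
    refine ⟨lift (f 2), (hiff _).2 (Or.inr (Lab.mem_D hf0 g0)), (zc _).symm, ?_, ?_, ?_⟩
    · rw [e1']
      exact (com hf0 hu0 g0 hu).2 (herm_eq_zero_swap hF g1)
    · rw [e2']
      exact (com hf0 hv0 g0 hv).2 (herm_eq_zero_swap hF g2)
    · rw [e3']
      intro h
      have := (com hf0 hp0 g0 hp).1 h
      have := herm_eq_zero_swap hF this
      rw [g3] at this
      exact one_ne_zero this

theorem sq_or (B : Bas hF T) {a b c h : P} (ht : Tri T a b c)
    (hc : ∀ t ∈ T, t * a = a * t → t * b = b * t → t * c = c * t → h * t = t * h) :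
    h * h = 1 ∨ h * h = a := by
  obtain ⟨q, π, lift, u, v, w, hq, L, hiff, hf⟩ := B.exists_label
  have zc : ∀ x : Subgroup.centralizer ({q} : Set P), q * (x : P) = (x : P) * q :=
    fun x => AllOfLab.zel_comm x
  have mem : ∀ x : Fin 6 → F, x ≠ 0 → hermForm 6 F 2 x x = 0 → (lift x : P) ∈ T :=
    fun x h0 hx => (hiff _).2 (Or.inr (Lab.mem_D h0 hx))
  have neq : ∀ x : Fin 6 → F, x ≠ 0 → hermForm 6 F 2 x x = 0 → q ≠ (lift x : P) := by
    intro x h0 hx h1
    have h2 : zel q = lift x := Subtype.ext h1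
    apply L.z_notMem
    rw [h2]
    exact Lab.mem_D h0 hx
  have hcomb := fun a b c a' b' c' => AllOfLab.Fr3.comb hF hf a b c a' b' c'
  obtain ⟨n1, n2, n3⟩ := AllOfLab.Fr3.lift_ne L hf
  obtain ⟨c1, c2, c3⟩ := AllOfLab.Fr3.lift_comm L hf
  have hT : Tri T q (lift u : P) (lift v : P) :=
    ⟨hq, mem _ hf.u_ne hf.uu, mem _ hf.v_ne hf.vv, neq _ hf.u_ne hf.uu, neq _ hf.v_ne hf.vv,
      fun h => n1 (Subtype.ext h), zc _, zc _, AllOfLab.comm_coe.1 c1⟩
  obtain ⟨g, g1, g2, g3⟩ := B.tf.tri _ _ _ _ _ _ ht hT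
  have back : ∀ a b : P, g⁻¹ * a * g⁻¹⁻¹ * b = b * (g⁻¹ * a * g⁻¹⁻¹) ↔
      a * (g * b * g⁻¹) = g * b * g⁻¹ * a := by
    intro a b
    constructor
    · intro h1
      calc a * (g * b * g⁻¹) = g * (g⁻¹ * a * g⁻¹⁻¹ * b) * g⁻¹ := by group
        _ = g * (b * (g⁻¹ * a * g⁻¹⁻¹)) * g⁻¹ := by rw [h1]
        _ = _ := by group
    · intro h1
      calc g⁻¹ * a * g⁻¹⁻¹ * b = g⁻¹ * (a * (g * b * g⁻¹)) * g := by group
        _ = g⁻¹ * (g * b * g⁻¹ * a) * g := by rw [h1]
        _ = _ := by group
  -- the conjugate of `h` commutes with everything in the link of `q`, `u`, `v`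
  have key : ∀ t ∈ T, t * q = q * t → t * (lift u : P) = (lift u : P) * t →
      t * (lift v : P) = (lift v : P) * t → (g * h * g⁻¹) * t = t * (g * h * g⁻¹) := by
    intro t htT k1 k2 k3
    have e := hc (g⁻¹ * t * g⁻¹⁻¹) (B.conjT _ htT) ((back _ _).2 (by rw [g1]; exact k1))
      ((back _ _).2 (by rw [g2]; exact k2)) ((back _ _).2 (by rw [g3]; exact k3))
    exact ((back _ _).1 e.symm).symm
  have e1 : u = (1 : F) • u + (0 : F) • v + (0 : F) • w := by module
  have e2 : v = (0 : F) • u + (1 : F) • v + (0 : F) • w := by module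
  have z1 : (1 : F) ≠ 0 := one_ne_zero
  have com : ∀ a b c a' b' c' : F, (a ≠ 0 ∨ b ≠ 0 ∨ c ≠ 0) → (a' ≠ 0 ∨ b' ≠ 0 ∨ c' ≠ 0) →
      (lift (a • u + b • v + c • w) : P) * (lift (a' • u + b' • v + c' • w) : P) =
        (lift (a' • u + b' • v + c' • w) : P) * (lift (a • u + b • v + c • w) : P) :=
    fun a b c a' b' c' h0 h0' => AllOfLab.comm_coe.1 ((L.commute_iff (hcomb _ _ _ _ _ _)
      (hcomb _ _ _ _ _ _) (comb_ne hf h0) (comb_ne hf h0')).2 (hcomb _ _ _ _ _ _))
  have key2 : ∀ a b c : F, (a ≠ 0 ∨ b ≠ 0 ∨ c ≠ 0) → (g * h * g⁻¹) *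
      (lift (a • u + b • v + c • w) : P) = (lift (a • u + b • v + c • w) : P) * (g * h * g⁻¹) := by
    intro a b c h0
    refine key _ (mem _ (comb_ne hf h0) (hcomb _ _ _ _ _ _)) (zc _).symm ?_ ?_
    · have := com a b c 1 0 0 h0 (Or.inl z1)
      rwa [← e1] at this
    · have := com a b c 0 1 0 h0 (Or.inr (Or.inl z1))
      rwa [← e2] at this
  have hq' : (g * h * g⁻¹) * q = q * (g * h * g⁻¹) :=
    key q hq rfl (zc _) (zc _)
  have hsq : (g * h * g⁻¹) * (g * h * g⁻¹) = g * (h * h) * g⁻¹ := by group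
  rcases sq_of_plane L hf hq' key2 with h1 | h1
  · left
    rw [hsq] at h1
    exact conj_eq_one_iff.1 h1
  · right
    rw [hsq, ← g1] at h1
    exact mul_left_cancel (mul_right_cancel h1)

/-- An element commuting with all the transpositions which commute with `a`, `b`, `c` is an involution. -/
theorem sq_one (B : Bas hF T) {a b c h : P} (ht : Tri T a b c)
    (hc : ∀ t ∈ T, t * a = a * t → t * b = b * t → t * c = c * t → h * t = t * h) : h * h = 1 := by
  rcases sq_or B ht hc with h1 | h1
  · exact h1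
  rcases sq_or B (tri_perm ht) (fun t htT k1 k2 k3 => hc t htT k3 k1 k2) with h2 | h2
  · exact h2
  · exact absurd (h1.symm.trans h2) ht.xy

/-! ### Normal subgroups of `C(w)` -/

/-- Two transpositions congruent modulo `N` commute with the same transpositions. -/
theorem bridge (B : Bas hF T) {N : Subgroup P} {x y g : P} (hx : x ∈ T) (hy : y ∈ T) (hg : g ∈ T)
    (hxy : x * y ∈ N) (hgx : g * x = x * g) (hne : g ≠ x) (hgN : ∀ n ∈ N, g * n * g⁻¹ ∈ N)
    (no : ∀ x ∈ T, ∀ y ∈ T, x ≠ y → x * y = y * x → x * y ∉ N) : g * y = y * g := by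
  rcases B.three hg hy with h | h
  · exact h
  exfalso
  apply no g hg x hx hne hgx
  have xx := B.sq hx
  have yy := B.sq hy
  have gg := B.sq hg
  have hyx : y * x ∈ N := by
    have e : y * x = (x * y)⁻¹ := by
      rw [mul_inv_rev, B.inv_self hx, B.inv_self hy]
    rw [e]
    exact inv_mem hxy
  have h1 : x * y * (g * (y * x) * g⁻¹) ∈ N := mul_mem hxy (hgN _ hyx)
  have e1 : x * y * (g * (y * x) * g⁻¹) = g * (x * y * x) := by
    rw [B.inv_self hg]
    calc x * y * (g * (y * x) * g) = x * (y * g * y) * (x * g) := by group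
      _ = x * (g * y * g) * (g * x) := by rw [← hgx, ← h]
      _ = (x * g) * y * (g * g) * x := by group
      _ = (g * x) * y * x := by rw [gg, ← hgx, mul_one]
      _ = _ := by group
  rw [e1] at h1
  have h2 : g * (x * y * x) * (x * y) ∈ N := mul_mem h1 hxy
  have e2 : g * (x * y * x) * (x * y) = g * x := by
    calc g * (x * y * x) * (x * y) = g * x * (y * (x * x) * y) := by group
      _ = g * x := by rw [xx, mul_one, yy, mul_one]
  rwa [e2] at h2

theorem conj_comm_of {x y g : P} (h : x * y = y * x) (hg : g * y = y * g) :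
    g * x * g⁻¹ * y = y * (g * x * g⁻¹) := by
  have h1 : g⁻¹ * y = y * g⁻¹ := by
    calc g⁻¹ * y = g⁻¹ * (y * g) * g⁻¹ := by group
      _ = g⁻¹ * (g * y) * g⁻¹ := by rw [hg]
      _ = y * g⁻¹ := by group
  calc g * x * g⁻¹ * y = g * x * (g⁻¹ * y) := by group
    _ = g * (x * y) * g⁻¹ := by rw [h1]; group
    _ = (g * y) * x * g⁻¹ := by rw [h]; group
    _ = y * (g * x * g⁻¹) := by rw [hg]; group

/-- commuting with three of the four elements `w = a b c`, `a`, `b`, `c` -/
theorem comm_fourth {a b c y : P} (hw : y * (a * b * c) = a * b * c * y) (hb : y * b = b * y)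
    (hc : y * c = c * y) : y * a = a * y := by
  have h1 : y * a * (b * c) = a * y * (b * c) := by
    calc y * a * (b * c) = y * (a * b * c) := by group
      _ = a * b * c * y := hw
      _ = a * b * (c * y) := by group
      _ = a * b * (y * c) := by rw [hc]
      _ = a * (b * y) * c := by group
      _ = a * (y * b) * c := by rw [hb]
      _ = _ := by group
  exact mul_right_cancel h1

section normal

variable (B : Bas hF T) {a b c : P} (ht : Tri T a b c) {N : Subgroup P}
  (hN : ∀ n ∈ N, n * (a * b * c) = a * b * c * n)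
  (norm : ∀ g : P, g * (a * b * c) = a * b * c * g → ∀ n ∈ N, g * n * g⁻¹ ∈ N)
  (no : ∀ x ∈ T, ∀ y ∈ T, x ≠ y → x * y = y * x → x * y ∉ N)
include B ht hN norm no

omit hN norm no in
theorem comm_w {t : P} (h1 : t * a = a * t) (h2 : t * b = b * t) (h3 : t * c = c * t) :
    t * (a * b * c) = a * b * c * t := by
  calc t * (a * b * c) = (t * a) * b * c := by group
    _ = a * (t * b) * c := by rw [h1]; group
    _ = a * b * (t * c) := by rw [h2]; group
    _ = a * b * c * t := by rw [h3]; group

theorem fix_a : ∀ n ∈ N, n * a = a * n := by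
  intro n hn
  have aT := ht.mx
  have aw : a * (a * b * c) = a * b * c * a := comm_w B ht rfl ht.cxy ht.cxw
  have bw : b * (a * b * c) = a * b * c * b := comm_w B ht ht.cxy.symm rfl ht.cyw
  have cw : c * (a * b * c) = a * b * c * c := comm_w B ht ht.cxw.symm ht.cyw.symm rfl
  have yT : n * a * n⁻¹ ∈ T := B.conjT n aT
  have yw : n * a * n⁻¹ * (a * b * c) = a * b * c * (n * a * n⁻¹) := conj_comm_of aw (hN n hn)
  have hay : a * (n * a * n⁻¹) ∈ N := by
    have h1 : a * n * a⁻¹ * n⁻¹ ∈ N := mul_mem (norm a aw n hn) (inv_mem hn)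
    rw [B.inv_self aT] at h1
    have e : a * (n * a * n⁻¹) = a * n * a * n⁻¹ := by group
    rwa [e]
  have hb := bridge B aT yT ht.my hay ht.cxy.symm (Ne.symm ht.xy) (norm b bw) no
  have hc := bridge B aT yT ht.mw hay ht.cxw.symm (Ne.symm ht.xw) (norm c cw) no
  have ha : n * a * n⁻¹ * a = a * (n * a * n⁻¹) := comm_fourth yw hb.symm hc.symm
  by_cases he : a = n * a * n⁻¹
  · calc n * a = n * a * n⁻¹ * n := by group
      _ = a * n := by rw [← he]
  · exact absurd hay (no a aT _ yT he ha.symm)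

/-- **`N` centralises the transpositions commuting with `a`, `b`, `c`.** -/
theorem main : ∀ n ∈ N, ∀ t ∈ T, t * a = a * t → t * b = b * t → t * c = c * t → n * t = t * n := by
  have rot : ∀ {a b c : P}, Tri T a b c → b * c * a = a * b * c := by
    intro a b c h
    calc b * c * a = b * (c * a) := by group
      _ = b * (a * c) := by rw [h.cxw]
      _ = (b * a) * c := by group
      _ = a * b * c := by rw [h.cxy]
  have fa := fix_a B ht hN norm no
  have fb : ∀ n ∈ N, n * b = b * n := by
    have e := rot ht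
    refine fix_a B (tri_perm ht) ?_ ?_ no
    · rw [e]; exact hN
    · rw [e]; exact norm
  have fc : ∀ n ∈ N, n * c = c * n := by
    have e := (rot (tri_perm ht)).trans (rot ht)
    refine fix_a B (tri_perm (tri_perm ht)) ?_ ?_ no
    · rw [e]; exact hN
    · rw [e]; exact norm
  intro n hn t htT ta tb tc
  have yT : n * t * n⁻¹ ∈ T := B.conjT n htT
  have ya := conj_comm_of ta (fa n hn)
  have yb := conj_comm_of tb (fb n hn)
  have yc := conj_comm_of tc (fc n hn)
  have tw := comm_w B ht ta tb tc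
  have hty : t * (n * t * n⁻¹) ∈ N := by
    have h1 : t * n * t⁻¹ * n⁻¹ ∈ N := mul_mem (norm t tw n hn) (inv_mem hn)
    rw [B.inv_self htT] at h1
    have e : t * (n * t * n⁻¹) = t * n * t * n⁻¹ := by group
    rwa [e]
  by_cases hcm : t * (n * t * n⁻¹) = n * t * n⁻¹ * t
  · by_cases he : t = n * t * n⁻¹
    · calc n * t = n * t * n⁻¹ * n := by group
        _ = t * n := by rw [← he]
    · exact absurd hty (no t htT _ yT he hcm)
  · exfalso
    obtain ⟨g, hg, ga, gb, gt, gne, gy, hall⟩ := exists_bridge B ht.mx ht.my htT yT ht.xy ht.cxy ta tb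
      ya yb hcm
    have gc : g * c = c * g := (hall c ht.mw ht.cxw.symm ht.cyw.symm tc.symm).symm
    exact gy (bridge B htT yT hg hty gt gne (norm g (comm_w B ht ga gb gc)) no)

theorem sq_N : ∀ n ∈ N, n * n = 1 := fun n hn =>
  sq_one B ht fun t htT k1 k2 k3 => main B ht hN norm no n hn t htT k1 k2 k3

/-- **`N ⊆ {1, w}`.** -/
theorem eq_w (hw : a * b * c ∈ N) : ∀ n ∈ N, n = 1 ∨ n = a * b * c := by
  have hm := main B ht hN norm no
  obtain ⟨a', b', c', H⟩ := B.tf.hex a b c ht
  have sqw : a * b * c * (a * b * c) = 1 := sq_N B ht hN norm no _ hw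
  have hw' : a' * b' * c' = a * b * c := by
    have h1 := H.prod
    have h2 : (a * b * c)⁻¹ = a' * b' * c' := inv_eq_of_mul_eq_one_right h1
    rw [← h2]
    exact inv_eq_of_mul_eq_one_right sqw
  -- no transposition of the hexad is in `N`
  have swap : ∀ {x y w : P}, Tri T x y w → x * y * w = a * b * c → x ∉ N := by
    intro x y w h he hx
    have h' : Tri T y x w := ⟨h.my, h.mx, h.mw, h.xy.symm, h.yw, h.xw, h.cxy.symm, h.cyw, h.cxw⟩
    obtain ⟨g, g1, g2, g3⟩ := B.tf.tri _ _ _ _ _ _ h h'
    have hg : g * (a * b * c) = a * b * c * g := by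
      rw [← he]
      calc g * (x * y * w) = (g * x * g⁻¹) * (g * y * g⁻¹) * (g * w * g⁻¹) * g := by group
        _ = y * x * w * g := by rw [g1, g2, g3]
        _ = x * y * w * g := by rw [h.cxy]
    have hy : y ∈ N := by
      have := norm g hg x hx
      rwa [g1] at this
    exact no x h.mx y h.my h.xy h.cxy (mul_mem hx hy)
  have tp2 : ∀ {x y w : P}, Tri T x y w → Tri T y w x := fun h => tri_perm h
  have rot : ∀ {a b c : P}, Tri T a b c → b * c * a = a * b * c := by
    intro a b c h
    calc b * c * a = b * (c * a) := by group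
      _ = b * (a * c) := by rw [h.cxw]
      _ = (b * a) * c := by group
      _ = a * b * c := by rw [h.cxy]
  have nh : ∀ {x y w : P}, Tri T x y w → x * y * w = a * b * c → x ∉ N ∧ y ∉ N ∧ w ∉ N := by
    intro x y w h he
    exact ⟨swap h he, swap (tp2 h) ((rot h).trans he),
      swap (tp2 (tp2 h)) (((rot (tp2 h)).trans (rot h)).trans he)⟩
  obtain ⟨na, nb, nc⟩ := nh ht rfl
  obtain ⟨na', nb', nc'⟩ := nh H.t' hw'
  -- the transpositions centralising the link are in the hexad
  have cov : ∀ x ∈ T, (∀ t ∈ T, t * a = a * t → t * b = b * t → t * c = c * t → x * t = t * x) →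
      (x = a ∨ x = b ∨ x = c) ∨ (x = a' ∨ x = b' ∨ x = c') := by
    intro x hx h
    by_contra hcon
    push Not at hcon
    obtain ⟨⟨h1, h2, h3⟩, h4, h5, h6⟩ := hcon
    have xa := h a ht.mx rfl ht.cxy ht.cxw
    have xb := h b ht.my ht.cxy.symm rfl ht.cyw
    have xc := h c ht.mw ht.cxw.symm ht.cyw.symm rfl
    obtain ⟨t, htT, ta, tb, tc, hne⟩ := exists_ncomm B H hx xa xb xc h1 h2 h3 h4 h5 h6
    exact hne (h t htT ta tb tc).symm
  -- two members of a triple with product `w`
  have third : ∀ {x y w : P}, Tri T x y w → x * y * w = a * b * c → ∀ p q r : P, p ∈ T → r ∈ T →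
      p ≠ q → (p = x ∨ p = y ∨ p = w) → (q = x ∨ q = y ∨ q = w) →
      (∀ t ∈ T, t * x = x * t → t * y = y * t → t * w = w * t → r * t = t * r) →
      p * q * r ∈ N → p * q * r = a * b * c := by
    intro x y w h he p q r hp hr hpq hp' hq' hr' hpqr
    obtain ⟨s, hs, sx, sy, sw, e⟩ : ∃ s ∈ T, s * x = x * s ∧ s * y = y * s ∧ s * w = w * s ∧
        p * q * s = a * b * c := by
      have cxy := h.cxy
      have cxw := h.cxw
      have cyw := h.cyw
      have e1 : x * w * y = x * y * w := by rw [mul_assoc, ← cyw, ← mul_assoc]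
      have e2 : y * x * w = x * y * w := by rw [cxy]
      have e3 : y * w * x = x * y * w := rot h
      have e4 : w * x * y = x * y * w := by rw [← cxw, e1]
      have e5 : w * y * x = x * y * w := by rw [← cyw, e3]
      rcases hp' with rfl | rfl | rfl <;> rcases hq' with rfl | rfl | rfl
      · exact absurd rfl hpq
      · exact ⟨w, h.mw, cxw.symm, cyw.symm, rfl, he⟩
      · exact ⟨y, h.my, cxy.symm, rfl, cyw, e1.trans he⟩
      · exact ⟨w, h.mw, cxw.symm, cyw.symm, rfl, e2.trans he⟩
      · exact absurd rfl hpq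
      · exact ⟨x, h.mx, rfl, cxy, cxw, e3.trans he⟩
      · exact ⟨y, h.my, cxy.symm, rfl, cyw, e4.trans he⟩
      · exact ⟨x, h.mx, rfl, cxy, cxw, e5.trans he⟩
      · exact absurd rfl hpq
    by_cases hrs : r = s
    · rw [hrs]; exact e
    · exfalso
      have hrs' : r * s = s * r := hr' s hs sx sy sw
      apply no r hr s hs hrs hrs'
      have h1 : (p * q * r)⁻¹ * (a * b * c) ∈ N := mul_mem (inv_mem hpqr) hw
      have e2 : (p * q * r)⁻¹ * (a * b * c) = r * s := by
        rw [← e, mul_inv_rev, mul_assoc, ← mul_assoc _ (p * q) s, inv_mul_cancel, one_mul, B.inv_self hr]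
      rwa [e2] at h1
  intro n hn
  rcases B.tf.inv n (sq_N B ht hN norm no n hn) ⟨a, ht.mx, fix_a B ht hN norm no n hn⟩ with
    h | h | ⟨x, hx, y, hy, hne, hc, he⟩ | ⟨x, y, z, h, he⟩
  · exact Or.inl h
  · exfalso
    rcases cov n h (hm n hn) with (h1 | h1 | h1) | (h1 | h1 | h1) <;> rw [h1] at hn
    · exact na hn
    · exact nb hn
    · exact nc hn
    · exact na' hn
    · exact nb' hn
    · exact nc' hn
  · exact absurd (by rw [← he]; exact hn) (no x hx y hy hne hc)
  · right
    -- the members of the triple centralise the link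
    have hxyz : ∀ t ∈ T, t * a = a * t → t * b = b * t → t * c = c * t →
        t * x = x * t ∧ t * y = y * t ∧ t * z = z * t := by
      intro t htT ta tb tc
      have h1 := hm n hn t htT ta tb tc
      rw [he] at h1
      exact comm_tri B h htT h1.symm
    have lk : ∀ t ∈ T, t * a' = a' * t → t * b' = b' * t → t * c' = c' * t →
        t * a = a * t ∧ t * b = b * t ∧ t * c = c * t := by
      intro t htT ta tb tc
      refine comm_tri B ht htT ?_
      rw [← hw']
      exact comm_w B H.t' ta tb tc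
    have ex := fun t htT ta tb tc => ((hxyz t htT ta tb tc).1).symm
    have ey := fun t htT ta tb tc => ((hxyz t htT ta tb tc).2.1).symm
    have ez := fun t htT ta tb tc => ((hxyz t htT ta tb tc).2.2).symm
    have ex' : ∀ t ∈ T, t * a' = a' * t → t * b' = b' * t → t * c' = c' * t → x * t = t * x := by
      intro t htT ta tb tc
      obtain ⟨k1, k2, k3⟩ := lk t htT ta tb tc
      exact ex t htT k1 k2 k3
    have ey' : ∀ t ∈ T, t * a' = a' * t → t * b' = b' * t → t * c' = c' * t → y * t = t * y := by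
      intro t htT ta tb tc
      obtain ⟨k1, k2, k3⟩ := lk t htT ta tb tc
      exact ey t htT k1 k2 k3
    have ez' : ∀ t ∈ T, t * a' = a' * t → t * b' = b' * t → t * c' = c' * t → z * t = t * z := by
      intro t htT ta tb tc
      obtain ⟨k1, k2, k3⟩ := lk t htT ta tb tc
      exact ez t htT k1 k2 k3
    have p1 : x * y * z = x * y * z := rfl
    have p2 : x * z * y = x * y * z := by rw [mul_assoc, ← h.cyw, ← mul_assoc]
    have p3 : y * z * x = x * y * z := rot h
    rw [he] at hn ⊢
    have hn2 : x * z * y ∈ N := by rw [p2]; exact hn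
    have hn3 : y * z * x ∈ N := by rw [p3]; exact hn
    rcases cov x h.mx ex with hx | hx <;> rcases cov y h.my ey with hy | hy
    · exact third ht rfl x y z h.mx h.mw h.xy hx hy ez hn
    · rcases cov z h.mw ez with hz | hz
      · rw [← p2]; exact third ht rfl x z y h.mx h.my h.xw hx hz ey hn2
      · rw [← p3]; exact third H.t' hw' y z x h.my h.mx h.yw hy hz ex' hn3
    · rcases cov z h.mw ez with hz | hz
      · rw [← p3]; exact third ht rfl y z x h.my h.mx h.yw hy hz ex hn3
      · rw [← p2]; exact third H.t' hw' x z y h.mx h.my h.xw hx hz ey' hn2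
    · exact third H.t' hw' x y z h.mx h.mw h.xy hx hy ez' hn

end normal

end Cfsg.Agent.OddHalf.D4.Spor.Fi22
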