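import Cfsg.Agent.OddHalf.D4.Spor.OfBasic
import Cfsg.Agent.R08.TetFi24C
import Cfsg.Agent.R08.TetBigInst
import Cfsg.Agent.S1696

/-!
# ODD half, D4, sporadic components: the fact sheet of `Fi24'` (helper267)

`sheet_of` : the basic sheet of D8 and `Aut(Fi24') = Fi24` (conjugations) give `Spor.Sheet Spor.Fi24'`.

An involution of `Fi24'` is the product of two or of four commuting transpositions (`TetFi24C.facts.invol`); the
second ones are 2-central.
-/

set_option autoImplicit false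

namespace Cfsg.Agent.OddHalf.D4.Spor.FiTF

open Cfsg Cfsg.Spor Cfsg.Agent.R01 Cfsg.Agent.R08 Cfsg.Agent.R08.FiTwentyFour Cfsg.Agent.R08.TetFi24A
open Cfsg.Agent.R08.TetTwo Cfsg.Agent.R08.TetThree Cfsg.Agent.R08.TetBasic
open Subgroup
open scoped commutatorElement

theorem facts : TetClose.Facts L (commutator Fi24) := TetFi24C.facts

/-- `g` commutes with the product of two commuting transpositions -/
theorem pair_fix {a b g : Fi24} (ha : a ∈ L) (hb : b ∈ L) (hab : Commute a b) (hne : a ≠ b)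
    (hg : g * (a * b) * g⁻¹ = a * b) :
    (g * a * g⁻¹ = a ∧ g * b * g⁻¹ = b) ∨ (g * a * g⁻¹ = b ∧ g * b * g⁻¹ = a) := by
  have h1 : Commute (g * a * g⁻¹) (g * b * g⁻¹) := TetBig.conj_comm hab
  exact pair_unique facts.tr ha hb (FiTwentyFour.conj ha g) (FiTwentyFour.conj hb g) hab hne h1
    (by rw [← TetBig.conj_mul, hg])

theorem exists_nb {a b : Fi24} (P : At a b) : ∃ c, Nb a b c := by
  have h1 := TetBigInst.ncard_two P
  have h2 : {c | c ∈ L ∧ c ≠ a ∧ c ≠ b ∧ Commute c a ∧ Commute c b}.Nonempty :=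
    Set.nonempty_of_ncard_ne_zero (by rw [h1]; norm_num)
  obtain ⟨c, h1, h2, h3, h4, h5⟩ := h2
  exact ⟨c, h1, h4, h5, h2, h3⟩

theorem exists_nb2 {a b c : Fi24} (P : At a b) (hc : Nb a b c) : ∃ d, Nb a b d ∧ Commute c d ∧ c ≠ d := by
  have h1 := TetBigInst.ncard_three P hc
  have h2 : {d | d ∈ L ∧ d ≠ a ∧ d ≠ b ∧ d ≠ c ∧ Commute d a ∧ Commute d b ∧ Commute d c}.Nonempty :=
    Set.nonempty_of_ncard_ne_zero (by rw [h1]; norm_num)
  obtain ⟨d, h1, h2, h3, h4, h5, h6, h7⟩ := h2
  exact ⟨d, ⟨h1, h5, h6, h2, h3⟩, h7.symm, h4.symm⟩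

/-- an element acting on the centralizer of `a`, `b` modulo `⟨ab⟩` trivially acts trivially -/
theorem fix_all {a b : Fi24} (P : At a b) {g : Fi24}
    (h : ∀ x ∈ Cab a b, g * x * g⁻¹ = x ∨ g * x * g⁻¹ = a * b * x) {x : Fi24} (hx : x ∈ Cab a b) :
    g * x * g⁻¹ = x := by
  have key : (⊤ : Subgroup (Cab a b)) ≤
      MonoidHom.eqLocus ((MulAut.conj g).toMonoidHom.comp (Cab a b).subtype) (Cab a b).subtype := by
    rw [← FiTwentyFour.perfect P.ha P.hb P.ne P.ab, commutator_def, Subgroup.commutator_le]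
    intro u _ v _
    show g * ((⁅u, v⁆ : Cab a b) : Fi24) * g⁻¹ = ((⁅u, v⁆ : Cab a b) : Fi24)
    have zc : ∀ y ∈ Cab a b, a * b * y = y * (a * b) := by
      intro y hy
      obtain ⟨-, h1, h2⟩ := mem_Cab.1 hy
      rw [mul_assoc, ← h2, ← mul_assoc, ← h1, mul_assoc]
    have key2 : ∀ w : Fi24, w = 1 ∨ w = a * b → ∀ y ∈ Cab a b, w * y = y * w := by
      rintro w (rfl | rfl) y hy
      · rw [one_mul, mul_one]
      · exact zc y hy
    have hw : ∀ y ∈ Cab a b, ∃ w : Fi24, (w = 1 ∨ w = a * b) ∧ g * y * g⁻¹ = w * y := by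
      intro y hy
      rcases h y hy with h1 | h1
      · exact ⟨1, Or.inl rfl, by rw [h1, one_mul]⟩
      · exact ⟨a * b, Or.inr rfl, h1⟩
    obtain ⟨w1, c1, h1⟩ := hw _ u.2
    obtain ⟨w2, c2, h2⟩ := hw _ v.2
    have k1 := key2 w1 c1
    have k2 := key2 w2 c2
    have hww : w1 * w2 = w2 * w1 := by
      rcases c1 with rfl | rfl
      · rw [one_mul, mul_one]
      · rcases c2 with rfl | rfl
        · rw [one_mul, mul_one]
        · rfl
    rw [commutatorElement_def]
    push_cast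
    have e1 : g * ((u : Fi24) * v * (u : Fi24)⁻¹ * (v : Fi24)⁻¹) * g⁻¹ =
        (g * u * g⁻¹) * (g * v * g⁻¹) * (g * u * g⁻¹)⁻¹ * (g * v * g⁻¹)⁻¹ := by group
    rw [e1, h1, h2]
    have a1 := k1 _ (Subgroup.mul_mem _ u.2 v.2)
    have a2 := k2 _ u.2
    calc w1 * (u : Fi24) * (w2 * v) * (w1 * u)⁻¹ * (w2 * v)⁻¹
        = w1 * (u * w2) * v * (u : Fi24)⁻¹ * w1⁻¹ * (v : Fi24)⁻¹ * w2⁻¹ := by group
      _ = (w1 * w2) * (u * v) * (u : Fi24)⁻¹ * w1⁻¹ * (v : Fi24)⁻¹ * w2⁻¹ := by rw [← a2]; group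
      _ = (w1 * w2) * ((u * v * (u : Fi24)⁻¹) * w1⁻¹) * (v : Fi24)⁻¹ * w2⁻¹ := by group
      _ = (w1 * w2) * (w1⁻¹ * (u * v * (u : Fi24)⁻¹)) * (v : Fi24)⁻¹ * w2⁻¹ := by
          have := k1 _ (Subgroup.mul_mem _ (Subgroup.mul_mem _ u.2 v.2) (Subgroup.inv_mem _ u.2))
          have h3 : (u * v * (u : Fi24)⁻¹) * w1⁻¹ = w1⁻¹ * (u * v * (u : Fi24)⁻¹) := by
            calc (u * v * (u : Fi24)⁻¹) * w1⁻¹ = w1⁻¹ * (w1 * (u * v * (u : Fi24)⁻¹)) * w1⁻¹ := by group
              _ = w1⁻¹ * ((u * v * (u : Fi24)⁻¹) * w1) * w1⁻¹ := by rw [this]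
              _ = _ := by group
          rw [h3]
      _ = (w2 * w1) * w1⁻¹ * ((u * v * (u : Fi24)⁻¹) * (v : Fi24)⁻¹) * w2⁻¹ := by rw [hww]; group
      _ = w2 * ((u * v * (u : Fi24)⁻¹) * (v : Fi24)⁻¹) * w2⁻¹ := by group
      _ = ((u * v * (u : Fi24)⁻¹) * (v : Fi24)⁻¹) * w2 * w2⁻¹ := by
          rw [k2 _ (Subgroup.mul_mem _ (Subgroup.mul_mem _ (Subgroup.mul_mem _ u.2 v.2)
            (Subgroup.inv_mem _ u.2)) (Subgroup.inv_mem _ v.2))]
      _ = _ := by group
  exact key (Subgroup.mem_top (⟨x, hx⟩ : Cab a b))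

/-- the centralizer of `C(a, b)` -/
theorem fix_ab {a b : Fi24} (P : At a b) {g : Fi24} (h : ∀ x ∈ Cab a b, g * x * g⁻¹ = x) :
    g * a = a * g ∧ g * b = b * g := by
  obtain ⟨c, hc⟩ := exists_nb P
  have h1 := pair_fix P.ha hc.hc hc.ca.symm hc.na.symm (h _ (mul_mem_Cab P.ha hc.hc P.ab hc.ca hc.cb))
  have hz : a * b ∈ Cab a b := by rw [← P.hz]; exact P.z.2
  have h2 := pair_fix P.ha P.hb P.ab P.ne (h _ hz)
  rw [← TetBig.fix_iff, ← TetBig.fix_iff]
  rcases h2 with h2 | h2
  · exact h2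
  · exfalso
    rcases h1 with h1 | h1
    · exact P.ne (h1.1.symm.trans h2.1)
    · exact hc.nb (h1.1.symm.trans h2.1)

theorem fi22_center {p : Fi22} (h : ∀ q : Fi22, p * q = q * p) : p = 1 := by
  have h1 := Cfsg.Agent.S1696.result
  have h2 : IsSimpleGroup Fi22 := h1.1
  rcases (inferInstance : (center Fi22).Normal).eq_bot_or_eq_top with h3 | h3
  · have : p ∈ center Fi22 := mem_center_iff.2 fun q => (h q).symm
    rw [h3, mem_bot] at this
    exact this
  · exfalso
    have hc : ∀ a b : Fi22, a * b = b * a := fun a b => by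
      have : a ∈ center Fi22 := by rw [h3]; exact mem_top _
      exact (mem_center_iff.1 this b).symm
    letI : CommGroup Fi22 := { (inferInstance : Group Fi22) with mul_comm := hc }
    have : Finite Fi22 := Nat.finite_of_card_ne_zero (by rw [h1.2]; norm_num)
    have h4 := IsSimpleGroup.prime_card (α := Fi22)
    rw [h1.2] at h4
    revert h4
    norm_num

theorem mem_of_fix {a b : Fi24} (P : At a b) {g : Fi24} (hg : g ∈ commutator Fi24)
    (h : ∀ x ∈ Cab a b, g * x * g⁻¹ = x) : g = 1 ∨ g = a * b := by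
  obtain ⟨h1, h2⟩ := fix_ab P h
  have hgm : g ∈ Cab a b := mem_Cab.2 ⟨mem_commutator_iff.1 hg, h1, h2⟩
  have h3 : P.π ⟨g, hgm⟩ = 1 := by
    apply fi22_center
    intro q
    obtain ⟨y, rfl⟩ := P.lift.ext.surj q
    rw [← map_mul, ← map_mul]
    congr 1
    apply Subtype.ext
    exact TetBig.fix_iff.1 (h _ y.2)
  rcases (P.lift.ext.ker _).1 h3 with h4 | h4
  · left; exact congrArg Subtype.val h4
  · right
    have := congrArg Subtype.val h4
    rw [P.hz] at this
    exact this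

/-- an element centralizing `C(a, b)` is `1`, `ab`, `a` or `b` -/
theorem cases_of_fix {a b : Fi24} (P : At a b) {g : Fi24} (h : ∀ x ∈ Cab a b, g * x * g⁻¹ = x) :
    g ∈ commutator Fi24 ∨ g = a ∨ g = b := by
  by_cases hg : g ∈ commutator Fi24
  · exact Or.inl hg
  right
  have h1 : g * a ∈ commutator Fi24 := by
    rw [Subgroup.mul_mem_iff_of_index_two index_commutator]
    exact ⟨fun h => absurd h hg, fun h => absurd h (FiTwentyFour.odd P.ha)⟩
  rcases mem_of_fix P h1 (fun x hx => by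
    obtain ⟨-, hxa, -⟩ := mem_Cab.1 hx
    calc g * a * x * (g * a)⁻¹ = g * (a * x) * a⁻¹ * g⁻¹ := by group
      _ = g * (x * a) * a⁻¹ * g⁻¹ := by rw [hxa]
      _ = g * x * g⁻¹ := by group
      _ = x := h x hx) with h2 | h2
  · left
    have e : g = a⁻¹ := eq_inv_of_mul_eq_one_left h2
    rw [e, facts.tr.inv P.ha]
  · right
    have : g * a = b * a := by rw [h2, P.ab.eq]
    exact mul_right_cancel this

/-! ### Normal subgroups of `C(a)` and `C(a, b)` -/

/-- `C(a)` is simple of order `|Fi23|` -/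
theorem card_of_normal {a : Fi24} (ha : a ∈ L) {N : Subgroup Fi24} (hN : N ≤ commutator Fi24)
    (hNa : ∀ n ∈ N, n * a = a * n)
    (hn : ∀ c ∈ commutator Fi24, c * a = a * c → ∀ n ∈ N, c * n * c⁻¹ ∈ N) (h1 : N ≠ ⊥) :
    Nat.card N = 4089470473293004800 := by
  have F := FiTwentyFour.facts
  obtain ⟨h, rfl⟩ := isConj_iff.1 (show IsConj (Fischer.Fi24Class.gen .l) a from ha)
  have h97 := Cfsg.Agent.S1697.result
  have hs : IsSimpleGroup Fi23 := h97.1
  let ψ : Fi23 →* Fi24 := (MulAut.conj h).toMonoidHom.comp F.phi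
  have hψi : Function.Injective ψ := (MulAut.conj h).injective.comp F.phi_injective
  have hψ : ∀ g : Fi24, g ∈ commutator Fi24 → g * (h * Fischer.Fi24Class.gen .l * h⁻¹) =
      (h * Fischer.Fi24Class.gen .l * h⁻¹) * g → ∃ k, ψ k = g := by
    intro g hg hgc
    obtain ⟨k, hk⟩ := (F.mem_range_iff (h⁻¹ * g * h)).2 ⟨by
      calc h⁻¹ * g * h * Fischer.Fi24Class.gen .l
          = h⁻¹ * (g * (h * Fischer.Fi24Class.gen .l * h⁻¹)) * h := by group
        _ = h⁻¹ * ((h * Fischer.Fi24Class.gen .l * h⁻¹) * g) * h := by rw [hgc]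
        _ = _ := by group, by
      rw [← mem_commutator_iff]
      have := (inferInstance : (commutator Fi24).Normal).conj_mem g hg h⁻¹
      rwa [inv_inv] at this⟩
    refine ⟨k, ?_⟩
    show h * F.phi k * h⁻¹ = g
    rw [hk]
    group
  have hψc : ∀ k, ψ k ∈ commutator Fi24 ∧ ψ k * (h * Fischer.Fi24Class.gen .l * h⁻¹) =
      (h * Fischer.Fi24Class.gen .l * h⁻¹) * ψ k := by
    intro k
    have e : ψ k = h * F.phi k * h⁻¹ := rfl
    have h1 : F.phi k ∈ commutator Fi24 := mem_commutator_iff.2 (F.sgn_phi k)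
    refine ⟨?_, ?_⟩
    · rw [e]
      exact (inferInstance : (commutator Fi24).Normal).conj_mem _ h1 h
    · rw [e]
      calc h * F.phi k * h⁻¹ * (h * Fischer.Fi24Class.gen .l * h⁻¹)
          = h * (F.phi k * Fischer.Fi24Class.gen .l) * h⁻¹ := by group
        _ = h * (Fischer.Fi24Class.gen .l * F.phi k) * h⁻¹ := by rw [F.phi_comm]
        _ = _ := by group
  have hnor : (N.comap ψ).Normal := by
    refine ⟨fun n hn' g => ?_⟩
    rw [mem_comap, map_mul, map_mul, map_inv]
    exact hn _ (hψc g).1 (hψc g).2 _ hn'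
  rcases hnor.eq_bot_or_eq_top with h2 | h2
  · exfalso
    apply h1
    rw [eq_bot_iff]
    intro n hn'
    obtain ⟨k, rfl⟩ := hψ n (hN hn') (hNa n hn')
    have : k ∈ N.comap ψ := hn'
    rw [h2, mem_bot] at this
    rw [this, map_one]
    exact one_mem _
  · have e : N = ψ.range := by
      apply le_antisymm
      · intro n hn'
        obtain ⟨k, hk⟩ := hψ n (hN hn') (hNa n hn')
        exact ⟨k, hk⟩
      · rintro _ ⟨k, rfl⟩
        have : k ∈ N.comap ψ := by rw [h2]; exact mem_top _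
        exact this
    rw [e, ← h97.2]
    exact Nat.card_congr (MonoidHom.ofInjective hψi).symm.toEquiv

theorem alternatives {a b : Fi24} (P : At a b) {N : Subgroup (Cab a b)} (hN : N.Normal) :
    (∀ x ∈ N, x = 1 ∨ x = P.z) ∨ (∀ x : Cab a b, x ∈ N ∨ x * P.z ∈ N) := by
  have hs : IsSimpleGroup Fi22 := Cfsg.Agent.S1696.result.1
  rcases (hN.map P.π P.lift.ext.surj).eq_bot_or_eq_top with h | h
  · left
    intro x hx
    apply (P.lift.ext.ker x).1
    have : P.π x ∈ N.map P.π := ⟨x, hx, rfl⟩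
    rw [h, mem_bot] at this
    exact this
  · right
    intro x
    have : P.π x ∈ N.map P.π := by rw [h]; exact mem_top _
    obtain ⟨n, hn, hx⟩ := this
    rcases P.lift.ext.map_eq.1 hx with rfl | rfl
    · exact Or.inl hn
    · right; exact hn

theorem card_Cab {a b : Fi24} (P : At a b) : Nat.card (Cab a b) = 2 * 64561751654400 := by
  have h1 : P.π.ker = zpowers P.z := by
    ext x
    rw [MonoidHom.mem_ker, P.lift.ext.ker, mem_zpowers_iff]
    constructor
    · rintro (rfl | rfl)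
      · exact ⟨0, by simp⟩
      · exact ⟨1, by simp⟩
    · rintro ⟨n, rfl⟩
      have hz : P.z ^ (2 : ℤ) = 1 := by
        have := P.lift.ext.zz
        rw [zpow_two]; exact this
      rcases Int.even_or_odd n with ⟨m, rfl⟩ | ⟨m, rfl⟩
      · left
        rw [← two_mul, zpow_mul, hz, one_zpow]
      · right
        rw [zpow_add, zpow_mul, hz, one_zpow, one_mul, zpow_one]
  have h2 : Nat.card P.π.ker = 2 := by
    rw [h1, Nat.card_zpowers]
    exact orderOf_eq_prime (by rw [pow_two]; exact P.lift.ext.zz) P.lift.ext.zne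
  have h3 : P.π.ker.index = 64561751654400 := by
    rw [index_ker, MonoidHom.range_eq_top.2 P.lift.ext.surj]
    rw [Nat.card_congr Subgroup.topEquiv.toEquiv, Cfsg.Agent.S1696.result.2]
  rw [← Subgroup.card_mul_index P.π.ker, h2, h3]

/-- the trace on `C(a, b)` of a subgroup of `Fi24'` -/
def res (a b : Fi24) (N : Subgroup Spor.Fi24') : Subgroup (Cab a b) :=
  (N.map (commutator Fi24).subtype).comap (Cab a b).subtype

theorem mem_res {a b : Fi24} {N : Subgroup Spor.Fi24'} {x : Cab a b} :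
    x ∈ res a b N ↔ (⟨(x : Fi24), x.2.1⟩ : Spor.Fi24') ∈ N := by
  constructor
  · rintro ⟨n, hn, h⟩
    have : n = (⟨(x : Fi24), x.2.1⟩ : Spor.Fi24') := Subtype.ext h
    rw [← this]; exact hn
  · intro h
    exact ⟨_, h, rfl⟩

theorem res_normal {a b : Fi24} {w : Spor.Fi24'} (hw : (w : Fi24) = a * b) {N : Subgroup Spor.Fi24'}
    (hN : ∀ c : Spor.Fi24', c * w = w * c → ∀ n ∈ N, c * n * c⁻¹ ∈ N) : (res a b N).Normal := by
  refine ⟨fun n hn g => ?_⟩
  rw [mem_res] at hn ⊢
  have hg := mem_Cab.1 g.2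
  have h1 := hN (⟨(g : Fi24), g.2.1⟩ : Spor.Fi24') (by
    apply Subtype.ext
    show (g : Fi24) * (w : Fi24) = w * g
    rw [hw, ← mul_assoc, hg.2.1, mul_assoc, hg.2.2, mul_assoc]) _ hn
  exact h1

/-- an element commuting with `ab`, `ac` fixes `a` -/
theorem fix_two {a b c g : Fi24} (ha : a ∈ L) (hb : b ∈ L) (hc : c ∈ L) (hab : Commute a b) (hac : Commute a c)
    (nab : a ≠ b) (nac : a ≠ c) (nbc : b ≠ c) (h1 : g * (a * b) * g⁻¹ = a * b)
    (h2 : g * (a * c) * g⁻¹ = a * c) : g * a * g⁻¹ = a := by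
  rcases pair_fix ha hb hab nab h1 with h3 | h3
  · exact h3.1
  · rcases pair_fix ha hc hac nac h2 with h4 | h4
    · exact h4.1
    · exact absurd (h3.1.symm.trans h4.1) nbc

/-- an element of odd order commuting with `ab` commutes with `a` -/
theorem fix_of_odd {a b g : Fi24} (ha : a ∈ L) (hb : b ∈ L) (hab : Commute a b) (nab : a ≠ b)
    (h1 : g * (a * b) * g⁻¹ = a * b) (ho : Odd (orderOf g)) : g * a = a * g ∧ g * b = b * g := by
  rcases pair_fix ha hb hab nab h1 with h2 | h2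
  · exact ⟨TetBig.fix_iff.1 h2.1, TetBig.fix_iff.1 h2.2⟩
  · exfalso
    have h3 : (g * g) * a = a * (g * g) := by
      have : g * (g * a * g⁻¹) * g⁻¹ = a := by rw [h2.1, h2.2]
      calc g * g * a = (g * (g * a * g⁻¹) * g⁻¹) * (g * g) := by group
        _ = _ := by rw [this]
    obtain ⟨k, hk⟩ := ho
    have h4 : g = (g * g) ^ (k + 1) := by
      rw [← pow_two, ← pow_mul]
      have : 2 * (k + 1) = (2 * k + 1) + 1 := by ring
      rw [this, pow_succ, ← hk, pow_orderOf_eq_one, one_mul]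
    have h5 : g * a = a * g := by
      rw [h4]
      exact (Commute.pow_left (show Commute (g * g) a from h3) (k + 1)).eq
    have h6 : g * a * g⁻¹ = a := TetBig.fix_iff.2 h5
    exact nab (h6.symm.trans h2.1)

/-- the squares of the elements of `Q` -/
theorem sq_Q {s v : Fi24} (hne : ∃ e f, Mate L s e f) (hv : v ∈ Q L s) : v * v = 1 ∨ v * v = s := by
  have hT := facts.tr
  obtain ⟨e, f, hm⟩ := hne
  have hss : s * s = 1 := by
    obtain ⟨c, d, h⟩ := hm
    exact h.sq_s hT
  induction hv using Subgroup.closure_induction with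
  | mem x hx =>
    obtain ⟨e, f, h, rfl⟩ := hx
    have h3 := h.mem
    left
    exact sq_pair hT h3.1 h3.2.1 h3.2.2.1
  | one => left; rw [one_mul]
  | mul x y hx hy ihx ihy =>
    have cx : Commute x s := comm_s_of_mem hx
    have cy : Commute y s := comm_s_of_mem hy
    have hxy : x * y * (x * y) = x * x * (y * y) ∨ x * y * (x * y) = s * (x * x * (y * y)) := by
      rcases conj_mem hT hy hx with h | h
      · left
        have : y * x = x * y := by
          calc y * x = y * x * y⁻¹ * y := by group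
            _ = _ := by rw [h]
        calc x * y * (x * y) = x * (y * x) * y := by group
          _ = x * (x * y) * y := by rw [this]
          _ = _ := by group
      · right
        have : y * x = s * x * y := by
          calc y * x = y * x * y⁻¹ * y := by group
            _ = _ := by rw [h]
        calc x * y * (x * y) = x * (y * x) * y := by group
          _ = (x * s) * x * y * y := by rw [this]; group
          _ = (s * x) * x * y * y := by rw [cx.eq]
          _ = _ := by group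
    rcases ihx with h1 | h1 <;> rcases ihy with h2 | h2 <;> rw [h1, h2] at hxy
    · rcases hxy with h | h
      · left; rw [h, one_mul]
      · right; rw [h, one_mul, mul_one]
    · rcases hxy with h | h
      · right; rw [h, one_mul]
      · left; rw [h, one_mul, hss]
    · rcases hxy with h | h
      · right; rw [h, mul_one]
      · left; rw [h, mul_one, hss]
    · rcases hxy with h | h
      · left; rw [h, hss]
      · right; rw [h, hss, mul_one]
  | inv x hx ih =>
    have e : x⁻¹ * x⁻¹ = (x * x)⁻¹ := by group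
    rw [e]
    rcases ih with h | h
    · left; rw [h, inv_one]
    · right
      rw [h]
      exact inv_eq_of_mul_eq_one_left hss

/-- an element of odd order of a group of odd order which is a 2-element -/
theorem eq_one_of_odd {I : Subgroup Spor.Fi24'} (hI : Odd (Nat.card I)) {x : Spor.Fi24'} (hx : x ∈ I)
    (h4 : x ^ 4 = 1) : x = 1 := by
  have h1 : orderOf x ∣ Nat.card I := by
    have := orderOf_dvd_natCard (⟨x, hx⟩ : I)
    rwa [Subgroup.orderOf_mk] at this
  have h2 : orderOf x ∣ 2 ^ 2 := orderOf_dvd_of_pow_eq_one (by norm_num; exact h4)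
  exact orderOf_eq_one_iff.1 (Nat.eq_one_of_dvd_coprimes (Nat.Coprime.pow_left 2 hI.coprime_two_left) h2 h1)

theorem pow4 (v : Fi24) : v ^ 4 = v * v * (v * v) := by
  rw [show (4 : ℕ) = 2 + 2 from rfl, pow_add, pow_two]

theorem pair_pow {a b : Fi24} (ha : a ∈ L) (hb : b ∈ L) (hab : Commute a b) : (a * b) ^ 4 = 1 := by
  rw [pow4, sq_pair facts.tr ha hb hab, one_mul]

theorem pair_ne {a b : Fi24} (hb : b ∈ L) (nab : a ≠ b) : a * b ≠ 1 := by
  intro h
  apply nab
  rw [← facts.tr.inv hb]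
  exact eq_inv_of_mul_eq_one_left h

theorem bal_pair {a b : Fi24} (P : At a b) {w : Spor.Fi24'} (hw : (w : Fi24) = a * b)
    (I : Subgroup Spor.Fi24') (h1 : ∀ i ∈ I, i * w = w * i)
    (h2 : ∀ c : Spor.Fi24', c * w = w * c → ∀ i ∈ I, c * i * c⁻¹ ∈ I) (h3 : Odd (Nat.card ↥I)) : I = ⊥ := by
  rw [eq_bot_iff]
  intro i hi
  rw [mem_bot]
  have hodd : Odd (orderOf (i : Fi24)) := by
    rw [Subgroup.orderOf_coe]
    have : orderOf i ∣ Nat.card I := by
      have := orderOf_dvd_natCard (⟨i, hi⟩ : I)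
      rwa [Subgroup.orderOf_mk] at this
    exact Odd.of_dvd_nat h3 this
  have hc : (i : Fi24) * (a * b) * (i : Fi24)⁻¹ = a * b := by
    have := congrArg Subtype.val (h1 i hi)
    rw [TetBig.fix_iff, ← hw]
    exact this
  obtain ⟨e1, e2⟩ := fix_of_odd P.ha P.hb P.ab P.ne hc hodd
  have him : (i : Fi24) ∈ Cab a b := mem_Cab.2 ⟨mem_commutator_iff.1 i.2, e1, e2⟩
  rcases alternatives P (res_normal hw h2) with h | h
  · rcases h ⟨i, him⟩ (mem_res.2 hi) with h4 | h4
    · have h5 : (i : Fi24) = 1 := congrArg Subtype.val h4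
      exact Subtype.ext h5
    · have h5 : (i : Fi24) = a * b := by
        rw [← P.hz]
        exact congrArg Subtype.val h4
      apply eq_one_of_odd h3 hi
      apply Subtype.ext
      show (i : Fi24) ^ 4 = 1
      rw [h5]
      exact pair_pow P.ha P.hb P.ab
  · exfalso
    obtain ⟨c, hc⟩ := exists_nb P
    rcases h (P.x hc) with h4 | h4
    · have h5 := eq_one_of_odd h3 (mem_res.1 h4) (by
        apply Subtype.ext
        show (a * c) ^ 4 = 1
        exact pair_pow P.ha hc.hc hc.ca.symm)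
      have h6 : a * c = 1 := congrArg Subtype.val h5
      exact pair_ne hc.hc hc.na.symm h6
    · have e : ((P.x hc * P.z : Cab a b) : Fi24) = c * b := by
        rw [Subgroup.coe_mul, P.coe_x, P.hz]
        have h1 : c * a = a * c := hc.ca
        calc a * c * (a * b) = a * (c * a) * b := by group
          _ = (a * a) * (c * b) := by rw [h1]; group
          _ = c * b := by rw [P.aa, one_mul]
      have h5 := eq_one_of_odd h3 (mem_res.1 h4) (by
        apply Subtype.ext
        show ((P.x hc * P.z : Cab a b) : Fi24) ^ 4 = 1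
        rw [e]
        exact pair_pow hc.hc P.hb hc.cb)
      have h6 : ((P.x hc * P.z : Cab a b) : Fi24) = 1 := congrArg Subtype.val h5
      rw [e] at h6
      exact pair_ne P.hb hc.nb h6

theorem Q_le {s : Fi24} : Q L s ≤ commutator Fi24 := by
  unfold Q
  rw [closure_le]
  rintro _ ⟨e, f, h, rfl⟩
  exact facts.even e h.mem.1 f h.mem.2.1

theorem bal_tet {s a b c d : Fi24} (h : IsTet L s a b c d) {w : Spor.Fi24'} (hw : (w : Fi24) = s)
    (I : Subgroup Spor.Fi24') (h1 : ∀ i ∈ I, i * w = w * i)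
    (h2 : ∀ c : Spor.Fi24', c * w = w * c → ∀ i ∈ I, c * i * c⁻¹ ∈ I) (h3 : Odd (Nat.card ↥I)) : I = ⊥ := by
  have hT := facts.tr
  rw [eq_bot_iff]
  intro i hi
  rw [mem_bot]
  have his : Commute (i : Fi24) s := by
    have := congrArg Subtype.val (h1 i hi)
    rw [← hw]
    exact this
  have key : ∀ q ∈ Q L s, (i : Fi24) * q * (i : Fi24)⁻¹ = q := by
    intro q hq
    have hqs : Commute q s := comm_s_of_mem hq
    set q' : Spor.Fi24' := ⟨q, Q_le hq⟩ with hq'
    have h4 : q' * w = w * q' := by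
      apply Subtype.ext
      show q * (w : Fi24) = (w : Fi24) * q
      rw [hw]; exact hqs.eq
    have h5 : i * (q' * i⁻¹ * q'⁻¹) ∈ I := mul_mem hi (h2 q' h4 _ (inv_mem hi))
    have h6 : ((i * (q' * i⁻¹ * q'⁻¹) : Spor.Fi24') : Fi24) = (i : Fi24) * q * (i : Fi24)⁻¹ * q⁻¹ := by
      push_cast
      rw [hq']
      group
    have h7 : (i : Fi24) * q * (i : Fi24)⁻¹ * q⁻¹ ∈ Q L s := mul_mem (conj_Q hT his hq) (inv_mem hq)
    have h8 := sq_Q ⟨a, b, c, d, h⟩ h7
    have h9 := eq_one_of_odd h3 h5 (by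
      apply Subtype.ext
      show ((i * (q' * i⁻¹ * q'⁻¹) : Spor.Fi24') : Fi24) ^ 4 = 1
      rw [h6]
      rw [pow4]
      rcases h8 with h8 | h8 <;> rw [h8]
      · rw [one_mul]
      · exact h.sq_s hT)
    have h10 : (i : Fi24) * q * (i : Fi24)⁻¹ * q⁻¹ = 1 := by
      rw [← h6, h9]; rfl
    exact mul_inv_eq_one.1 h10
  have fixe : ∀ {e f g k : Fi24}, IsTet L s e f g k → Commute (i : Fi24) e := by
    intro e f g k he
    have h4 := fix_two he.ha he.hb he.hc he.ab he.ac he.nab he.nac he.nbc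
      (key _ (pair_mem ⟨g, k, he⟩)) (key _ (pair_mem ⟨f, k, he.sw23⟩))
    exact TetBig.fix_iff.1 h4
  have h4 := facts.cent s a b c d h i i.2 (fixe h) (fixe h.sw12) (fixe h.sw13) (fixe h.sw14) (by
    intro e he ea eb ec ed
    by_cases na : e = a
    · rw [na]; exact fixe h
    by_cases nb : e = b
    · rw [nb]; exact fixe h.sw12
    by_cases nc : e = c
    · rw [nc]; exact fixe h.sw13
    by_cases nd : e = d
    · rw [nd]; exact fixe h.sw14
    obtain ⟨f, g, k, h5⟩ := facts.octad s a b c d h e he ea eb ec ed na nb nc nd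
    exact fixe h5)
  have hii : (i : Fi24) ^ 4 = 1 := by
    rcases h4 with h4 | h4 | ⟨e1, f1, hm, h4⟩
    · rw [h4, one_pow]
    · rw [pow4, h4, h.sq_s hT, one_mul]
    · rw [h4]
      exact pair_pow hm.mem.1 hm.mem.2.1 hm.mem.2.2.1
  exact eq_one_of_odd h3 hi (Subtype.ext hii)

/-! ### The tetrad involutions are 2-central -/

theorem not_pair_of_cen [Finite Fi24] {a b : Fi24} (P : At a b) {w : Spor.Fi24'} (hw : (w : Fi24) = a * b) :
    ¬ Cen w := by
  rintro ⟨S, hS⟩
  have : Fact (Nat.Prime 2) := ⟨Nat.prime_two⟩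
  have h21 : 2 ^ 21 ∣ Nat.card S := by
    apply S.pow_dvd_card_of_pow_dvd_card
    rw [card_commutator]
    norm_num
  have hsw : ∀ x : S, (((x : Spor.Fi24') : Fi24) * a * ((x : Spor.Fi24') : Fi24)⁻¹ = a ∧
      ((x : Spor.Fi24') : Fi24) * b * ((x : Spor.Fi24') : Fi24)⁻¹ = b) ∨
      (((x : Spor.Fi24') : Fi24) * a * ((x : Spor.Fi24') : Fi24)⁻¹ = b ∧
      ((x : Spor.Fi24') : Fi24) * b * ((x : Spor.Fi24') : Fi24)⁻¹ = a) := by
    intro x
    apply pair_fix P.ha P.hb P.ab P.ne
    have := congrArg Subtype.val (hS x x.2)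
    rw [TetBig.fix_iff, ← hw]
    exact this
  let f : S →* Fi24 := (commutator Fi24).subtype.comp (S : Subgroup Spor.Fi24').subtype
  have hf : ∀ x, f x = ((x : Spor.Fi24') : Fi24) := fun _ => rfl
  let T : Subgroup S := (centralizer ({a} : Set Fi24)).comap f
  have hT : ∀ x : S, x ∈ T ↔ f x * a = a * f x := fun x => by
    show f x ∈ centralizer ({a} : Set Fi24) ↔ _
    rw [mem_centralizer_singleton_iff]
  have hTi : T.index ∣ 2 := by
    by_cases hall : ∀ x : S, x ∈ T
    · have : T = ⊤ := by rw [eq_top_iff]; exact fun x _ => hall x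
      rw [this, index_top]
      exact one_dvd _
    · push Not at hall
      obtain ⟨x0, hx0⟩ := hall
      have key : ∀ x : S, x ∉ T → f x * a * (f x)⁻¹ = b ∧ f x * b * (f x)⁻¹ = a := by
        intro x hx
        rcases hsw x with h | h
        · exact absurd ((hT x).2 (TetBig.fix_iff.1 h.1)) hx
        · exact h
      have : T.index = 2 := by
        rw [index_eq_two_iff]
        refine ⟨x0, fun x => ?_⟩
        by_cases hx : x ∈ T
        · exact Or.inr ⟨hx, fun h => hx0 ((T.mul_mem_cancel_left hx).1 h)⟩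
        · refine Or.inl ⟨(hT _).2 (TetBig.fix_iff.1 ?_), hx⟩
          rw [map_mul]
          calc f x * f x0 * a * (f x * f x0)⁻¹ = f x * (f x0 * a * (f x0)⁻¹) * (f x)⁻¹ := by group
            _ = a := by rw [(key x0 hx0).1, (key x hx).2]
      rw [this]
  have hTc : Nat.card T ∣ Nat.card (Cab a b) := by
    let g : T →* Cab a b := (f.comp T.subtype).codRestrict (Cab a b) (by
      intro x
      have h1 := (hT x).1 x.2
      have h2 : f x * b = b * f x := by
        rcases hsw x with h | h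
        · exact TetBig.fix_iff.1 h.2
        · exfalso
          exact P.ne ((TetBig.fix_iff.2 h1).symm.trans h.1)
      exact mem_Cab.2 ⟨mem_commutator_iff.1 ((x : S) : Spor.Fi24').2, h1, h2⟩)
    apply Subgroup.card_dvd_of_injective g
    intro x y hxy
    apply Subtype.ext
    apply Subtype.ext
    apply Subtype.ext
    have h5 : ((g x : Cab a b) : Fi24) = ((g y : Cab a b) : Fi24) := by rw [hxy]
    exact h5
  have h1 : 2 ^ 21 ∣ 2 * 64561751654400 * 2 := by
    rw [← T.card_mul_index] at h21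
    rw [card_Cab P] at hTc
    exact h21.trans (Nat.mul_dvd_mul hTc hTi)
  revert h1
  norm_num

theorem cen_tet {z : Spor.Fi24'} {P : Subgroup Spor.Fi24'} (hB : D8.Sheet.Basic z P) {w : Spor.Fi24'}
    {a b c d : Fi24} (h : IsTet L (w : Fi24) a b c d) : Cen w := by
  have := finite_Fi24
  have hz := cen_z hB
  have h1 : (z : Fi24) * z = 1 := congrArg Subtype.val hB.zz
  have h2 : (z : Fi24) ≠ 1 := fun h => hB.z1 (Subtype.ext h)
  rcases facts.invol z z.2 h1 h2 with ⟨a', ha', b', hb', nab, cab, h3⟩ | ⟨a', b', c', d', h3⟩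
  · exfalso
    obtain ⟨Q⟩ := exists_at ha' hb' nab cab
    exact not_pair_of_cen Q h3 hz
  · obtain ⟨g, hg, e1, e2, e3, e4⟩ := TetBig.quad TetBigInst.hyp h3 h
    refine cen_conj (z := z) (g := ⟨g, hg⟩) ?_ hz
    apply Subtype.ext
    show g * (z : Fi24) * g⁻¹ = w
    rw [← h3.prod, ← h.prod, TetBig.conj_mul, TetBig.conj_mul, TetBig.conj_mul, e1, e2, e3, e4]

/-- an involution which is not 2-central is a product of two transpositions -/
theorem pair_of_not_cen {z : Spor.Fi24'} {P : Subgroup Spor.Fi24'} (hB : D8.Sheet.Basic z P)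
    {w : Spor.Fi24'} (hw : w * w = 1) (h1 : w ≠ 1) (hn : ¬ Cen w) :
    ∃ a b : Fi24, ∃ _ : At a b, (w : Fi24) = a * b := by
  rcases facts.invol w w.2 (congrArg Subtype.val hw) (fun h => h1 (Subtype.ext h)) with
    ⟨a, ha, b, hb, nab, cab, h3⟩ | ⟨a, b, c, d, h3⟩
  · obtain ⟨Q⟩ := exists_at ha hb nab cab
    exact ⟨a, b, Q, h3⟩
  · exact absurd (cen_tet hB h3) hn

theorem not_bad {z : Spor.Fi24'} {P : Subgroup Spor.Fi24'} (hB : D8.Sheet.Basic z P) (w : Spor.Fi24')
    (N : Subgroup Spor.Fi24') : ¬ Bad w N := by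
  intro hN
  have := finite_Fi24
  have : Finite Spor.Fi24' := inferInstance
  obtain ⟨a, b, Q, hw⟩ := pair_of_not_cen hB hN.sq hN.ne (hN.non w hN.mem hN.sq hN.ne)
  have hz : (Q.z : Fi24) = w := by rw [Q.hz, hw]
  have hzN : Q.z ∈ res a b N := by
    rw [mem_res]
    have : (⟨(Q.z : Fi24), Q.z.2.1⟩ : Spor.Fi24') = w := Subtype.ext hz
    rw [this]; exact hN.mem
  rcases alternatives Q (res_normal hw hN.norm) with h | h
  · -- `N` is not in `C(a, b)`
    obtain ⟨y, hy, hy1, hyw⟩ : ∃ y ∈ N, y ≠ 1 ∧ y ≠ w := by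
      by_contra hcon
      push Not at hcon
      have h1 : (N : Set Spor.Fi24') ⊆ {1, w} := by
        intro y hy
        by_cases hy1 : y = 1
        · exact Or.inl hy1
        · exact Or.inr (hcon y hy hy1)
      have h2 := Set.ncard_le_ncard h1 (Set.toFinite _)
      have h3 : (({1, w} : Set Spor.Fi24')).ncard ≤ 2 := by
        have := Set.ncard_insert_le (1 : Spor.Fi24') {w}
        rwa [Set.ncard_singleton] at this
      have h4 : (N : Set Spor.Fi24').ncard = Nat.card N := rfl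
      have h5 := Nat.le_of_dvd (by
        have := Nat.card_pos (α := ↥N)
        exact this) hN.four
      omega
    have hyc : (y : Fi24) * (a * b) * (y : Fi24)⁻¹ = a * b := by
      rw [TetBig.fix_iff, ← hw]
      exact congrArg Subtype.val (hN.le y hy)
    rcases pair_fix Q.ha Q.hb Q.ab Q.ne hyc with h1 | h1
    · have hym : (y : Fi24) ∈ Cab a b :=
        mem_Cab.2 ⟨mem_commutator_iff.1 y.2, TetBig.fix_iff.1 h1.1, TetBig.fix_iff.1 h1.2⟩
      rcases h ⟨y, hym⟩ (mem_res.2 hy) with h2 | h2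
      · have h3 : (y : Fi24) = 1 := congrArg Subtype.val h2
        exact hy1 (Subtype.ext h3)
      · apply hyw
        apply Subtype.ext
        rw [← hz]
        exact congrArg Subtype.val h2
    · have h2 : ∀ x ∈ Cab a b, (y : Fi24) * x * (y : Fi24)⁻¹ = x ∨ (y : Fi24) * x * (y : Fi24)⁻¹ = a * b * x := by
        intro x hx
        have hx' : (y : Fi24) * x * (y : Fi24)⁻¹ ∈ Cab a b := by
          have h3 := conj_Cab (g := (y : Fi24)) hx
          rw [h1.1, h1.2] at h3
          obtain ⟨k1, k2, k3⟩ := mem_Cab.1 h3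
          exact mem_Cab.2 ⟨k1, k3, k2⟩
        obtain ⟨-, x1, x2⟩ := mem_Cab.1 hx
        have hxw : (⟨x, hx.1⟩ : Spor.Fi24') * w = w * ⟨x, hx.1⟩ := by
          apply Subtype.ext
          show x * (w : Fi24) = (w : Fi24) * x
          rw [hw, ← mul_assoc, x1, mul_assoc, x2, mul_assoc]
        have h4 : y * (⟨x, hx.1⟩ * y⁻¹ * (⟨x, hx.1⟩ : Spor.Fi24')⁻¹) ∈ N :=
          mul_mem hy (hN.norm _ hxw _ (inv_mem hy))
        have h5 : (y : Fi24) * x * (y : Fi24)⁻¹ * x⁻¹ ∈ Cab a b := mul_mem hx' (inv_mem hx)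
        have h6 : (⟨(y : Fi24) * x * (y : Fi24)⁻¹ * x⁻¹, h5.1⟩ : Spor.Fi24') =
            y * (⟨x, hx.1⟩ * y⁻¹ * (⟨x, hx.1⟩ : Spor.Fi24')⁻¹) := by
          apply Subtype.ext
          show (y : Fi24) * x * (y : Fi24)⁻¹ * x⁻¹ = (y : Fi24) * (x * (y : Fi24)⁻¹ * x⁻¹)
          group
        rcases h ⟨_, h5⟩ (mem_res.2 (by rw [← h6] at h4; exact h4)) with h7 | h7
        · left
          have : (y : Fi24) * x * (y : Fi24)⁻¹ * x⁻¹ = 1 := congrArg Subtype.val h7
          exact mul_inv_eq_one.1 this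
        · right
          have : (y : Fi24) * x * (y : Fi24)⁻¹ * x⁻¹ = a * b := by
            rw [← Q.hz]; exact congrArg Subtype.val h7
          rw [← this]; group
      have h3 := fix_ab Q (fun x hx => fix_all Q h2 hx)
      exact Q.ne ((TetBig.fix_iff.2 h3.1).symm.trans h1.1)
  · have hall : ∀ x : Cab a b, x ∈ res a b N := by
      intro x
      rcases h x with h1 | h1
      · exact h1
      · exact ((res a b N).mul_mem_cancel_right hzN).1 h1
    obtain ⟨c, hc⟩ := exists_nb Q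
    obtain ⟨d, hd, ccd, ncd⟩ := exists_nb2 Q hc
    have h1 := mem_res.1 (hall (Q.z * (Q.x hc * Q.x hd)))
    have e : ((Q.z * (Q.x hc * Q.x hd) : Cab a b) : Fi24) = a * b * c * d := by
      rw [Subgroup.coe_mul, Q.x_mul, Q.hz]
      group
    have ht : IsTet L ((Q.z * (Q.x hc * Q.x hd) : Cab a b) : Fi24) a b c d := by
      rw [e]
      exact ⟨Q.ha, Q.hb, hc.hc, hd.hc, Q.ab, hc.ca.symm, hd.ca.symm, hc.cb.symm, hd.cb.symm, ccd, Q.ne,
        hc.na.symm, hd.na.symm, hc.nb.symm, hd.nb.symm, ncd, rfl⟩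
    have h2 : Cen (⟨((Q.z * (Q.x hc * Q.x hd) : Cab a b) : Fi24), (Q.z * (Q.x hc * Q.x hd)).2.1⟩ : Spor.Fi24') :=
      cen_tet hB ht
    refine hN.non _ h1 ?_ ?_ h2
    · apply Subtype.ext
      exact ht.sq_s facts.tr
    · intro h3
      have h4 : ((Q.z * (Q.x hc * Q.x hd) : Cab a b) : Fi24) = 1 := congrArg Subtype.val h3
      rw [h4] at ht
      have h5 := ht.cd_eq facts.tr
      rw [one_mul] at h5
      exact facts.tr.four a Q.ha b Q.hb c hc.hc d hd.hc Q.ne hc.na.symm hd.na.symm hc.nb.symm hd.nb.symm ncd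
        Q.ab hc.ca.symm hd.ca.symm hc.cb.symm hd.cb.symm ccd h5.symm

/-- **The fact sheet of `Fi24'`** from the basic sheet of D8 and `Aut(Fi24') = Fi24`. -/
theorem sheet_of {z : Spor.Fi24'} {P : Subgroup Spor.Fi24'} (hB : D8.Sheet.Basic z P)
    (hAut : ∀ α : MulAut Spor.Fi24', ∃ g : Fi24, ∀ x : Spor.Fi24', (α x : Fi24) = g * x * g⁻¹) :
    Spor.Sheet Spor.Fi24' := by
  have := finite_Fi24
  have : Finite Spor.Fi24' := inferInstance
  refine Sheet.of_basic_tab hB ?_ ?_ (tab_of_not_bad (not_bad hB))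
  · intro t ht ht1 I h1 h2 h3
    rcases facts.invol t t.2 (congrArg Subtype.val ht) (fun h => ht1 (Subtype.ext h)) with
      ⟨a, ha, b, hb, nab, cab, h4⟩ | ⟨a, b, c, d, h4⟩
    · obtain ⟨Q⟩ := exists_at ha hb nab cab
      exact bal_pair Q h4 I h1 h2 h3
    · exact bal_tet h4 rfl I h1 h2 h3
  · intro α hα hαα w hw hw1 hwc hαw hαc N hwN hNα hNn hN4
    obtain ⟨a, b, Q, hwab⟩ := pair_of_not_cen hB hw hw1 hwc
    obtain ⟨g, hg⟩ := hAut α
    have hgc : g ∉ commutator Fi24 := by
      intro h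
      exact hα ⟨⟨g, h⟩, by
        ext x
        rw [MulAut.conj_apply]
        exact hg x⟩
    have h1 : ∀ x ∈ Cab a b, g * x * g⁻¹ = x ∨ g * x * g⁻¹ = a * b * x := by
      intro x hx
      obtain ⟨-, x1, x2⟩ := mem_Cab.1 hx
      have hxw : (⟨x, hx.1⟩ : Spor.Fi24') * w = w * ⟨x, hx.1⟩ := by
        apply Subtype.ext
        show x * (w : Fi24) = (w : Fi24) * x
        rw [hwab, ← mul_assoc, x1, mul_assoc, x2, mul_assoc]
      have h2 := hg ⟨x, hx.1⟩
      rcases hαc _ hxw with h3 | h3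
      · left
        rw [h3] at h2
        exact h2.symm
      · right
        rw [h3] at h2
        have h4 : ((w * ⟨x, hx.1⟩ : Spor.Fi24') : Fi24) = (w : Fi24) * x := rfl
        rw [h4, hwab] at h2
        exact h2.symm
    have h2 : g ∈ L := by
      rcases cases_of_fix Q (fun x hx => fix_all Q h1 hx) with h3 | h3 | h3
      · exact absurd h3 hgc
      · rw [h3]; exact Q.ha
      · rw [h3]; exact Q.hb
    have hcard : Nat.card (N.map (commutator Fi24).subtype) = 4089470473293004800 := by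
      apply card_of_normal h2
      · rintro _ ⟨n, -, rfl⟩
        exact n.2
      · rintro _ ⟨n, hn, rfl⟩
        have h3 := hg n
        rw [hNα n hn] at h3
        exact (TetBig.fix_iff.1 h3.symm).symm
      · rintro c hc hcg _ ⟨n, hn, rfl⟩
        refine ⟨⟨c, hc⟩ * n * ⟨c, hc⟩⁻¹, hNn _ ?_ n hn, rfl⟩
        apply Subtype.ext
        rw [hg]
        exact TetBig.fix_iff.2 hcg.symm
      · intro h3
        rw [Subgroup.map_eq_bot_iff_of_injective _ (commutator Fi24).subtype_injective] at h3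
        rw [h3, mem_bot] at hwN
        exact hw1 hwN
    rw [Subgroup.card_map_of_injective (commutator Fi24).subtype_injective] at hcard
    rw [hcard] at hN4
    norm_num at hN4

end Cfsg.Agent.OddHalf.D4.Spor.FiTF
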