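import Cfsg.Agent.OddHalf.D4.Spor.OfBasic

/-!
# ODD half, D4: the fact sheet of the Held group from its two classes of involutions (helper40)

`TwoA v V L` : the centralizer of `v` is `L.2`, `L` perfect with centre a four-group `V`, `L / V` simple, `C(L) = V`.
`sheet_of` : `Spor.Sheet X` from the basic sheet of D8 for `z`, `O(C(z)) = 1`, `TwoA v V L`, every involution is
conjugate to `z` or to `v`, `L` contains a conjugate of `z`, automorphisms centralizing `L` are inner.
-/

set_option autoImplicit false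

namespace Cfsg.Agent.OddHalf.D4.Spor.HeOf

open Subgroup Cfsg.Agent.OddHalf.D8 Cfsg.Agent.OddHalf.D4.Spor
open scoped commutatorElement

variable {X : Type*} [Group X]

/-- the centralizer of `v` is `L.2`, `L` perfect with centre the four-group `V`, `L / V` simple, `C(L) = V`,
some element of `C(v)` does not centralize `V` -/
structure TwoA (v : X) (V L : Subgroup X) : Prop where
  vv : v * v = 1
  v1 : v ≠ 1
  vV : v ∈ V
  cardV : Nat.card V = 4
  VL : V ≤ L
  comm : ∀ l ∈ L, ∀ x ∈ V, l * x = x * l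
  perf : ⁅L, L⁆ = L
  cen : ∀ x : X, (∀ l ∈ L, x * l = l * x) → x ∈ V
  norm : ∀ c : X, c * v = v * c → ∀ l ∈ L, c * l * c⁻¹ ∈ L
  two : ∀ c d : X, c * v = v * c → d * v = v * d → c ∈ L ∨ d ∈ L ∨ c * d ∈ L
  simp : ∀ N : Subgroup X, N ≤ L → (∀ l ∈ L, ∀ n ∈ N, l * n * l⁻¹ ∈ N) → N ≤ V ∨ N = L
  swap : ∃ x ∈ V, ∃ c : X, c * v = v * c ∧ c * x * c⁻¹ * x⁻¹ = v

/-- an endomorphism acting on the perfect group `L` trivially modulo `V`, `[L,V] = 1`, is trivial on `L` -/
theorem eq_of_central {L V : Subgroup X} (perf : ⁅L, L⁆ = L) (hV : ∀ x ∈ V, ∀ y ∈ V, x * y = y * x)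
    (hL : ∀ l ∈ L, ∀ x ∈ V, l * x = x * l) (α : X →* X) (h : ∀ l ∈ L, α l * l⁻¹ ∈ V) :
    ∀ l ∈ L, α l = l := by
  have key : ⁅L, L⁆ ≤ α.eqLocus (MonoidHom.id X) := by
    rw [commutator_le]
    intro a ha b hb
    show α ⁅a, b⁆ = ⁅a, b⁆
    obtain ⟨u, hu⟩ : ∃ u, u = α a * a⁻¹ := ⟨_, rfl⟩
    obtain ⟨w, hw⟩ : ∃ w, w = α b * b⁻¹ := ⟨_, rfl⟩
    have hu1 : u ∈ V := hu ▸ h a ha
    have hw1 : w ∈ V := hw ▸ h b hb
    have eu : α a = u * a := by rw [hu, inv_mul_cancel_right]
    have ew : α b = w * b := by rw [hw, inv_mul_cancel_right]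
    have c1 : Commute u w := hV u hu1 w hw1
    have c2 : Commute a u := hL a ha u hu1
    have c3 : Commute b u := hL b hb u hu1
    have c4 : Commute a w := hL a ha w hw1
    have c5 : Commute b w := hL b hb w hw1
    rw [map_commutatorElement, eu, ew, commutatorElement_def, commutatorElement_def]
    calc u * a * (w * b) * (u * a)⁻¹ * (w * b)⁻¹
        = u * (a * w) * b * a⁻¹ * u⁻¹ * b⁻¹ * w⁻¹ := by group
      _ = u * (w * a) * b * a⁻¹ * u⁻¹ * b⁻¹ * w⁻¹ := by rw [c4.eq]
      _ = (u * w) * (a * b * a⁻¹ * u⁻¹ * b⁻¹) * w⁻¹ := by group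
      _ = (w * u) * (a * b * a⁻¹ * u⁻¹ * b⁻¹) * w⁻¹ := by rw [c1.eq]
      _ = w * (u * (a * b * a⁻¹) * u⁻¹) * b⁻¹ * w⁻¹ := by group
      _ = w * (a * b * a⁻¹) * b⁻¹ * w⁻¹ := by
          have c6 : Commute u (a * b * a⁻¹) := (c2.symm.mul_right c3.symm).mul_right c2.symm.inv_right
          rw [c6.eq, mul_inv_cancel_right]
      _ = w * (a * b * a⁻¹ * b⁻¹) * w⁻¹ := by group
      _ = a * b * a⁻¹ * b⁻¹ := by
          have c7 : Commute w (a * b * a⁻¹ * b⁻¹) :=
            (((c4.symm.mul_right c5.symm).mul_right c4.symm.inv_right).mul_right c5.symm.inv_right)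
          rw [c7.eq, mul_inv_cancel_right]
  intro l hl
  rw [perf] at key
  exact key hl

theorem commV {v : X} {V L : Subgroup X} (h : TwoA v V L) : ∀ x ∈ V, ∀ y ∈ V, x * y = y * x :=
  fun x hx y hy => h.comm x (h.VL hx) y hy

/-- the normal subgroups of `C(v)` -/
theorem normal_cases {v : X} {V L : Subgroup X} (h : TwoA v V L) {N : Subgroup X}
    (hle : ∀ n ∈ N, n * v = v * n) (hN : ∀ c : X, c * v = v * c → ∀ n ∈ N, c * n * c⁻¹ ∈ N) :
    N ≤ V ∨ L ≤ N := by
  have hLc : ∀ l ∈ L, l * v = v * l := fun l hl => h.comm l hl v h.vV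
  rcases h.simp (N ⊓ L) inf_le_right (fun l hl n hn =>
    mem_inf.2 ⟨hN l (hLc l hl) n (mem_inf.1 hn).1, mul_mem (mul_mem hl (mem_inf.1 hn).2) (inv_mem hl)⟩) with h1 | h1
  · left
    intro n hn
    apply h.cen
    have h2 := eq_of_central h.perf (commV h) h.comm (MulAut.conj n).toMonoidHom (fun l hl => by
      apply h1
      have e1 : n * l * n⁻¹ ∈ L := h.norm n (hle n hn) l hl
      have e2 : l * n⁻¹ * l⁻¹ ∈ N := hN l (hLc l hl) _ (inv_mem hn)
      have e3 := mul_mem hn e2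
      have e4 : n * (l * n⁻¹ * l⁻¹) = n * l * n⁻¹ * l⁻¹ := by group
      rw [e4] at e3
      exact mem_inf.2 ⟨e3, mul_mem e1 (inv_mem hl)⟩)
    intro l hl
    have h3 : n * l * n⁻¹ = l := h2 l hl
    calc n * l = n * l * n⁻¹ * n := by group
      _ = l * n := by rw [h3]
  · right
    rw [← h1]
    exact inf_le_left

/-- transport along an automorphism -/
theorem TwoA.map {v : X} {V L : Subgroup X} (h : TwoA v V L) (e : MulAut X) :
    TwoA (e v) (V.map e.toMonoidHom) (L.map e.toMonoidHom) := by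
  have hs : ∀ x : X, e (e.symm x) = x := e.apply_symm_apply
  have hc : ∀ c x : X, c * e x = e x * c → e.symm c * x = x * e.symm c := by
    intro c x hc
    apply e.injective
    rw [map_mul, map_mul, hs, hc]
  refine ⟨?_, ?_, ⟨v, h.vV, rfl⟩, ?_, map_mono h.VL, ?_, ?_, ?_, ?_, ?_, ?_, ?_⟩
  · rw [← map_mul, h.vv, map_one]
  · intro h1
    exact h.v1 (e.injective (by rw [h1, map_one]))
  · rw [← h.cardV]
    exact Nat.card_congr (V.equivMapOfInjective e.toMonoidHom e.injective).symm.toEquiv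
  · rintro _ ⟨l, hl, rfl⟩ _ ⟨x, hx, rfl⟩
    show e l * e x = e x * e l
    rw [← map_mul, h.comm l hl x hx, map_mul]
  · rw [← map_commutator, h.perf]
  · intro x hx
    refine ⟨e.symm x, h.cen _ fun l hl => ?_, hs x⟩
    exact hc x l (hx (e l) ⟨l, hl, rfl⟩)
  · rintro c hcv _ ⟨l, hl, rfl⟩
    refine ⟨e.symm c * l * (e.symm c)⁻¹, h.norm _ (hc c v hcv) l hl, ?_⟩
    show e (e.symm c * l * (e.symm c)⁻¹) = c * e l * c⁻¹
    rw [map_mul, map_mul, map_inv, hs]
  · intro c d hcv hdv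
    rcases h.two _ _ (hc c v hcv) (hc d v hdv) with h1 | h1 | h1
    · exact Or.inl ⟨_, h1, hs c⟩
    · exact Or.inr (Or.inl ⟨_, h1, hs d⟩)
    · refine Or.inr (Or.inr ⟨_, h1, ?_⟩)
      show e (e.symm c * e.symm d) = c * d
      rw [map_mul, hs, hs]
  · intro N hN hn
    have h1 := h.simp (N.comap e.toMonoidHom) (by
      intro x hx
      obtain ⟨l, hl, hlx⟩ := hN hx
      rwa [← e.injective hlx]) (by
      intro l hl n hn'
      have := hn (e l) ⟨l, hl, rfl⟩ (e n) hn'
      show e (l * n * l⁻¹) ∈ N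
      rwa [map_mul, map_mul, map_inv])
    have h2 : (N.comap e.toMonoidHom).map e.toMonoidHom = N :=
      map_comap_eq_self_of_surjective e.surjective N
    rcases h1 with h1 | h1
    · left
      rw [← h2]
      exact map_mono h1
    · right
      rw [← h2, h1]
  · obtain ⟨x, hx, c, hcv, hcx⟩ := h.swap
    refine ⟨e x, ⟨x, hx, rfl⟩, e c, ?_, ?_⟩
    · rw [← map_mul, hcv, map_mul]
    · rw [← map_mul, ← map_inv, ← map_inv, ← map_mul, ← map_mul, hcx]

theorem comm_mem {v : X} {V L : Subgroup X} (h : TwoA v V L) {c d : X} (hc : c * v = v * c)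
    (hd : d * v = v * d) : ⁅c, d⁆ ∈ L := by
  rw [commutatorElement_def]
  have hc' : c⁻¹ * v = v * c⁻¹ := (Commute.inv_left (show Commute c v from hc)).eq
  rcases h.two c d hc hd with h1 | h1 | h1
  · have := mul_mem h1 (h.norm d hd _ (inv_mem h1))
    convert this using 1
    group
  · exact mul_mem (h.norm c hc d h1) (inv_mem h1)
  · rcases h.two d c hd hc with h2 | h2 | h2
    · exact mul_mem (h.norm c hc d h2) (inv_mem h2)
    · have := mul_mem h2 (h.norm d hd _ (inv_mem h2))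
      convert this using 1
      group
    · have := mul_mem h1 (inv_mem h2)
      convert this using 1
      group

/-- the facts about `V`, `L` -/
theorem vfacts {v : X} {V L : Subgroup X} (h : TwoA v V L) : VFacts V L where
  comm := commV h
  perf := h.perf
  cent := h.comm
  max := by
    intro P hP hPV
    rw [← hP, commutator_le]
    intro c hc d hd
    exact comm_mem h (hPV c hc v h.vV) (hPV d hd v h.vV)
  kill := by
    left
    obtain ⟨x, hx, c, hc, hcx⟩ := h.swap
    exact ⟨v, h.vV, h.v1, h.VL h.vV, x, hx, c, hc, hcx⟩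

/-- no non-trivial normal subgroup of odd order -/
theorem bal_v {v : X} {V L : Subgroup X} (h : TwoA v V L) (I : Subgroup X) (h1 : ∀ i ∈ I, i * v = v * i)
    (h2 : ∀ c : X, c * v = v * c → ∀ i ∈ I, c * i * c⁻¹ ∈ I) (h3 : Odd (Nat.card ↥I)) : I = ⊥ := by
  rcases normal_cases h h1 h2 with h4 | h4
  · have h5 := card_dvd_of_le h4
    rw [h.cardV] at h5
    have h6 : Nat.card I = 1 := by
      have h7 : Nat.Coprime (Nat.card I) (2 ^ 2) := Nat.Coprime.pow_right 2 h3.coprime_two_right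
      exact Nat.Coprime.eq_one_of_dvd h7 h5
    exact (card_eq_one).1 h6
  · exfalso
    have h5 : v ∈ I := h4 (h.VL h.vV)
    have h6 : orderOf v = 2 := orderOf_eq_prime (by rw [pow_two, h.vv]) h.v1
    have h7 : orderOf v ∣ Nat.card I := by
      have := orderOf_dvd_natCard (⟨v, h5⟩ : I)
      rwa [Subgroup.orderOf_mk] at this
    rw [h6] at h7
    obtain ⟨k, hk⟩ := h3
    omega

/-- **The fact sheet of D4**, for a group with two classes of involutions, `z` and `v`, `C(v)` as in `TwoA`. -/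
theorem sheet_of [Finite X] {z v : X} {P V L : Subgroup X} (hB : Sheet.Basic z P) (h : TwoA v V L)
    (hbal : ∀ I : Subgroup X, (∀ i ∈ I, i * z = z * i) →
      (∀ c : X, c * z = z * c → ∀ i ∈ I, c * i * c⁻¹ ∈ I) → Odd (Nat.card ↥I) → I = ⊥)
    (hcl : ∀ w : X, w * w = 1 → w ≠ 1 → (∃ g : X, g * z * g⁻¹ = w) ∨ ∃ g : X, g * v * g⁻¹ = w)
    (hzL : ∃ g : X, g * z * g⁻¹ ∈ L)
    (haut : ∀ α : MulAut X, (∀ l ∈ L, α l = l) → Inn α) : Spor.Sheet X := by
  have hcen : ∀ w : X, w * w = 1 → w ≠ 1 → ¬ Cen w → ∃ g : X, g * v * g⁻¹ = w := by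
    intro w h1 h2 h3
    rcases hcl w h1 h2 with ⟨g, hg⟩ | h4
    · exact absurd (cen_conj hg (cen_z hB)) h3
    · exact h4
  have hz1 : z * z = 1 := hB.zz
  refine Sheet.of_basic_tab hB ?_ ?_ ?_
  · intro a h1 h2
    rcases hcl a h1 h2 with ⟨g, hg⟩ | ⟨g, hg⟩
    · exact bal_of_one hbal hg
    · exact bal_of_one (bal_v h) hg
  · intro α hα _ w h1 h2 h3 h4 h5 _ _ _ _ _
    obtain ⟨g, hg⟩ := hcen w h1 h2 h3
    have hw := h.map (MulAut.conj g)
    have ew : MulAut.conj g v = w := by rw [MulAut.conj_apply, hg]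
    rw [ew] at hw
    -- `α` is trivial on the conjugate of `L`
    have k1 : ∀ l ∈ L.map (MulAut.conj g).toMonoidHom, α l = l := by
      have hwV : ∀ x ∈ zpowers w, x = 1 ∨ x = w := by
        rintro x ⟨n, rfl⟩
        rcases Int.even_or_odd' n with ⟨m, rfl | rfl⟩
        · left
          show w ^ (2 * m) = 1
          rw [zpow_mul, zpow_ofNat, pow_two, h1, one_zpow]
        · right
          show w ^ (2 * m + 1) = w
          rw [zpow_add, zpow_mul, zpow_ofNat, pow_two, h1, one_zpow, one_mul, zpow_one]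
      refine eq_of_central (V := zpowers w) hw.perf ?_ ?_ α.toMonoidHom ?_
      · intro x hx y hy
        rcases hwV x hx with rfl | rfl <;> rcases hwV y hy with rfl | rfl <;> simp
      · intro l hl x hx
        rcases hwV x hx with rfl | rfl
        · simp
        · exact hw.comm l hl x hw.vV
      · intro l hl
        have hlw := hw.comm l hl w hw.vV
        show α l * l⁻¹ ∈ zpowers w
        rcases h5 l hlw with h6 | h6
        · rw [h6, mul_inv_cancel]; exact one_mem _
        · rw [h6, mul_inv_cancel_right]; exact mem_zpowers w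
    obtain ⟨k, hk⟩ := haut ((MulAut.conj g)⁻¹ * α * MulAut.conj g) (by
      intro l hl
      show (MulAut.conj g)⁻¹ (α (MulAut.conj g l)) = l
      have e1 : α (MulAut.conj g l) = MulAut.conj g l := k1 _ ⟨l, hl, rfl⟩
      rw [e1]
      exact MulEquiv.symm_apply_apply _ _)
    apply hα
    refine ⟨g * k * g⁻¹, ?_⟩
    have : α = MulAut.conj g * ((MulAut.conj g)⁻¹ * α * MulAut.conj g) * (MulAut.conj g)⁻¹ := by group
    rw [this, hk, ← map_mul, ← map_inv, ← map_mul]
  · apply tab_of_elt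
    intro w N hN V' hV'N _ _ _ _ h4
    obtain ⟨g, hg⟩ := hcen w hN.sq hN.ne (hN.non w hN.mem hN.sq hN.ne)
    have hw := h.map (MulAut.conj g)
    have ew : MulAut.conj g v = w := by rw [MulAut.conj_apply, hg]
    rw [ew] at hw
    rcases normal_cases hw hN.le hN.norm with h5 | h5
    · have h6 : V' = V.map (MulAut.conj g).toMonoidHom := by
        apply eq_of_le_of_card_ge (hV'N.trans h5)
        rw [hw.cardV]
        exact Nat.le_of_dvd Nat.card_pos h4
      rw [h6]
      exact ⟨_, vfacts hw⟩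
    · exfalso
      obtain ⟨y, hy⟩ := hzL
      have h6 : g * (y * z * y⁻¹) * g⁻¹ ∈ N := h5 ⟨_, hy, rfl⟩
      have h7 : (g * y) * z * (g * y)⁻¹ = g * (y * z * y⁻¹) * g⁻¹ := by group
      refine hN.non _ h6 ?_ ?_ (cen_conj h7 (cen_z hB))
      · rw [← h7]
        calc g * y * z * (g * y)⁻¹ * (g * y * z * (g * y)⁻¹) = g * y * (z * z) * (g * y)⁻¹ := by group
          _ = 1 := by rw [hz1]; group
      · rw [← h7]
        intro h8
        apply hB.z1
        calc z = (g * y)⁻¹ * (g * y * z * (g * y)⁻¹) * (g * y) := by group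
          _ = 1 := by rw [h8]; group

end Cfsg.Agent.OddHalf.D4.Spor.HeOf
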