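import Cfsg.Agent.BabyM.CoTwoMod
import Cfsg.Agent.MonsterU.SmallComm
import Cfsg.Agent.SporadicA.XiSextet

/-!
# Involutions of `Co0` fixing a minimal vector `u`, on `evn u / rad u`

Basic facts: congruent vectors of small norm are equal up to sign (`eq_or_neg`), an element of `Co0` fixing a minimal
vector `x ⊥ u` modulo `2Λ` and `u` maps `x` to `± x` (`pm_of_mem_rad`), an element of `Co0` fixing all `4 e_i ± 4 e_j`,
`i, j ∈ S`, up to sign is a scalar on the `e_i`, `i ∈ S` (`scalar`).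
-/

set_option autoImplicit false

namespace Cfsg.Agent.OddHalf.D4.Spor.LatTwo

open Cfsg Cfsg.Agent Cfsg.Agent.BabyM.CoTwoMod Cfsg.Agent.SporadicStructure.Co2RankThree
open Cfsg.Agent.SporadicA Cfsg.Agent.SporadicA.Co0Mono

/-! ### Norms -/

theorem le_dt {y : leechLattice} (hy : y ≠ 0) : 32 ≤ dt y y := by
  rw [← norm_eq]
  exact Cfsg.Agent.S0391.result y y.2 fun h => hy (Subtype.ext h)

theorem dt_two (y : leechLattice) : dt (2 • y) (2 • y) = 4 * dt y y := by
  rw [dt_two_smul_right, dt_comm, dt_two_smul_right]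
  ring

/-- Vectors of small norm congruent modulo 2 are equal up to sign. -/
theorem eq_or_neg {a b y : leechLattice} (h : a - b = 2 • y) (hn : dt a a + dt b b < 128) : a = b ∨ a = -b := by
  by_cases hy : y = 0
  · left
    rw [hy, _root_.smul_zero] at h
    exact sub_eq_zero.1 h
  by_cases hy' : y + b = 0
  · right
    have h2 : a + b = 2 • (y + b) := by rw [_root_.smul_add, ← h, two_smul]; abel
    rw [hy', _root_.smul_zero] at h2
    exact eq_neg_of_add_eq_zero_left h2
  exfalso
  have h2 : a + b = 2 • (y + b) := by rw [_root_.smul_add, ← h, two_smul]; abel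
  have e1 : dt (a - b) (a - b) = dt a a + dt b b - 2 * dt a b := by
    rw [dt_sub_left, dt_sub_right, dt_sub_right, dt_comm b a]; ring
  have e2 : dt (a + b) (a + b) = dt a a + dt b b + 2 * dt a b := by
    rw [dt_add_left, dt_add_right, dt_add_right, dt_comm b a]; ring
  rw [h, dt_two] at e1
  rw [h2, dt_two] at e2
  have := le_dt hy
  have := le_dt hy'
  omega

/-- An element fixing `u` and fixing `x ⊥ u` modulo `2Λ` and `u` maps `x` to `± x` (`x` minimal). -/
theorem pm_of_mem_rad {u x : leechLattice} (hu : dt u u = 32) {h : Co0} (hx : dt x x = 32) (hux : dt u x = 0)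
    (hr : h • x - x ∈ rad u) : h • x = x ∨ h • x = -x := by
  obtain ⟨w, hw | hw⟩ := mem_rad.1 hr
  · refine eq_or_neg hw ?_
    rw [dt_smul, hx]
    norm_num
  · exfalso
    have e : h • x - (x + u) = 2 • w := by
      rw [← sub_sub, hw, add_sub_cancel_right]
    have e1 : dt (x + u) (x + u) = 64 := by
      rw [dt_add_left, dt_add_right, dt_add_right, dt_comm x u, hux, hx, hu]; norm_num
    rcases eq_or_neg e (by rw [dt_smul, hx, e1]; norm_num) with h1 | h1
    · have := dt_smul h x x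
      rw [h1, e1, hx] at this
      norm_num at this
    · have := dt_smul h x x
      rw [h1, dt_neg_left, dt_neg_right, neg_neg, e1, hx] at this
      norm_num at this

/-! ### The scalar on the `(-1)`-eigenspace -/

theorem dt_e8 (v : leechLattice) (i : GolayPt) : dt v (Co0Basic.e8 i) = 8 * (v : GolayPt → ℤ) i :=
  ConwayShift.dot_e8 v i

theorem e8_self (i : GolayPt) : ((Co0Basic.e8 i : leechLattice) : GolayPt → ℤ) i = 8 := by
  rw [Co0Basic.e8_apply, if_pos rfl]

theorem e8_ne {i j : GolayPt} (h : j ≠ i) : ((Co0Basic.e8 i : leechLattice) : GolayPt → ℤ) j = 0 := by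
  rw [Co0Basic.e8_apply, if_neg h]

theorem coe_add (v w : leechLattice) (i : GolayPt) :
    ((v + w : leechLattice) : GolayPt → ℤ) i = (v : GolayPt → ℤ) i + (w : GolayPt → ℤ) i := rfl

theorem coe_sub (v w : leechLattice) (i : GolayPt) :
    ((v - w : leechLattice) : GolayPt → ℤ) i = (v : GolayPt → ℤ) i - (w : GolayPt → ℤ) i := rfl

theorem coe_neg (v : leechLattice) (i : GolayPt) :
    ((-v : leechLattice) : GolayPt → ℤ) i = -(v : GolayPt → ℤ) i := rfl

theorem coe_two (v : leechLattice) (i : GolayPt) :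
    ((2 • v : leechLattice) : GolayPt → ℤ) i = 2 * (v : GolayPt → ℤ) i := by
  rw [two_smul, coe_add]; ring

theorem sign_neg {c : golayCode} {x : leechLattice} (hx : ∀ i, (c : GolayPt → ZMod 2) i = 0 → (x : GolayPt → ℤ) i = 0) :
    signCo0 c • x = -x := by
  apply Subtype.ext
  funext i
  rw [signCo0_smul, signMap_apply]
  show _ = -(x : GolayPt → ℤ) i
  by_cases h : (c : GolayPt → ZMod 2) i = 0
  · rw [hx i h]; ring
  · have : (c : GolayPt → ZMod 2) i = 1 := by
      revert h
      generalize (c : GolayPt → ZMod 2) i = a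
      revert a; decide
    rw [this, sgn_one]; ring

theorem zero_of_sign_neg {c : golayCode} {x : leechLattice} (h : signCo0 c • x = -x) (i : GolayPt)
    (hi : (c : GolayPt → ZMod 2) i = 0) : (x : GolayPt → ℤ) i = 0 := by
  have h1 := congrArg (fun v : leechLattice => (v : GolayPt → ℤ) i) h
  simp only [coe_neg] at h1
  rw [signCo0_smul, signMap_apply, hi, sgn_zero] at h1
  omega

theorem pair_facts {i j : GolayPt} (hij : i ≠ j) : ∃ p : leechLattice, p + p = Co0Basic.e8 i + Co0Basic.e8 j ∧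
    dt p p = 32 ∧ dt (p - Co0Basic.e8 j) (p - Co0Basic.e8 j) = 32 := by
  obtain ⟨p, hp⟩ := Cfsg.Agent.MonsterU.SmallComm.exists_four i j
  have e : p + p = Co0Basic.e8 i + Co0Basic.e8 j := by
    apply Subtype.ext
    funext k
    rw [coe_add, coe_add, hp, Co0Basic.e8_apply, Co0Basic.e8_apply]
    split_ifs <;> norm_num
  have e1 : dt p p = 32 := by
    have h1 : dt p (p + p) = 2 * dt p p := by rw [dt_add_right]; ring
    rw [e, dt_add_right, dt_e8, dt_e8, hp, hp, if_pos rfl, if_neg hij, if_neg hij.symm, if_pos rfl] at h1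
    omega
  refine ⟨p, e, e1, ?_⟩
  rw [dt_sub_left, dt_sub_right, dt_sub_right, e1, dt_e8, dt_comm _ p, dt_e8, dt_e8, hp, if_neg hij.symm, if_pos rfl,
    e8_self]
  norm_num

theorem smul_two' (g : Co0) (a : leechLattice) : g • (a + a) = g • a + g • a := smul_add' g a a

theorem two_cancel {a b : leechLattice} (h : a + a = b + b) : a = b := by
  apply Subtype.ext
  funext i
  have h1 := congrArg (fun v : leechLattice => (v : GolayPt → ℤ) i) h
  simp only [coe_add] at h1
  omega

section Std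

variable {S : Finset GolayPt} {h : Co0}

/-- `h` maps the vectors `4 e_i ± 4 e_j`, `i, j ∈ S`, to themselves up to sign -/
def PmS (S : Finset GolayPt) (h : Co0) : Prop := ∀ i ∈ S, ∀ j ∈ S, i ≠ j → ∀ p : leechLattice,
  p + p = Co0Basic.e8 i + Co0Basic.e8 j → (h • p = p ∨ h • p = -p) ∧
    (h • (p - Co0Basic.e8 j) = p - Co0Basic.e8 j ∨ h • (p - Co0Basic.e8 j) = -(p - Co0Basic.e8 j))

/-- `h` maps `8 e_i` to `± 8 e_i` or `± 8 e_j` -/
theorem e8_cases (hP : PmS S h) {i j : GolayPt} (hi : i ∈ S) (hj : j ∈ S) (hij : i ≠ j) :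
    (h • Co0Basic.e8 i = Co0Basic.e8 i ∧ h • Co0Basic.e8 j = Co0Basic.e8 j) ∨
    (h • Co0Basic.e8 i = -Co0Basic.e8 i ∧ h • Co0Basic.e8 j = -Co0Basic.e8 j) ∨
    h • Co0Basic.e8 i = Co0Basic.e8 j ∨ h • Co0Basic.e8 i = -Co0Basic.e8 j := by
  obtain ⟨p, hp, hp1, hp2⟩ := pair_facts hij
  have hi8 : (Co0Basic.e8 i : leechLattice) = p + (p - Co0Basic.e8 j) := by
    rw [← add_sub_assoc, hp, add_sub_cancel_right]
  have hj8 : (Co0Basic.e8 j : leechLattice) = p - (p - Co0Basic.e8 j) := by abel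
  obtain ⟨a1, a2⟩ := hP i hi j hj hij p hp
  rcases a1 with a1 | a1 <;> rcases a2 with a2 | a2
  · left
    constructor
    · conv_lhs => rw [hi8]
      rw [smul_add', a1, a2, ← hi8]
    · conv_lhs => rw [hj8]
      rw [smul_sub', a1, a2, ← hj8]
  · right; right; left
    conv_lhs => rw [hi8]
    rw [smul_add', a1, a2, ← sub_eq_add_neg, ← hj8]
  · right; right; right
    conv_lhs => rw [hi8]
    rw [smul_add', a1, a2]
    conv_rhs => rw [hj8]
    abel
  · right; left
    constructor
    · conv_lhs => rw [hi8]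
      rw [smul_add', a1, a2]
      conv_rhs => rw [hi8]
      abel
    · conv_lhs => rw [hj8]
      rw [smul_sub', a1, a2]
      conv_rhs => rw [hj8]
      abel

/-- `h` maps `8 e_i`, `8 e_j` to themselves up to the same sign -/
theorem e8_sign (hP : PmS S h) {i j l : GolayPt} (hi : i ∈ S) (hj : j ∈ S) (hij : i ≠ j) (hl : l ∈ S)
    (hil : i ≠ l) (hjl : j ≠ l) :
    (h • Co0Basic.e8 i = Co0Basic.e8 i ∧ h • Co0Basic.e8 j = Co0Basic.e8 j) ∨
    (h • Co0Basic.e8 i = -Co0Basic.e8 i ∧ h • Co0Basic.e8 j = -Co0Basic.e8 j) := by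
  have key : ∀ v : leechLattice, h • Co0Basic.e8 i = v → (v : GolayPt → ℤ) j ≠ 0 → False := by
    intro v hv hvj
    rcases e8_cases hP hi hl hil with h1 | h1 | h1 | h1
    · exact hvj (by rw [← hv, h1.1, e8_ne hij.symm])
    · exact hvj (by rw [← hv, h1.1, coe_neg, e8_ne hij.symm, neg_zero])
    · exact hvj (by rw [← hv, h1, e8_ne hjl])
    · exact hvj (by rw [← hv, h1, coe_neg, e8_ne hjl, neg_zero])
  rcases e8_cases hP hi hj hij with h1 | h1 | h1 | h1
  · exact Or.inl h1
  · exact Or.inr h1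
  · exact (key _ h1 (by rw [e8_self]; norm_num)).elim
  · exact (key _ h1 (by rw [coe_neg, e8_self]; norm_num)).elim

/-- **`h` is a scalar on the `e_i`, `i ∈ S`.** -/
theorem scalar (hP : PmS S h) (h3 : 3 ≤ S.card) :
    (∀ i ∈ S, h • Co0Basic.e8 i = Co0Basic.e8 i) ∨ (∀ i ∈ S, h • Co0Basic.e8 i = -Co0Basic.e8 i) := by
  classical
  have third : ∀ i j : GolayPt, ∃ l ∈ S, i ≠ l ∧ j ≠ l := by
    intro i j
    have h1 : 0 < (S \ {i, j}).card := by
      have h2 := Finset.le_card_sdiff ({i, j} : Finset GolayPt) S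
      have h3 : ({i, j} : Finset GolayPt).card ≤ 2 := Finset.card_le_two
      omega
    obtain ⟨l, hl⟩ := Finset.card_pos.1 h1
    rw [Finset.mem_sdiff, Finset.mem_insert, Finset.mem_singleton, not_or] at hl
    exact ⟨l, hl.1, fun e => hl.2.1 e.symm, fun e => hl.2.2 e.symm⟩
  obtain ⟨i, hi⟩ := Finset.card_pos.1 (lt_of_lt_of_le (by norm_num) h3)
  have sg : ∀ j ∈ S, j ≠ i →
      (h • Co0Basic.e8 i = Co0Basic.e8 i ∧ h • Co0Basic.e8 j = Co0Basic.e8 j) ∨
      (h • Co0Basic.e8 i = -Co0Basic.e8 i ∧ h • Co0Basic.e8 j = -Co0Basic.e8 j) := by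
    intro j hj hji
    obtain ⟨l, hl, hil, hjl⟩ := third i j
    exact e8_sign hP hi hj hji.symm hl hil hjl
  have hne : (Co0Basic.e8 i : leechLattice) ≠ -Co0Basic.e8 i := by
    intro e
    have h1 := congrArg (fun v : leechLattice => (v : GolayPt → ℤ) i) e
    simp only [coe_neg, e8_self] at h1
    norm_num at h1
  obtain ⟨j₀, hj₀, hij₀, -⟩ := third i i
  rcases sg j₀ hj₀ hij₀.symm with ⟨h1, -⟩ | ⟨h1, -⟩
  · left
    intro j hj
    by_cases hji : j = i
    · rw [hji]; exact h1
    rcases sg j hj hji with h2 | h2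
    · exact h2.2
    · exact (hne (h1.symm.trans h2.1)).elim
  · right
    intro j hj
    by_cases hji : j = i
    · rw [hji]; exact h1
    rcases sg j hj hji with h2 | h2
    · exact (hne (h2.1.symm.trans h1)).elim
    · exact h2.2

end Std

theorem ne_neg_self {y : leechLattice} (hy : y ≠ 0) : y ≠ -y := by
  intro e
  apply hy
  have : y + y = 0 + 0 := by rw [add_zero]; exact add_eq_zero_iff_eq_neg.2 e
  exact two_cancel this

end Cfsg.Agent.OddHalf.D4.Spor.LatTwo
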