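import Cfsg.Agent.Schreier.SylMTwentyTwo
import Cfsg.Agent.OddHalf.D4.Spor.OfBasic

/-!
# ODD half, D4, sporadic components: a Sylow 2-subgroup of `M₂₂` and `M₂₃` (helper283)

`T` (helper756's `Schreier/SylMTwentyTwo.lean`) : the centre of `T` is `{1, zz}`, and all the involutions of `T` are
conjugate to `zz` in `M₂₂`.
-/

set_option autoImplicit false
set_option maxRecDepth 100000

namespace Cfsg.Agent.OddHalf.D4.Spor.MathieuSyl

open Cfsg Cfsg.Agent.Golay.Orbit Cfsg.Agent.Schreier.SylMTwentyTwo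

/-- the table of the central involution -/
def zL : List ℕ := [0, 1, 2, 3, 13, 5, 19, 21, 11, 15, 20, 8, 18, 4, 14, 9, 22, 17, 12, 6, 10, 7, 16, 23]

theorem zL_mem : memL zL els = true := by decide +kernel

theorem zL_sq : mulL zL zL = idL := by decide +kernel

theorem zL_ne : zL ≠ idL := by decide +kernel

theorem zL_central : (gl.all fun g => mulL zL g == mulL g zL) = true := by decide +kernel

theorem center_check : (els.all fun l => !(gl.all fun g => mulL g l == mulL l g) || l == idL || l == zL) = true := by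
  decide +kernel

/-- elements of `M22` conjugating the involutions of `T` to `zz` -/
def cert : List (List ℕ) :=
  [[0, 1, 5, 3, 4, 17, 22, 6, 12, 13, 21, 19, 16, 15, 14, 9, 8, 2, 10, 20, 11, 18, 7, 23],
   [0, 14, 5, 17, 11, 2, 6, 21, 20, 15, 10, 4, 16, 19, 3, 22, 7, 1, 9, 8, 13, 12, 18, 23],
   [0, 17, 2, 3, 20, 5, 19, 11, 12, 6, 8, 13, 10, 7, 1, 15, 18, 14, 21, 9, 22, 16, 4, 23],
   [0, 2, 1, 18, 5, 8, 7, 19, 20, 22, 4, 15, 9, 17, 11, 13, 3, 12, 10, 21, 16, 6, 14, 23],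
   [0, 3, 5, 14, 8, 2, 13, 4, 21, 6, 19, 20, 10, 16, 17, 9, 22, 1, 7, 18, 15, 12, 11, 23],
   [0, 18, 12, 16, 4, 22, 10, 15, 11, 21, 20, 8, 1, 13, 17, 9, 5, 14, 2, 6, 19, 7, 3, 23],
   [0, 1, 2, 15, 6, 10, 4, 13, 8, 17, 5, 11, 12, 7, 20, 3, 19, 9, 18, 16, 14, 22, 21, 23],
   [0, 1, 2, 3, 4, 5, 6, 7, 8, 9, 10, 11, 12, 13, 14, 15, 16, 17, 18, 19, 20, 21, 22, 23],
   [0, 5, 3, 10, 8, 20, 15, 19, 13, 1, 14, 18, 4, 22, 21, 2, 16, 7, 12, 9, 17, 6, 11, 23],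
   [0, 17, 14, 15, 11, 7, 18, 22, 1, 6, 19, 5, 3, 13, 9, 10, 8, 21, 2, 12, 20, 16, 4, 23],
   [0, 18, 12, 17, 3, 14, 10, 15, 8, 19, 9, 11, 2, 5, 16, 20, 13, 22, 1, 6, 21, 7, 4, 23],
   [0, 7, 21, 15, 5, 9, 13, 22, 2, 16, 11, 1, 6, 3, 14, 12, 20, 17, 19, 8, 4, 18, 10, 23],
   [0, 1, 2, 18, 6, 11, 4, 16, 14, 9, 10, 5, 17, 21, 8, 15, 7, 12, 3, 22, 20, 13, 19, 23],
   [0, 3, 5, 1, 16, 14, 20, 21, 19, 12, 4, 9, 6, 11, 17, 13, 22, 2, 15, 7, 18, 10, 8, 23],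
   [0, 3, 5, 22, 4, 16, 9, 15, 17, 21, 20, 14, 2, 13, 11, 10, 12, 8, 1, 6, 7, 19, 18, 23],
   [0, 3, 2, 14, 12, 5, 7, 13, 4, 19, 22, 9, 8, 6, 1, 18, 16, 17, 21, 11, 10, 15, 20, 23],
   [0, 2, 17, 3, 20, 1, 21, 10, 9, 22, 8, 16, 11, 4, 5, 15, 18, 14, 19, 12, 6, 13, 7, 23],
   [0, 15, 9, 3, 22, 5, 2, 10, 13, 17, 7, 12, 8, 11, 19, 14, 4, 6, 16, 1, 21, 20, 18, 23],
   [0, 14, 3, 5, 4, 2, 21, 19, 12, 18, 8, 9, 10, 6, 17, 15, 7, 1, 11, 16, 20, 13, 22, 23],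
   [0, 17, 3, 1, 9, 5, 15, 10, 18, 7, 19, 6, 21, 13, 2, 8, 22, 14, 11, 4, 12, 16, 20, 23],
   [0, 16, 22, 14, 19, 17, 4, 2, 9, 8, 5, 21, 6, 20, 12, 11, 7, 18, 10, 13, 3, 1, 15, 23],
   [0, 2, 1, 22, 3, 13, 8, 11, 15, 21, 6, 10, 9, 17, 16, 7, 14, 4, 20, 18, 19, 12, 5, 23],
   [0, 2, 1, 10, 12, 15, 22, 4, 19, 5, 3, 21, 7, 18, 20, 14, 11, 9, 6, 13, 17, 16, 8, 23],
   [0, 2, 14, 1, 8, 3, 15, 4, 9, 22, 20, 18, 6, 10, 5, 21, 16, 17, 13, 12, 11, 19, 7, 23],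
   [0, 14, 17, 8, 1, 11, 7, 15, 16, 20, 10, 22, 12, 2, 4, 6, 3, 13, 18, 9, 19, 21, 5, 23],
   [0, 5, 3, 10, 6, 7, 14, 17, 13, 8, 22, 4, 12, 15, 20, 16, 9, 21, 18, 2, 11, 1, 19, 23],
   [0, 14, 5, 3, 19, 17, 22, 10, 6, 9, 4, 21, 8, 7, 2, 20, 11, 1, 12, 13, 16, 15, 18, 23],
   [0, 15, 9, 2, 19, 1, 8, 13, 17, 11, 22, 14, 21, 6, 20, 18, 3, 10, 7, 12, 4, 16, 5, 23],
   [0, 2, 1, 8, 20, 11, 3, 14, 21, 16, 4, 19, 6, 9, 18, 22, 10, 12, 7, 5, 13, 17, 15, 23],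
   [0, 6, 19, 7, 11, 21, 15, 3, 18, 14, 10, 8, 16, 12, 2, 17, 22, 1, 4, 9, 20, 5, 13, 23],
   [0, 8, 11, 22, 9, 16, 2, 12, 15, 4, 17, 19, 21, 6, 5, 13, 20, 3, 10, 1, 14, 18, 7, 23],
   [0, 1, 17, 3, 21, 5, 4, 9, 11, 18, 19, 22, 10, 20, 2, 13, 16, 14, 7, 12, 15, 6, 8, 23],
   [0, 1, 2, 15, 8, 10, 14, 3, 6, 22, 16, 7, 19, 11, 20, 13, 12, 9, 21, 5, 4, 17, 18, 23],
   [0, 14, 2, 17, 11, 1, 18, 6, 16, 19, 12, 8, 7, 22, 3, 15, 20, 5, 10, 13, 4, 9, 21, 23],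
   [0, 2, 3, 17, 12, 5, 4, 9, 7, 19, 18, 13, 15, 20, 1, 22, 16, 14, 11, 21, 10, 8, 6, 23]]

theorem cert_ok : (cert.all fun l => okTab (l.map (fun i => 2 ^ i)) && m24Tab (l.map (fun i => 2 ^ i)) &&
    Nat.beq (l.getD 23 24) 23 && Nat.beq (l.getD 0 24) 0) = true := by decide +kernel

theorem conj_check : (els.all fun l => !(mulL l l == idL) || l == idL ||
    cert.any (fun g => mulL g l == mulL zL g)) = true := by decide +kernel

theorem exists_cert {l : List ℕ} (hl : l ∈ cert) : ∃ g : Equiv.Perm GolayPt, Rp g l ∧ g ∈ Spor.M22 := by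
  have h0 := cert_ok
  rw [List.all_eq_true] at h0
  have h1 := h0 l hl
  simp only [Bool.and_eq_true] at h1
  obtain ⟨⟨⟨h2, h3⟩, h4⟩, h5⟩ := h1
  obtain ⟨g, hg⟩ := exists_rep _ h2
  have hr := rp_of_rep hg
  refine ⟨g, hr, ⟨⟨hg.mem_M24 h3, ?_⟩, ?_⟩⟩
  · apply idx_injective
    rw [Equiv.Perm.smul_def, ← hr.eq]
    exact Nat.eq_of_beq_eq_true h4
  · apply idx_injective
    rw [Equiv.Perm.smul_def, ← hr.eq]
    exact Nat.eq_of_beq_eq_true h5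

theorem exists_z : ∃ z ∈ T, Rp z zL := exists_els (mem_of_memL zL_mem)

/-- the central involution of `T` -/
noncomputable def zz : Equiv.Perm GolayPt := exists_z.choose

theorem zz_mem : zz ∈ T := exists_z.choose_spec.1

theorem rp_zz : Rp zz zL := exists_z.choose_spec.2

theorem zz_sq : zz * zz = 1 := by
  have h := rp_zz.mul rp_zz
  rw [zL_sq] at h
  exact h.inj rp_one

theorem zz_ne : zz ≠ 1 := by
  intro h
  have h1 := rp_zz
  rw [h] at h1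
  exact zL_ne (h1.unique rp_one)

theorem gl_mem (k : Fin 3) : gl.getD k [] ∈ gl := by
  have hk' : (k : ℕ) < gl.length := k.2
  rw [List.getD_eq_getElem _ _ hk']
  exact List.getElem_mem hk'

theorem zz_comm_gen (k : Fin 3) : gen k * zz = zz * gen k := by
  have h := zL_central
  rw [List.all_eq_true] at h
  have h1 := h _ (gl_mem k)
  rw [beq_iff_eq] at h1
  have h2 := rp_zz.mul (rp_gen k)
  rw [h1] at h2
  exact ((rp_gen k).mul rp_zz).inj h2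

/-- `zz` is central in `T` -/
theorem zz_comm {x : Equiv.Perm GolayPt} (hx : x ∈ T) : x * zz = zz * x := by
  have h : T ≤ Subgroup.centralizer ({zz} : Set (Equiv.Perm GolayPt)) := by
    rw [T, Subgroup.closure_le]
    rintro _ ⟨k, rfl⟩
    exact Subgroup.mem_centralizer_singleton_iff.2 (zz_comm_gen k)
  exact Subgroup.mem_centralizer_singleton_iff.1 (h hx)

/-- the centre of `T` -/
theorem center_T {y : Equiv.Perm GolayPt} (hy : y ∈ T) (h : ∀ x ∈ T, x * y = y * x) : y = 1 ∨ y = zz := by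
  obtain ⟨l, hl, hr⟩ := exists_mem_els hy
  have h0 := center_check
  rw [List.all_eq_true] at h0
  have h1 := h0 l hl
  have h2 : (gl.all fun g => mulL g l == mulL l g) = true := by
    rw [List.all_eq_true]
    intro g hg
    obtain ⟨i, hi, hgi⟩ := List.getElem_of_mem hg
    have hi' : i < 3 := hi
    have e : gl.getD i [] = g := by rw [List.getD_eq_getElem _ _ hi, hgi]
    rw [beq_iff_eq, ← e]
    have h3 := (rp_gen ⟨i, hi'⟩).mul hr
    rw [h (gen ⟨i, hi'⟩) (Subgroup.subset_closure ⟨_, rfl⟩)] at h3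
    exact h3.unique (hr.mul (rp_gen ⟨i, hi'⟩))
  rw [h2] at h1
  simp only [Bool.not_true, Bool.false_or, Bool.or_eq_true, beq_iff_eq] at h1
  rcases h1 with h3 | h3
  · left
    rw [h3] at hr
    exact hr.inj rp_one
  · right
    rw [h3] at hr
    exact hr.inj rp_zz

/-- the involutions of `T` are conjugate in `M22` -/
theorem conj_T {y : Equiv.Perm GolayPt} (hy : y ∈ T) (h2 : y * y = 1) (h1 : y ≠ 1) :
    ∃ g ∈ Spor.M22, g * y * g⁻¹ = zz := by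
  obtain ⟨l, hl, hr⟩ := exists_mem_els hy
  have h0 := conj_check
  rw [List.all_eq_true] at h0
  have h3 := h0 l hl
  have h4 : mulL l l = idL := by
    have := hr.mul hr
    rw [h2] at this
    exact this.unique rp_one
  have h5 : l ≠ idL := by
    intro h
    rw [h] at hr
    exact h1 (hr.inj rp_one)
  rw [h4] at h3
  simp only [beq_self_eq_true, Bool.not_true, Bool.false_or, Bool.or_eq_true, beq_iff_eq] at h3
  rcases h3 with h3 | h3
  · exact absurd h3 h5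
  · rw [List.any_eq_true] at h3
    obtain ⟨g', hg', h6⟩ := h3
    rw [beq_iff_eq] at h6
    obtain ⟨g, hg, hgM⟩ := exists_cert hg'
    refine ⟨g, hgM, ?_⟩
    rw [mul_inv_eq_iff_eq_mul]
    have h7 := hg.mul hr
    rw [h6] at h7
    exact h7.inj (rp_zz.mul hg)

section

variable {H : Subgroup (Equiv.Perm GolayPt)} (hTH : T ≤ H) (hidx : ¬ 2 ∣ (T.subgroupOf H).index)

include hTH in
theorem isPGroup_T' : IsPGroup 2 (T.subgroupOf H) :=
  isPGroup_T.of_equiv (Subgroup.subgroupOfEquivOfLe hTH).symm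

include hTH hidx in
/-- `T` as a Sylow subgroup of `H` -/
theorem exists_sylow : ∃ S : Sylow 2 H, (S : Subgroup H) = T.subgroupOf H := by
  have : Fact (Nat.Prime 2) := ⟨Nat.prime_two⟩
  exact ⟨(isPGroup_T' hTH).toSylow hidx, rfl⟩

include hTH hidx in
/-- one class of involutions -/
theorem one_class (hM : Spor.M22 ≤ H) (y : H) (h2 : y * y = 1) (h1 : y ≠ 1) :
    ∃ g : H, g * ⟨zz, hTH zz_mem⟩ * g⁻¹ = y := by
  obtain ⟨g, hg⟩ := exists_conj_mem_of_index (X := H) hidx (isPGroup_zpowers_of_sq h2)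
  have h3 : ((g * y * g⁻¹ : H) : Equiv.Perm GolayPt) ∈ T := Subgroup.mem_subgroupOf.1 hg
  obtain ⟨k, hk, hkz⟩ := conj_T h3 (by
    have : (g * y * g⁻¹) * (g * y * g⁻¹) = 1 := by
      calc (g * y * g⁻¹) * (g * y * g⁻¹) = g * (y * y) * g⁻¹ := by group
        _ = 1 := by rw [h2]; group
    exact congrArg Subtype.val this) (by
    intro h4
    apply h1
    have h5 : g * y * g⁻¹ = 1 := Subtype.ext h4
    calc y = g⁻¹ * (g * y * g⁻¹) * g := by group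
      _ = 1 := by rw [h5]; group)
  refine ⟨(⟨k, hM hk⟩ * g)⁻¹, ?_⟩
  have e : (⟨zz, hTH zz_mem⟩ : H) = ⟨k, hM hk⟩ * (g * y * g⁻¹) * ⟨k, hM hk⟩⁻¹ := Subtype.ext hkz.symm
  rw [e]
  group

include hTH hidx in
/-- the centre of a Sylow subgroup -/
theorem exists_center : ∃ S : Sylow 2 H, ∀ y ∈ S, (∀ x ∈ S, x * y = y * x) → y = 1 ∨ y = ⟨zz, hTH zz_mem⟩ := by
  obtain ⟨S, hS⟩ := exists_sylow hTH hidx
  refine ⟨S, fun y hy h => ?_⟩
  have hy' : y ∈ (S : Subgroup H) := hy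
  rw [hS, Subgroup.mem_subgroupOf] at hy'
  rcases center_T hy' (fun x hx => by
    have h1 : (⟨x, hTH hx⟩ : H) ∈ (S : Subgroup H) := by
      rw [hS, Subgroup.mem_subgroupOf]; exact hx
    exact congrArg Subtype.val (h _ h1)) with h1 | h1
  · exact Or.inl (Subtype.ext h1)
  · exact Or.inr (Subtype.ext h1)

end

end Cfsg.Agent.OddHalf.D4.Spor.MathieuSyl
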