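import Cfsg.Agent.OddHalf.D4.Spor.MonsterModel
import Cfsg.Prelude.Def_Spor_M

/-!
# ODD half, D4: the fact sheet of the Monster (helper667)

`sheet_of_isoM`: the sheet of every group isomorphic to `Spor.Monster`, from the facts `All M Co1` of a model
(`MonsterU.Uncond.all` for the concrete one) and an isomorphism of the model with `Spor.Monster` (S1705).
-/

set_option autoImplicit false

namespace Cfsg.Agent.OddHalf.D4.Spor.Monster

open Cfsg.Agent.MonsterX.Model

/-- **The sheet of the Monster.** -/
theorem sheet_of_isoM {W : Type} [AddCommGroup W] [Module ℚ W] {M : MData W}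
    (A : Cfsg.Agent.MonsterU.Assembly.All M Cfsg.Spor.Co1) (hM : Nonempty (M.G ≃* Cfsg.Spor.Monster)) {K : Type*}
    [Group K] (hK : Cfsg.Spor.IsoM K) : Sheet K := by
  obtain ⟨e⟩ := hM
  obtain ⟨f⟩ := hK
  exact (MonsterModel.sheet A).of_equiv (e.trans f.symm)

end Cfsg.Agent.OddHalf.D4.Spor.Monster
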