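import Cfsg.Agent.OddHalf.D4.Spor.LargeBase
import Cfsg.Agent.KFacts.MonsterE
import Cfsg.Agent.MonsterU.Assembly

/-!
# ODD half, D4: the fact sheet of the Monster, for the model (helper667)

`quasi`: `C(t)/⟨t⟩` is simple (`BabyHyp`); `sheet`: the sheet of `M.G` from the facts `All M Co1`.
-/

set_option autoImplicit false

namespace Cfsg.Agent.OddHalf.D4.Spor.MonsterModel

open Subgroup Cfsg.Agent.MonsterX.BabyQuot Cfsg.Agent.MonsterU.Assembly
  Cfsg.Agent.MonsterX.Model Cfsg.Agent.MonsterX.MainSimple Cfsg.Agent.MonsterX.MainBasic Cfsg.Agent.MonsterX.MainPack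

/-- helper984's hypotheses imply `Quasi`. -/
theorem quasi {K : Type*} [Group K] [Finite K] {z t : K} {Q : Subgroup K} (h : BabyHyp z t Q) :
    LargeBase.Quasi z t where
  tt := h.tt
  t1 := h.t1
  zz := h.zz
  z1 := h.z1
  tz := h.tz
  comm := h.tz_comm.symm
  simple := by
    intro N htN hNt hN
    have hmem : ∀ c : K, c * t = t * c → c ∈ centralizer ({t} : Set K) := fun c hc =>
      mem_centralizer_singleton_iff.2 hc
    have hsimp := h.isSimpleGroup_quot
    let N' : Subgroup (centralizer ({t} : Set K)) := N.subgroupOf (centralizer ({t} : Set K))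
    have hN' : N'.Normal := ⟨fun n hn g => mem_subgroupOf.2
      (hN g (mem_centralizer_singleton_iff.1 g.2) n (mem_subgroupOf.1 hn))⟩
    have hmap : (N'.map h.pr).Normal := hN'.map h.pr h.pr_surj
    rcases hmap.eq_bot_or_eq_top with h1 | h1
    · left
      intro n hn
      have h2 : h.pr ⟨n, hmem n (hNt n hn)⟩ ∈ N'.map h.pr := ⟨_, mem_subgroupOf.2 hn, rfl⟩
      rw [h1, mem_bot] at h2
      exact h.pr_eq_one.1 h2
    · right
      intro c hc
      have h2 : h.pr ⟨c, hmem c hc⟩ ∈ N'.map h.pr := by rw [h1]; trivial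
      obtain ⟨n, hn, e⟩ := h2
      rcases h.pr_eq.1 e with h3 | h3
      · have h4 : c = n := h3
        rw [h4]; exact hn
      · have h4 : c = n * t := h3
        rw [h4]; exact N.mul_mem hn htN

variable {W : Type} [AddCommGroup W] [Module ℚ W] {M : MData W}

/-- **The sheet of the group of the model.** -/
theorem sheet (A : All M Cfsg.Spor.Co1) : Sheet M.G := by
  have hfin := G_finite A.hO
  have hco := KFacts.MonsterE.simple_Co1
  obtain ⟨π, D⟩ := KFacts.MonsterE.data_model A.hG A.hR A.hL A.hO A.hT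
  exact LargeBase.of_two_classes D (quasi (babyHyp A.hG A.hR A.hL A.hO A.hT A.hB)) A.classes

end Cfsg.Agent.OddHalf.D4.Spor.MonsterModel
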