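import Cfsg.Agent.KFacts.Ru.InvC
import Cfsg.Agent.OddHalf.D4.Spor.OfBasic

/-!
# ODD half, D4: the sheet of a group with `RuB.Core` and only inner automorphisms (helper483)

Classes of involutions: `z = C.z 1` (2-central) and `v = C.v a` with `C(v) = V × L`, `V` a four-group, `L` of type `Sz(8)`.
-/

set_option autoImplicit false

namespace Cfsg.Agent.OddHalf.D4.Spor.RuCore

open Subgroup Cfsg.Agent.RuB Cfsg.Agent.RuB.Core Cfsg.Agent.RuB.Count Cfsg.Agent.KFacts.Ru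

variable {X : Type*} [Group X]

/-- the conjugate of a core -/
def conjCore (C : Core X) (g : X) : Core X where
  L := C.L.map (MulAut.conj g).toMonoidHom
  R := C.R.map ((MulAut.conj g).subgroupMap C.L)
  v a := g * C.v a * g⁻¹
  v_add a b := by rw [C.v_add]; group
  v_comm := by
    rintro a _ ⟨l, hl, rfl⟩
    show g * C.v a * g⁻¹ * (g * l * g⁻¹) = g * l * g⁻¹ * (g * C.v a * g⁻¹)
    calc g * C.v a * g⁻¹ * (g * l * g⁻¹) = g * (C.v a * l) * g⁻¹ := by group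
      _ = g * (l * C.v a) * g⁻¹ := by rw [C.v_comm a l hl]
      _ = _ := by group
  v_notin := by
    rintro a ⟨l, hl, h⟩
    apply C.v_notin a
    have h1 : g * l * g⁻¹ = g * C.v a * g⁻¹ := h
    have h2 : l = C.v a := mul_left_cancel (mul_right_cancel h1)
    rwa [← h2]
  cent := by
    intro a ha h hh
    have h1 : (g⁻¹ * h * g) * C.v a = C.v a * (g⁻¹ * h * g) := by
      calc (g⁻¹ * h * g) * C.v a = g⁻¹ * (h * (g * C.v a * g⁻¹)) * g := by group
        _ = g⁻¹ * (g * C.v a * g⁻¹ * h) * g := by rw [hh]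
        _ = _ := by group
    obtain ⟨b, l, hl, e⟩ := C.cent a ha _ h1
    refine ⟨b, g * l * g⁻¹, ⟨l, hl, rfl⟩, ?_⟩
    calc h = g * (g⁻¹ * h * g) * g⁻¹ := by group
      _ = g * C.v b * g⁻¹ * (g * l * g⁻¹) := by rw [e]; group
  grow := by
    intro c
    obtain ⟨x, h1, h2⟩ := C.grow c
    refine ⟨g * x * g⁻¹, ?_, ?_⟩
    · intro b
      show g * x * g⁻¹ * (g * (C.R.u 0 b : X) * g⁻¹) = g * (C.R.u 0 b : X) * g⁻¹ * (g * x * g⁻¹)
      calc g * x * g⁻¹ * (g * (C.R.u 0 b : X) * g⁻¹) = g * (x * (C.R.u 0 b : X)) * g⁻¹ := by group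
        _ = g * ((C.R.u 0 b : X) * x) * g⁻¹ := by rw [h1 b]
        _ = _ := by group
    · intro a
      show g * x * g⁻¹ * (g * C.v a * g⁻¹) * (g * x * g⁻¹)⁻¹ =
        g * C.v a * g⁻¹ * (g * (C.R.u 0 (c * emb a) : X) * g⁻¹)
      calc g * x * g⁻¹ * (g * C.v a * g⁻¹) * (g * x * g⁻¹)⁻¹ = g * (x * C.v a * x⁻¹) * g⁻¹ := by group
        _ = g * (C.v a * (C.R.u 0 (c * emb a) : X)) * g⁻¹ := by rw [h2 a]
        _ = _ := by group

theorem conjCore_v (C : Core X) (g : X) (a : A4) : (conjCore C g).v a = g * C.v a * g⁻¹ := rfl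

/-! ### odd order -/

/-- an involution acting without fixed points inverts -/
theorem inverts {I : Subgroup X} [Finite I] {v : X} (hv : v * v = 1) (hn : ∀ x ∈ I, v * x * v⁻¹ ∈ I)
    (hf : ∀ x ∈ I, v * x = x * v → x = 1) {x : X} (hx : x ∈ I) : v * x * v⁻¹ = x⁻¹ := by
  let φ : I →* I :=
    { toFun := fun y => ⟨v * y * v⁻¹, hn y y.2⟩
      map_one' := Subtype.ext (by simp)
      map_mul' := fun a b => Subtype.ext (by
        show v * (a * b) * v⁻¹ = v * a * v⁻¹ * (v * b * v⁻¹)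
        group) }
  have h1 : MonoidHom.FixedPointFree φ := by
    intro g hg
    have h2 : v * g * v⁻¹ = g := congrArg Subtype.val hg
    rw [mul_inv_eq_iff_eq_mul] at h2
    exact Subtype.ext (hf g g.2 h2)
  have h2 : Function.Involutive φ := by
    intro g
    apply Subtype.ext
    show v * (v * (g : X) * v⁻¹) * v⁻¹ = g
    have : v * (v * (g : X) * v⁻¹) * v⁻¹ = (v * v) * g * (v * v)⁻¹ := by group
    rw [this, hv]; group
  have h3 := congrFun (h1.coe_eq_inv_of_involutive h2) ⟨x, hx⟩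
  exact congrArg Subtype.val h3

/-- three involutions without fixed points -/
theorem eq_bot_of_three {I : Subgroup X} [Finite I] {a b : X} (ha2 : a * a = 1) (hb2 : b * b = 1)
    (ha : ∀ x ∈ I, a * x * a⁻¹ ∈ I) (hb : ∀ x ∈ I, b * x * b⁻¹ ∈ I) (fa : ∀ x ∈ I, a * x = x * a → x = 1)
    (fb : ∀ x ∈ I, b * x = x * b → x = 1) (fab : ∀ x ∈ I, (a * b) * x = x * (a * b) → x = 1) : I = ⊥ := by
  rw [eq_bot_iff]
  intro x hx
  rw [mem_bot]
  apply fab x hx
  have h1 := inverts ha2 ha fa (inv_mem hx)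
  have h2 := inverts hb2 hb fb hx
  rw [inv_inv] at h1
  have h3 : (a * b) * x * (a * b)⁻¹ = x := by
    calc (a * b) * x * (a * b)⁻¹ = a * (b * x * b⁻¹) * a⁻¹ := by group
      _ = x := by rw [h2, h1]
  exact mul_inv_eq_iff_eq_mul.1 h3

theorem eq_one_of_pow {I : Subgroup X} (hI : Odd (Nat.card I)) {x : X} (hx : x ∈ I) (h : x ^ 4 = 1) : x = 1 := by
  have e1 : orderOf x ∣ 2 ^ 2 := orderOf_dvd_of_pow_eq_one h
  have e2 : orderOf x ∣ Nat.card I := by
    have := orderOf_dvd_natCard (⟨x, hx⟩ : I)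
    rwa [Subgroup.orderOf_mk] at this
  have e3 : Nat.Coprime (2 ^ 2) (Nat.card I) := Nat.Coprime.pow_left 2 hI.coprime_two_left
  exact orderOf_eq_one_iff.1 (Nat.eq_one_of_dvd_coprimes e3 e1 e2)

/-! ### centralisers in `V × L` -/

/-- the centraliser of `z b` in `L` -/
theorem mem_T {C : Core X} {b : K8} (hb : b ≠ 0) {l : X} (hl : l ∈ C.L) (h : l * C.z b = C.z b * l) :
    ∃ c e, l = C.U c e := by
  have h1 := C.R.mem_T_of_comm_Z (C.R.u_zero_mem_Z b) (C.R.u_ne_one hb) (g := ⟨l, hl⟩) (Subtype.ext h)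
  obtain ⟨c, e, hab⟩ := h1
  exact ⟨c, e, congrArg Subtype.val hab⟩

theorem U_pow (C : Core X) (a b : K8) : C.U a b ^ 4 = 1 := by
  have : C.U a b ^ 4 = (C.U a b * C.U a b) * (C.U a b * C.U a b) := by
    simp only [pow_succ, pow_zero, one_mul, mul_assoc]
  rw [this, C.U_sq, C.z_sq]

theorem pow_four_of {C : Core X} {b : K8} (hb : b ≠ 0) {l : X} (hl : l ∈ C.L) (h : l * C.z b = C.z b * l) :
    l ^ 4 = 1 := by
  obtain ⟨c, e, rfl⟩ := mem_T hb hl h
  exact U_pow C c e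

/-- `Z(L) = 1` -/
theorem eq_one_of_central {C : Core X} {l : X} (hl : l ∈ C.L) (h : ∀ m ∈ C.L, m * l = l * m) : l = 1 := by
  obtain ⟨c, e, rfl⟩ := mem_T (C := C) one_ne_zero hl (h _ (C.z_mem 1)).symm
  let k0 : K8ˣ := Units.mk0 K8.al (by decide +kernel)
  have h1 := C.dk_conj k0 c e
  rw [h _ (C.dk_mem k0), mul_inv_cancel_right] at h1
  obtain ⟨h2, h3⟩ := C.U_inj h1
  have h4 : ∀ c e : K8, c = c * K8.al ^ 5 → e = e * K8.al ^ 4 → c = 0 ∧ e = 0 := by decide +kernel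
  obtain ⟨rfl, rfl⟩ := h4 c e h2 h3
  exact C.U_zero

theorem vl_sq (C : Core X) {b : A4} {l : X} (hl : l ∈ C.L) : (C.v b * l) * (C.v b * l) = l * l := by
  calc (C.v b * l) * (C.v b * l) = C.v b * (l * C.v b) * l := by group
    _ = C.v b * (C.v b * l) * l := by rw [C.v_comm b l hl]
    _ = (C.v b * C.v b) * (l * l) := by group
    _ = l * l := by rw [C.v_sq, one_mul]

theorem L_comm_v (C : Core X) (a : A4) {l : X} (hl : l ∈ C.L) : l * C.v a = C.v a * l := (C.v_comm a l hl).symm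

/-- elements of odd order of `V L` lie in `L` -/
theorem mem_L_of_odd {C : Core X} {I : Subgroup X} (hI : Odd (Nat.card I)) {b : A4} {l : X} (hl : l ∈ C.L)
    (hx : C.v b * l ∈ I) : C.v b * l ∈ C.L := by
  obtain ⟨k, hk⟩ := hI
  have h1 : (C.v b * l) ^ (2 * k + 1) = 1 := by
    have := pow_card_eq_one' (x := (⟨_, hx⟩ : I))
    rw [hk] at this
    exact congrArg Subtype.val this
  have h2 : C.v b * l = ((C.v b * l) * (C.v b * l)) ^ (k + 1) := by
    calc C.v b * l = 1 * (C.v b * l) := by rw [one_mul]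
      _ = (C.v b * l) ^ (2 * k + 1) * (C.v b * l) := by rw [h1]
      _ = (C.v b * l) ^ (2 * (k + 1)) := by rw [← pow_succ]; congr 1
      _ = _ := by rw [pow_mul, pow_two]
  rw [h2, vl_sq C hl]
  exact pow_mem (mul_mem hl hl) _

/-- `O(C(z)) = 1` -/
theorem bal_z [Finite X] (C : Core X) : ∀ I : Subgroup X, (∀ i ∈ I, i * C.z 1 = C.z 1 * i) →
    (∀ c : X, c * C.z 1 = C.z 1 * c → ∀ i ∈ I, c * i * c⁻¹ ∈ I) → Odd (Nat.card ↥I) → I = ⊥ := by
  intro I h1 h2 h3
  have hf : ∀ a : A4, a ≠ 0 → ∀ x ∈ I, C.v a * x = x * C.v a → x = 1 := by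
    intro a ha x hx hxa
    obtain ⟨b, l, hl, rfl⟩ := C.cent a ha x hxa.symm
    apply eq_one_of_pow h3 hx
    have h4 : l * C.z 1 = C.z 1 * l := by
      have h5 := h1 _ hx
      have h6 : C.v b * (l * C.z 1) = C.v b * (C.z 1 * l) := by
        calc C.v b * (l * C.z 1) = C.v b * l * C.z 1 := by group
          _ = C.z 1 * C.v b * l := by rw [h5]; group
          _ = C.v b * C.z 1 * l := by rw [C.v_z_comm]
          _ = _ := by group
      exact mul_left_cancel h6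
    have h7 := pow_four_of one_ne_zero hl h4
    have h8 : (C.v b * l) ^ 4 = ((C.v b * l) * (C.v b * l)) * ((C.v b * l) * (C.v b * l)) := by
      simp only [pow_succ, pow_zero, one_mul, mul_assoc]
    rw [h8, vl_sq C hl, ← h7]
    simp only [pow_succ, pow_zero, one_mul, mul_assoc]
  refine eq_bot_of_three (C.v_sq (1, 0)) (C.v_sq (0, 1)) (h2 _ (C.v_z_comm _ _)) (h2 _ (C.v_z_comm _ _))
    (hf _ (by decide)) (hf _ (by decide)) ?_
  rw [← C.v_add]
  exact hf _ (by decide)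

/-- `O(C(v)) = 1` -/
theorem bal_v [Finite X] (C : Core X) {a : A4} (ha : a ≠ 0) : ∀ I : Subgroup X, (∀ i ∈ I, i * C.v a = C.v a * i) →
    (∀ c : X, c * C.v a = C.v a * c → ∀ i ∈ I, c * i * c⁻¹ ∈ I) → Odd (Nat.card ↥I) → I = ⊥ := by
  intro I h1 h2 h3
  have hL : ∀ x ∈ I, x ∈ C.L := by
    intro x hx
    obtain ⟨b, l, hl, rfl⟩ := C.cent a ha x (h1 x hx)
    exact mem_L_of_odd h3 hl hx
  have hf : ∀ b : K8, b ≠ 0 → ∀ x ∈ I, C.z b * x = x * C.z b → x = 1 := by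
    intro b hb x hx hxb
    exact eq_one_of_pow h3 hx (pow_four_of hb (hL x hx) hxb.symm)
  have hz : ∀ b, C.z b * C.v a = C.v a * C.z b := fun b => (C.v_z_comm a b).symm
  refine eq_bot_of_three (C.z_sq 1) (C.z_sq K8.al) (h2 _ (hz _)) (h2 _ (hz _))
    (hf _ one_ne_zero) (hf _ (by decide +kernel)) ?_
  rw [← C.z_add]
  exact hf _ (by decide +kernel)

/-! ### 2-central involutions -/

theorem cen_z [Finite X] (C : Core X) : Cen (C.z 1) := by
  obtain ⟨P, -, h, -⟩ := InvC.exists_sylow C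
  exact ⟨P, h⟩

theorem cen_zc [Finite X] (C : Core X) {x : X} (hx : ZC C x) : Cen x := by
  obtain ⟨g, hg⟩ := hx
  exact cen_conj hg (cen_z C)

theorem z1 [Finite X] (C : Core X) (S : Sylow 2 X) (a : X) (ha1 : a ≠ 1)
    (hac : ∀ s ∈ S, s * a = a * s) (b : X) (hb1 : b ≠ 1)
    (hbc : ∀ s ∈ S, s * b = b * s) : a = b := by
  have : Fact (Nat.Prime 2) := ⟨Nat.prime_two⟩
  obtain ⟨S₀, -, -, -, -, h3⟩ := InvC.exists_sylow C
  obtain ⟨g, rfl⟩ := MulAction.exists_smul_eq X S₀ S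
  have key : ∀ a : X, a ≠ 1 → (∀ s ∈ g • S₀, s * a = a * s) → g⁻¹ * a * g = C.z 1 := by
    intro a ha1 hac
    rcases h3 (g⁻¹ * a * g) (fun x hx => by
      have := hac (g * x * g⁻¹) (mem_smul_sylow.2 hx)
      calc x * (g⁻¹ * a * g) = g⁻¹ * (g * x * g⁻¹ * a) * g := by group
        _ = g⁻¹ * (a * (g * x * g⁻¹)) * g := by rw [this]
        _ = g⁻¹ * a * g * x := by group) with h1 | h1
    · exfalso
      apply ha1
      calc a = g * (g⁻¹ * a * g) * g⁻¹ := by group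
        _ = 1 := by rw [h1]; group
    · exact h1
  have e1 := key a ha1 hac
  have e2 := key b hb1 hbc
  calc a = g * (g⁻¹ * a * g) * g⁻¹ := by group
    _ = g * (g⁻¹ * b * g) * g⁻¹ := by rw [e1, e2]
    _ = b := by group

/-! ### the class of `v` -/

/-- `C.z 1` is 2-central in `L` -/
theorem cen_L (C : Core X) : Cen (⟨C.z 1, C.z_mem 1⟩ : C.L) := by
  have hfin : Finite C.L := Nat.finite_of_card_ne_zero (by rw [card_L C]; norm_num)
  apply cen_of_index
  rintro ⟨m, hm⟩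
  have h1 := (centralizer ({(⟨C.z 1, C.z_mem 1⟩ : C.L)} : Set C.L)).index_mul_card
  rw [card_L C, hm] at h1
  have h2 : Nat.card C.R.T = 64 := by
    have e : K8 × K8 ≃ C.R.T := Equiv.ofBijective (fun p => ⟨C.R.u p.1 p.2, C.R.u_mem _ _⟩) ⟨by
      rintro ⟨a, b⟩ ⟨c, d⟩ h
      obtain ⟨h1, h2⟩ := C.R.u_inj (congrArg Subtype.val h)
      simp only at h1 h2
      rw [h1, h2], by
      rintro ⟨x, a, b, rfl⟩
      exact ⟨(a, b), rfl⟩⟩
    rw [← Nat.card_congr e, Nat.card_prod, K8.natCard]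
  have h3 : C.R.T ≤ centralizer ({(⟨C.z 1, C.z_mem 1⟩ : C.L)} : Set C.L) := by
    rintro _ ⟨a, b, rfl⟩
    rw [mem_centralizer_singleton_iff]
    exact Subtype.ext (C.U_z_comm a b 1)
  have h4 := card_dvd_of_le h3
  rw [h2] at h4
  obtain ⟨k, hk⟩ := h4
  rw [hk] at h1
  have h5 : 128 * (m * k) = 29120 := by rw [← h1]; ring
  omega

theorem invL_zc {C : Core X} [Finite X] {l : X} (hl : InvL C l) : ZC C l := InvL.zc hl

/-- `V` -/
def VV (C : Core X) : Subgroup X where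
  carrier := {x | ∃ b, x = C.v b}
  mul_mem' := by
    rintro _ _ ⟨a, rfl⟩ ⟨b, rfl⟩
    exact ⟨a + b, (C.v_add a b).symm⟩
  one_mem' := ⟨0, C.v_zero.symm⟩
  inv_mem' := by
    rintro _ ⟨a, rfl⟩
    exact ⟨a, C.v_inv a⟩

theorem card_VV (C : Core X) : Nat.card (VV C) = 4 := by
  have e : A4 ≃ VV C := Equiv.ofBijective (fun a => ⟨C.v a, a, rfl⟩) ⟨by
    intro a b h
    exact C.v_inj (congrArg Subtype.val h), by
    rintro ⟨x, a, rfl⟩
    exact ⟨a, rfl⟩⟩
  rw [← Nat.card_congr e, Nat.card_prod, Nat.card_zmod]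

/-- a normal subgroup of `C(v)` without 2-central involutions is in `V` -/
theorem bad_le [Finite X] (C : Core X) {a : A4} (ha : a ≠ 0) {N : Subgroup X} (h : Bad (C.v a) N) : N ≤ VV C := by
  have hLc : ∀ l ∈ C.L, l * C.v a = C.v a * l := fun l hl => L_comm_v C a hl
  have hNL : N ⊓ C.L = ⊥ := by
    apply bal_v C ha
    · intro i hi
      exact h.le i hi.1
    · intro c hc i hi
      have hi2 : i ∈ C.L := hi.2
      refine mem_inf.2 ⟨h.norm c hc i hi.1, ?_⟩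
      obtain ⟨b, l, hl, rfl⟩ := C.cent a ha c hc
      have h1 : C.v b * l * i * (C.v b * l)⁻¹ = l * i * l⁻¹ := by
        have h2 := C.v_comm b (l * i * l⁻¹) (mul_mem (mul_mem hl hi2) (inv_mem hl))
        calc C.v b * l * i * (C.v b * l)⁻¹ = (C.v b * (l * i * l⁻¹)) * (C.v b)⁻¹ := by group
          _ = (l * i * l⁻¹ * C.v b) * (C.v b)⁻¹ := by rw [h2]
          _ = _ := by group
      rw [h1]
      exact mul_mem (mul_mem hl hi2) (inv_mem hl)
    · rw [← Nat.not_even_iff_odd, even_iff_two_dvd]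
      intro h2
      have : Fact (Nat.Prime 2) := ⟨Nat.prime_two⟩
      obtain ⟨⟨x, hxNL⟩, hx⟩ := exists_prime_orderOf_dvd_card' 2 h2
      rw [Subgroup.orderOf_mk] at hx
      obtain ⟨hxN, hxL⟩ := mem_inf.1 hxNL
      have hxx : x * x = 1 := by
        have := pow_orderOf_eq_one x
        rw [hx, pow_two] at this
        exact this
      have hx1 : x ≠ 1 := by
        rintro rfl
        rw [orderOf_one] at hx
        norm_num at hx
      exact h.non x hxN hxx hx1 (cen_zc C (invL_zc ⟨hxL, hxx, hx1⟩))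
  intro n hn
  obtain ⟨b, l, hl, rfl⟩ := C.cent a ha n (h.le n hn)
  have hl1 : l = 1 := by
    apply eq_one_of_central hl
    intro m hm
    have h1 : m * (C.v b * l) * m⁻¹ * (C.v b * l)⁻¹ = m * l * m⁻¹ * l⁻¹ := by
      have h3 := C.v_comm b m hm
      have h2 := C.v_comm b (m * l * m⁻¹ * l⁻¹) (mul_mem (mul_mem (mul_mem hm hl) (inv_mem hm)) (inv_mem hl))
      calc m * (C.v b * l) * m⁻¹ * (C.v b * l)⁻¹ = (m * C.v b) * l * m⁻¹ * l⁻¹ * (C.v b)⁻¹ := by group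
        _ = (C.v b * (m * l * m⁻¹ * l⁻¹)) * (C.v b)⁻¹ := by rw [← h3]; group
        _ = (m * l * m⁻¹ * l⁻¹ * C.v b) * (C.v b)⁻¹ := by rw [h2]
        _ = _ := by group
    have h4 : m * l * m⁻¹ * l⁻¹ ∈ N ⊓ C.L := by
      refine mem_inf.2 ⟨?_, mul_mem (mul_mem (mul_mem hm hl) (inv_mem hm)) (inv_mem hl)⟩
      rw [← h1]
      exact mul_mem (h.norm m (hLc m hm) _ hn) (inv_mem hn)
    rw [hNL, mem_bot] at h4
    calc m * l = (m * l * m⁻¹ * l⁻¹) * (l * m) := by group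
      _ = l * m := by rw [h4, one_mul]
  exact ⟨b, by rw [hl1, mul_one]⟩

/-- `VFacts V L` -/
theorem vfacts [Finite X] (C : Core X) : VFacts (VV C) C.L where
  comm := by
    rintro _ ⟨a, rfl⟩ _ ⟨b, rfl⟩
    exact C.v_v_comm a b
  perf := by
    have h1 := NormL.perfect C.R
    rw [← map_subtype_commutator, h1, ← MonoidHom.range_eq_map, range_subtype]
  cent := by
    rintro l hl _ ⟨a, rfl⟩
    exact L_comm_v C a hl
  max := by
    intro P hP hc
    rw [← hP, commutator_le]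
    intro x hx y hy
    have ha : ((1, 0) : A4) ≠ 0 := by decide
    obtain ⟨b, l, hl, rfl⟩ := C.cent _ ha x (hc x hx _ ⟨_, rfl⟩)
    obtain ⟨c, m, hm, rfl⟩ := C.cent _ ha y (hc y hy _ ⟨_, rfl⟩)
    have h1 : C.v b * l * (C.v c * m) * (C.v b * l)⁻¹ * (C.v c * m)⁻¹ = l * m * l⁻¹ * m⁻¹ := by
      have e1 := C.v_comm c l hl
      have e2 := C.v_comm b (l * m * l⁻¹) (mul_mem (mul_mem hl hm) (inv_mem hl))
      have e3 := C.v_comm c (l * m * l⁻¹ * m⁻¹) (mul_mem (mul_mem (mul_mem hl hm) (inv_mem hl)) (inv_mem hm))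
      calc C.v b * l * (C.v c * m) * (C.v b * l)⁻¹ * (C.v c * m)⁻¹
          = C.v b * (l * C.v c) * m * l⁻¹ * (C.v b)⁻¹ * m⁻¹ * (C.v c)⁻¹ := by group
        _ = (C.v b * C.v c) * (l * m * l⁻¹) * (C.v b)⁻¹ * m⁻¹ * (C.v c)⁻¹ := by rw [← e1]; group
        _ = (C.v c * C.v b) * (l * m * l⁻¹) * (C.v b)⁻¹ * m⁻¹ * (C.v c)⁻¹ := by rw [C.v_v_comm]
        _ = C.v c * (C.v b * (l * m * l⁻¹)) * (C.v b)⁻¹ * m⁻¹ * (C.v c)⁻¹ := by group
        _ = C.v c * (l * m * l⁻¹ * C.v b) * (C.v b)⁻¹ * m⁻¹ * (C.v c)⁻¹ := by rw [e2]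
        _ = (C.v c * (l * m * l⁻¹ * m⁻¹)) * (C.v c)⁻¹ := by group
        _ = (l * m * l⁻¹ * m⁻¹ * C.v c) * (C.v c)⁻¹ := by rw [e3]
        _ = _ := by group
    show C.v b * l * (C.v c * m) * (C.v b * l)⁻¹ * (C.v c * m)⁻¹ ∈ C.L
    rw [h1]
    exact mul_mem (mul_mem (mul_mem hl hm) (inv_mem hl)) (inv_mem hm)
  kill := by
    right
    refine ⟨?_, ?_⟩
    · rintro _ ⟨b, rfl⟩ - hb1
      have hb : b ≠ 0 := by
        rintro rfl
        exact hb1 C.v_zero
      obtain ⟨k, hk⟩ := exists_grow' (C := C) hb z_one_inv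
      refine ⟨k, ⟨C.z 1, C.z_mem 1⟩, ?_, hk, cen_L C⟩
      intro h
      exact absurd (C.z_eq_one h) one_ne_zero
    · rintro ⟨l, hl⟩ h1 h2 -
      have h1' : l * l = 1 := congrArg Subtype.val h1
      have h2' : l ≠ 1 := fun h => h2 (Subtype.ext h)
      exact cen_zc C (invL_zc ⟨hl, h1', h2'⟩)

/-- **the sheet of a group with `Core` all of whose automorphisms are inner** -/
theorem sheet [Finite X] (C : Core X) (inn : ∀ α : MulAut X, Inn α) : Spor.Sheet X where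
  out := out_of_inn inn
  schreier := schreier_of_inn inn
  sylAut := sylAut_of_inn inn
  z1 := fun S a _ _ ha1 hac b _ _ hb1 hbc => z1 C S a ha1 hac b hb1 hbc
  bal := by
    intro a h1 h2
    rcases InvC.invol_cases C h1 h2 with ⟨g, hg⟩ | ⟨g, b, hb, hg⟩
    · exact bal_of_one (bal_z C) hg
    · exact bal_of_one (bal_v C hb) hg
  out2 := out2_of_inn inn
  tab := by
    apply tab_of_elt
    intro w N hN V hVN hV _ _ _ h4
    rcases InvC.invol_cases C hN.sq hN.ne with ⟨g, hg⟩ | ⟨g, b, hb, hg⟩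
    · exact absurd (cen_zc C ⟨g, hg⟩) (hN.non w hN.mem hN.sq hN.ne)
    · let C' := conjCore C g
      have hw : w = C'.v b := hg.symm
      rw [hw] at hN
      have hVV : V ≤ VV C' := hVN.trans (bad_le C' hb hN)
      have hV4 : V = VV C' := by
        apply eq_of_le_of_card_ge hVV
        rw [card_VV]
        exact Nat.le_of_dvd Nat.card_pos h4
      rw [hV4]
      exact ⟨C'.L, vfacts C'⟩

end Cfsg.Agent.OddHalf.D4.Spor.RuCore
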