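import Cfsg.Agent.OddHalf.D4.Spor.RuCore
import Cfsg.Agent.OddHalf.Table.OutRu
import Cfsg.Agent.RuC.Trans

/-!
# ODD half, D4: the automorphisms of the Rudvalis group; its sheet from a core (helper483)
-/

set_option autoImplicit false

namespace Cfsg.Agent.OddHalf.D4.Spor.RuIso

open Subgroup Cfsg.Agent.RuB

variable {X : Type*} [Group X]

/-- all automorphisms of the Rudvalis group are inner -/
theorem inn (h : Cfsg.Spor.IsoRu X) (α : MulAut X) : Inn α := by
  obtain ⟨e0⟩ := h
  let e := e0.trans Cfsg.Agent.RuLat.Main.equiv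
  obtain ⟨g, hg⟩ := Cfsg.Agent.OddHalf.Table.OutRu.inner (e.symm.trans (α.trans e))
  refine ⟨e.symm g, ?_⟩
  ext x
  have h1 : e (α (e.symm (e x))) = g * e x * g⁻¹ := by
    have := congrArg (fun t : MulAut _ => t (e x)) hg
    exact this
  rw [e.symm_apply_apply] at h1
  rw [MulAut.conj_apply]
  apply e.injective
  rw [h1, map_mul, map_mul, map_inv, e.apply_symm_apply]

theorem finite (h : Cfsg.Spor.IsoRu X) : Finite X :=
  Nat.finite_of_card_ne_zero (by rw [Cfsg.Agent.RuC.Trans.natCard_of_isoRu h]; norm_num)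

/-- the sheet of the Rudvalis group from a core -/
theorem sheet_of_core (h : Cfsg.Spor.IsoRu X) (C : Core X) : Spor.Sheet X := by
  have := finite h
  exact RuCore.sheet C (inn h)

end Cfsg.Agent.OddHalf.D4.Spor.RuIso
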